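import Cfsg.Agent.Lib.Classical.PSLSimple
import Cfsg.Agent.Lib.Small.Order60
import Cfsg.Agent.Lib.Transfer.CentralTransfer

/-!
Perfect double covers of the alternating group of degree five are `SL(2,5)`; automorphisms of the
alternating group of degree five.
-/

namespace CfsgLib.Perm.Zass

open Subgroup
open scoped commutatorElement

theorem commutator_card_le_two {S : Type*} [Group S] [Finite S] (K : Subgroup S)
    (hK : K ≤ center S) (h4 : K.index = 4) : Nat.card (commutator S) ≤ 2 := by
  by_cases hab : ∀ a b : S, a * b = b * a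
  · have h : commutator S = ⊥ := by
      rw [eq_bot_iff, commutator_eq_closure, Subgroup.closure_le]
      rintro _ ⟨a, b, rfl⟩
      exact mem_bot.2 (commutatorElement_eq_one_iff_mul_comm.2 (hab a b))
    rw [h, card_bot]; norm_num
  have hcyc : ¬ IsCyclic (S ⧸ center S) := fun h =>
    hab fun a b => commutative_of_cyclic_center_quotient (QuotientGroup.mk' (center S)) (by simp) a b
  have hZ : (center S).index = 4 := by
    have hd := index_dvd_of_le hK
    rw [h4] at hd
    have hle := Nat.le_of_dvd (by norm_num) hd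
    interval_cases hi : (center S).index
    · exact absurd hi index_ne_zero_of_finite
    · exact absurd (isCyclic_of_card_dvd_prime (p := 2) (by rw [← index_eq_card, hi]; norm_num)) hcyc
    · exact absurd (isCyclic_of_card_dvd_prime (p := 2) (by rw [← index_eq_card, hi])) hcyc
    · norm_num at hd
    · rfl
  have : Fact (Nat.Prime 2) := ⟨Nat.prime_two⟩
  have hcz : ∀ g s : S, ⁅g, s⁆ ∈ center S := by
    intro g s
    rw [← QuotientGroup.eq_one_iff, ← QuotientGroup.mk'_apply, map_commutatorElement,
      commutatorElement_eq_one_iff_mul_comm]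
    exact (IsPGroup.isMulCommutative_of_card_eq_prime_sq (p := 2)
      (by rw [← index_eq_card, hZ]; norm_num)).is_comm.comm _ _
  -- centralisers of non-central elements have index two
  have hH : ∀ s t : S, s * t ≠ t * s → (centralizer ({s} : Set S)).index = 2 := by
    intro s t hst
    have hle : center S ≤ centralizer ({s} : Set S) := center_le_centralizer _
    have hd := index_dvd_of_le hle
    rw [hZ] at hd
    have h1 : (centralizer ({s} : Set S)).index ≠ 1 := by
      rw [ne_eq, index_eq_one]
      intro h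
      exact hst (mem_centralizer_singleton_iff.1 (h ▸ mem_top t)).symm
    have h4' : (centralizer ({s} : Set S)).index ≠ 4 := by
      intro h
      have heq : center S = centralizer ({s} : Set S) := by
        refine eq_of_le_of_card_ge hle ?_
        have e1 := card_mul_index (center S)
        have e2 := card_mul_index (centralizer ({s} : Set S))
        rw [hZ] at e1
        rw [h] at e2
        omega
      have hs : s ∈ center S := by rw [heq, mem_centralizer_singleton_iff]
      exact hst ((mem_center_iff.1 hs t).symm)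
    have hle' := Nat.le_of_dvd (by norm_num) hd
    interval_cases hi : (centralizer ({s} : Set S)).index
    · exact absurd hi index_ne_zero_of_finite
    · omega
    · rfl
    · norm_num at hd
    · omega
  have hconst : ∀ s g g' : S, g * s ≠ s * g → g' * s ≠ s * g' → ⁅g, s⁆ = ⁅g', s⁆ := by
    intro s g g' hg hg'
    have h2 := hH s g hg.symm
    have hmem : g⁻¹ * g' ∈ centralizer ({s} : Set S) := by
      rw [mul_mem_iff_of_index_two h2, inv_mem_iff, mem_centralizer_singleton_iff,
        mem_centralizer_singleton_iff]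
      exact iff_of_false hg hg'
    rw [mem_centralizer_singleton_iff] at hmem
    have e : g' * s * g'⁻¹ = g * ((g⁻¹ * g') * s * (g⁻¹ * g')⁻¹) * g⁻¹ := by group
    rw [hmem, mul_inv_cancel_right] at e
    rw [commutatorElement_def, commutatorElement_def, ← e]
  have hsq : ∀ s t : S, ⁅t, s⁆ * ⁅t, s⁆ = 1 := by
    intro s t
    by_cases hts : t * s = s * t
    · rw [commutatorElement_eq_one_iff_mul_comm.2 hts, one_mul]
    have h2 := hH s t (fun h => hts h.symm)
    have hmem : t * t ∈ centralizer ({s} : Set S) := by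
      rw [mul_mem_iff_of_index_two h2]
    rw [mem_centralizer_singleton_iff] at hmem
    have hc := mem_center_iff.1 (hcz t s) t
    calc ⁅t, s⁆ * ⁅t, s⁆ = ⁅t, s⁆ * (t * s * t⁻¹ * s⁻¹) := rfl
      _ = t * (⁅t, s⁆ * s) * t⁻¹ * s⁻¹ := by simp only [← mul_assoc, ← hc]
      _ = t * t * s * (t * t)⁻¹ * s⁻¹ := by rw [commutatorElement_def]; group
      _ = 1 := by rw [hmem]; group
  obtain ⟨s, t, hst⟩ : ∃ s t : S, s * t ≠ t * s := by
    push Not at hab
    exact hab
  set c := ⁅t, s⁆ with hc
  have hinv : ∀ a b : S, ⁅a, b⁆ = ⁅b, a⁆ := by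
    intro a b
    rw [← commutatorElement_inv b a]
    exact inv_eq_of_mul_eq_one_right (hsq a b)
  have hinter : centralizer ({s} : Set S) ⊓ centralizer ({t} : Set S) = center S := by
    refine (eq_of_le_of_card_ge (le_inf (center_le_centralizer _) (center_le_centralizer _)) ?_).symm
    have e1 := card_mul_index (center S)
    have e2 := card_mul_index (centralizer ({s} : Set S))
    rw [hZ] at e1
    rw [hH s t hst] at e2
    have hlt : centralizer ({s} : Set S) ⊓ centralizer ({t} : Set S) < centralizer ({s} : Set S) :=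
      lt_of_le_of_ne inf_le_left fun h => hst (by
        have hs : s ∈ centralizer ({s} : Set S) := mem_centralizer_singleton_iff.2 rfl
        rw [← h] at hs
        exact mem_centralizer_singleton_iff.1 hs.2)
    obtain ⟨q, hq⟩ := card_dvd_of_le hlt.le
    have hq1 : q ≠ 1 := by
      intro h1
      rw [h1, mul_one] at hq
      exact hlt.ne (eq_of_le_of_card_ge hlt.le hq.le)
    rcases Nat.lt_or_ge q 2 with hq2 | hq2
    · have : q = 0 := by omega
      rw [this, mul_zero] at hq
      exact absurd hq Nat.card_pos.ne'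
    · have := Nat.mul_le_mul_left (Nat.card ↥(centralizer ({s} : Set S) ⊓ centralizer ({t} : Set S))) hq2
      omega
  have hall : ∀ u v : S, ⁅u, v⁆ = 1 ∨ ⁅u, v⁆ = c := by
    intro u v
    by_cases huv : u * v = v * u
    · exact Or.inl (commutatorElement_eq_one_iff_mul_comm.2 huv)
    right
    by_cases hus : u * s = s * u
    · by_cases hut : u * t = t * u
      · exfalso
        have hu : u ∈ center S := by
          rw [← hinter]
          exact ⟨mem_centralizer_singleton_iff.2 hus, mem_centralizer_singleton_iff.2 hut⟩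
        exact huv (mem_center_iff.1 hu v).symm
      · calc ⁅u, v⁆ = ⁅v, u⁆ := hinv _ _
          _ = ⁅t, u⁆ := hconst u v t (fun h => huv h.symm) (fun h => hut h.symm)
          _ = ⁅u, t⁆ := hinv _ _
          _ = ⁅s, t⁆ := hconst t u s hut hst
          _ = c := hinv _ _
    · calc ⁅u, v⁆ = ⁅v, u⁆ := hinv _ _
        _ = ⁅s, u⁆ := hconst u v s (fun h => huv h.symm) (fun h => hus h.symm)
        _ = ⁅u, s⁆ := hinv _ _
        _ = c := hconst s u t hus (fun h => hst h.symm)
  have hle : commutator S ≤ zpowers c := by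
    rw [commutator_eq_closure, Subgroup.closure_le]
    rintro _ ⟨u, v, rfl⟩
    rcases hall u v with h | h
    · rw [h]; exact one_mem _
    · rw [h]; exact mem_zpowers c
  refine (card_le_of_le hle).trans ?_
  rw [Nat.card_zpowers]
  exact Nat.le_of_dvd (by norm_num) (orderOf_dvd_of_pow_eq_one (by rw [pow_two]; exact hsq s t))

theorem mem_center_of_normal_card_two {G : Type*} [Group G] {N : Subgroup G} [hN : N.Normal]
    (h : Nat.card N = 2) {x : G} (hx : x ∈ N) : x ∈ center G := by
  rw [mem_center_iff]
  intro g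
  by_cases hx1 : x = 1
  · simp [hx1]
  have hy := hN.conj_mem x hx g
  obtain ⟨a, -, huniq⟩ := (Nat.card_eq_two_iff' (1 : N)).1 h
  have e1 := huniq ⟨x, hx⟩ (fun e => hx1 (congrArg Subtype.val e))
  have e2 := huniq ⟨g * x * g⁻¹, hy⟩ (fun e => hx1 (conj_eq_one_iff.1 (congrArg Subtype.val e)))
  have := congrArg Subtype.val (e2.trans e1.symm)
  exact mul_inv_eq_iff_eq_mul.1 this

/-- Two perfect covers of order 120 of the alternating group of degree five are isomorphic. -/
theorem nonempty_mulEquiv_of_cover {A B : Type*} [Group A] [Finite A] [Group B] [Finite B]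
    (hA : commutator A = ⊤) (hB : commutator B = ⊤) (hcA : Nat.card A = 120) (hcB : Nat.card B = 120)
    (fA : A →* alternatingGroup (Fin 5)) (hfA : Function.Surjective fA)
    (fB : B →* alternatingGroup (Fin 5)) (hfB : Function.Surjective fB) : Nonempty (A ≃* B) := by
  have h60 : Nat.card (alternatingGroup (Fin 5)) = 60 := by
    rw [nat_card_alternatingGroup, Nat.card_fin]; rfl
  let P : Subgroup (A × B) :=
    MonoidHom.eqLocus (fA.comp (MonoidHom.fst A B)) (fB.comp (MonoidHom.snd A B))
  have hP : ∀ p : A × B, p ∈ P ↔ fA p.1 = fB p.2 := fun p => Iff.rfl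
  let p1 : P →* A := (MonoidHom.fst A B).comp P.subtype
  let p2 : P →* B := (MonoidHom.snd A B).comp P.subtype
  have hp1 : Function.Surjective p1 := fun a => by
    obtain ⟨b, hb⟩ := hfB (fA a); exact ⟨⟨(a, b), (hP _).2 hb.symm⟩, rfl⟩
  have hp2 : Function.Surjective p2 := fun b => by
    obtain ⟨a, ha⟩ := hfA (fB b); exact ⟨⟨(a, b), (hP _).2 ha⟩, rfl⟩
  have hkA : Nat.card fA.ker = 2 := by
    have := card_mul_index fA.ker
    rw [index_ker, MonoidHom.range_eq_top.2 hfA, card_top, h60, hcA] at this
    omega
  have hkB : Nat.card fB.ker = 2 := by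
    have := card_mul_index fB.ker
    rw [index_ker, MonoidHom.range_eq_top.2 hfB, card_top, h60, hcB] at this
    omega
  have hkp1 : Nat.card p1.ker = 2 := by
    rw [← hkB]
    refine Nat.card_congr
      { toFun := fun q => ⟨(q.1 : A × B).2, ?_⟩
        invFun := fun b => ⟨⟨(1, b.1), (hP _).2 (by rw [map_one]; exact (MonoidHom.mem_ker.1 b.2).symm)⟩,
          MonoidHom.mem_ker.2 rfl⟩
        left_inv := fun q => Subtype.ext (Subtype.ext (Prod.ext (MonoidHom.mem_ker.1 q.2).symm rfl))
        right_inv := fun b => rfl }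
    rw [MonoidHom.mem_ker, ← (hP _).1 q.1.2, show (q.1 : A × B).1 = 1 from MonoidHom.mem_ker.1 q.2,
      map_one]
  have hcP : Nat.card P = 240 := by
    have h := card_mul_index p1.ker
    rw [index_ker, MonoidHom.range_eq_top.2 hp1, card_top, hcA, hkp1] at h
    omega
  set D : Subgroup P := commutator P with hD
  have hs1 : Function.Surjective (p1.comp D.subtype) := by
    rw [← MonoidHom.range_eq_top, MonoidHom.range_comp, range_subtype, hD, commutator_def,
      map_commutator, map_top_of_surjective p1 hp1, ← commutator_def, hA]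
  have hs2 : Function.Surjective (p2.comp D.subtype) := by
    rw [← MonoidHom.range_eq_top, MonoidHom.range_comp, range_subtype, hD, commutator_def,
      map_commutator, map_top_of_surjective p2 hp2, ← commutator_def, hB]
  by_cases hD120 : Nat.card D = 120
  · have e1 := MulEquiv.ofBijective _ (hs1.bijective_of_nat_card_le (by rw [hD120, hcA]))
    have e2 := MulEquiv.ofBijective _ (hs2.bijective_of_nat_card_le (by rw [hD120, hcB]))
    exact ⟨e1.symm.trans e2⟩
  exfalso
  have hDtop : commutator P = ⊤ := by
    have h1 : Nat.card A ≤ Nat.card D := Nat.card_le_card_of_surjective _ hs1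
    have h2 := card_subgroup_dvd_card D
    rw [hcP] at h2
    rw [hcA] at h1
    obtain ⟨q, hq⟩ := h2
    refine eq_top_of_card_eq _ ?_
    rw [hcP, ← hD]
    have hq3 : q < 3 := by
      by_contra hge
      have := Nat.mul_le_mul_left (Nat.card D) (Nat.le_of_not_lt hge)
      omega
    interval_cases q <;> omega
  let f : P →* alternatingGroup (Fin 5) := fA.comp p1
  have hf : Function.Surjective f := Function.Surjective.comp (g := fA) (f := p1) hfA hp1
  have hKcard : Nat.card f.ker = 4 := by
    have h := card_mul_index f.ker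
    rw [index_ker, MonoidHom.range_eq_top.2 hf, card_top, h60, hcP] at h
    omega
  have hKmem : ∀ q ∈ f.ker, (q : A × B).1 ∈ fA.ker ∧ (q : A × B).2 ∈ fB.ker := by
    intro q hq
    refine ⟨hq, ?_⟩
    rw [MonoidHom.mem_ker, ← (hP _).1 q.2]; exact hq
  have hKZ : f.ker ≤ center P := by
    intro q hq
    rw [mem_center_iff]
    intro g
    refine Subtype.ext (Prod.ext ?_ ?_)
    · exact mem_center_iff.1 (mem_center_of_normal_card_two hkA (hKmem q hq).1) _
    · exact mem_center_iff.1 (mem_center_of_normal_card_two hkB (hKmem q hq).2) _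
  have hsqK : ∀ q ∈ f.ker, q ^ 2 = 1 := by
    intro q hq
    refine Subtype.ext (Prod.ext ?_ ?_)
    · have h := pow_card_eq_one' (x := (⟨_, (hKmem q hq).1⟩ : fA.ker))
      rw [hkA] at h
      exact congrArg Subtype.val h
    · have h := pow_card_eq_one' (x := (⟨_, (hKmem q hq).2⟩ : fB.ker))
      rw [hkB] at h
      exact congrArg Subtype.val h
  have : Fact (Nat.Prime 2) := ⟨Nat.prime_two⟩
  obtain ⟨S, hS⟩ := (IsPGroup.of_card (p := 2) (n := 2) (by rw [hKcard]; norm_num) :
    IsPGroup 2 f.ker).exists_le_sylow
  have hScard : Nat.card (S : Subgroup P) = 16 := by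
    rw [S.card_eq_multiplicity, hcP,
      show Nat.factorization 240 2 = 4 by
        rw [show (240 : ℕ) = 2 ^ 4 * 15 by norm_num, Nat.factorization_mul (by norm_num) (by norm_num),
          Finsupp.add_apply, Nat.Prime.factorization_pow Nat.prime_two, Finsupp.single_eq_same,
          Nat.factorization_eq_zero_of_not_dvd (show ¬ 2 ∣ 15 by norm_num)]]
    rfl
  have hindex : (S : Subgroup P).index = 15 := by
    have := card_mul_index (S : Subgroup P)
    rw [hScard, hcP] at this
    omega
  let K' : Subgroup (S : Subgroup P) := f.ker.subgroupOf S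
  have hK'card : Nat.card K' = 4 := by
    rw [Nat.card_congr (subgroupOfEquivOfLe hS).toEquiv, hKcard]
  have hle : K' ≤ commutator (S : Subgroup P) := by
    intro z hz
    rw [← Abelianization.ker_of, MonoidHom.mem_ker]
    have h1 := CfsgLib.Transfer.map_pow_index_eq_one (Abelianization.of (G := (S : Subgroup P)))
      (z := z) (hKZ hz) (hDtop ▸ mem_top _)
    have h2 : (Abelianization.of z) ^ 2 = 1 := by
      rw [← map_pow, show z ^ 2 = 1 from Subtype.ext (by simpa using hsqK _ hz), map_one]
    rw [hindex] at h1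
    rw [← pow_one (Abelianization.of z), show (1 : ℕ) = Nat.gcd 15 2 from rfl]
    exact pow_gcd_eq_one.mpr ⟨h1, h2⟩
  have hsmall := commutator_card_le_two K'
    (fun z hz => mem_center_iff.2 fun g => Subtype.ext (mem_center_iff.1 (hKZ hz) g)) (by
      have := card_mul_index K'
      rw [hK'card, hScard] at this
      omega)
  have := card_le_of_le hle
  omega

theorem commutator_SL_five : commutator (Matrix.SpecialLinearGroup (Fin 2) (ZMod 5)) = ⊤ :=
  have : Fact (Nat.Prime 5) := ⟨by norm_num⟩
  CfsgLib.Classical.SL_fin_commutator_eq_top 2 le_rfl fun _ => by simp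

theorem card_SL_five : Nat.card (Matrix.SpecialLinearGroup (Fin 2) (ZMod 5)) = 120 := by
  have : Fact (Nat.Prime 5) := ⟨by norm_num⟩
  rw [CfsgLib.Classical.card_SL_two, Nat.card_zmod]; rfl

theorem exists_cover_SL_five : ∃ f : Matrix.SpecialLinearGroup (Fin 2) (ZMod 5) →*
    alternatingGroup (Fin 5), Function.Surjective f := by
  have : Fact (Nat.Prime 5) := ⟨by norm_num⟩
  have := CfsgLib.Classical.isSimpleGroup_PSL_fin (F := ZMod 5) 2 le_rfl fun _ => by simp
  obtain ⟨e⟩ := CfsgLib.Small.equiv_alternating_five
    (G := Matrix.ProjectiveSpecialLinearGroup (Fin 2) (ZMod 5))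
    (by rw [CfsgLib.Classical.card_PSL_two, Nat.card_zmod]; rfl)
  exact ⟨e.toMonoidHom.comp (QuotientGroup.mk' _), e.surjective.comp (QuotientGroup.mk'_surjective _)⟩

/-- The recognition of `SL(2,5)`. -/
theorem mulEquiv_SL_five {A : Type*} [Group A] [Finite A] (hA : commutator A = ⊤)
    (hcA : Nat.card A = 120) (fA : A →* alternatingGroup (Fin 5)) (hfA : Function.Surjective fA) :
    Nonempty (A ≃* Matrix.SpecialLinearGroup (Fin 2) (ZMod 5)) := by
  have : Fact (Nat.Prime 5) := ⟨by norm_num⟩
  obtain ⟨f, hf⟩ := exists_cover_SL_five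
  exact nonempty_mulEquiv_of_cover hA commutator_SL_five hcA card_SL_five fA hfA f hf

theorem closure_pair_alternating_five {a b : alternatingGroup (Fin 5)} (ha : orderOf a = 2)
    (hb : orderOf b = 3) (hab : orderOf (a * b) = 5) : closure ({a, b} : Set _) = ⊤ := by
  set H := closure ({a, b} : Set (alternatingGroup (Fin 5))) with hH
  have h60 : Nat.card (alternatingGroup (Fin 5)) = 60 := by
    rw [nat_card_alternatingGroup, Nat.card_fin]; rfl
  have ham : a ∈ H := subset_closure (by simp)
  have hbm : b ∈ H := subset_closure (by simp)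
  have h30 : 30 ∣ Nat.card H := by
    have h2 := ha ▸ H.orderOf_dvd_natCard ham
    have h3 := hb ▸ H.orderOf_dvd_natCard hbm
    have h5 := hab ▸ H.orderOf_dvd_natCard (mul_mem ham hbm)
    omega
  have hd := H.card_mul_index
  rw [h60] at hd
  obtain ⟨q, hq⟩ := h30
  rcases Nat.lt_or_ge q 2 with hq2 | hq2
  · have : q = 1 := by
      rcases Nat.eq_zero_or_pos q with rfl | h
      · simp at hq; exact absurd hq Nat.card_pos.ne'
      · omega
    have hind : H.index = 2 := by rw [hq, this] at hd; omega
    have := normal_of_index_eq_two hind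
    have hs : IsSimpleGroup (alternatingGroup (Fin 5)) := alternatingGroup.isSimpleGroup (by simp)
    rcases hs.eq_bot_or_eq_top_of_normal H inferInstance with h | h
    · rw [h, card_bot] at hq; omega
    · exact h
  · have hge := Nat.mul_le_mul_left 30 hq2
    refine eq_top_of_card_eq _ ?_
    have h2 := card_subgroup_dvd_card H
    rw [h60] at h2 ⊢
    have := Nat.le_of_dvd (by norm_num) h2
    omega

theorem card_mulAut_alternating_five : Nat.card (MulAut (alternatingGroup (Fin 5))) ≤ 120 := by
  classical
  let T : Finset (alternatingGroup (Fin 5) × alternatingGroup (Fin 5)) :=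
    ((Finset.univ.filter fun g => g ^ 2 = 1 ∧ g ≠ 1) ×ˢ (Finset.univ.filter fun g => g ^ 3 = 1 ∧ g ≠ 1)).filter
      fun p => (p.1 * p.2) ^ 5 = 1 ∧ p.1 * p.2 ≠ 1
  have hT : T.card ≤ 120 := by decide +kernel
  obtain ⟨⟨a, b⟩, hab⟩ : T.Nonempty := by
    rw [← Finset.card_pos]
    decide +kernel
  simp only [T, Finset.mem_filter, Finset.mem_product, Finset.mem_univ, true_and] at hab
  obtain ⟨⟨⟨ha, ha1⟩, hb, hb1⟩, hc, hc1⟩ := hab
  have hgen := closure_pair_alternating_five (orderOf_eq_prime ha ha1) (orderOf_eq_prime hb hb1)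
    (haveI : Fact (Nat.Prime 5) := ⟨by norm_num⟩; orderOf_eq_prime hc hc1)
  let Φ : MulAut (alternatingGroup (Fin 5)) → T := fun σ => ⟨(σ a, σ b), by
    simp only [T, Finset.mem_filter, Finset.mem_product, Finset.mem_univ, true_and]
    refine ⟨⟨⟨?_, ?_⟩, ?_, ?_⟩, ?_, ?_⟩
    · rw [← map_pow, ha, map_one]
    · simpa using ha1
    · rw [← map_pow, hb, map_one]
    · simpa using hb1
    · rw [← map_mul, ← map_pow, hc, map_one]
    · rw [← map_mul]; exact fun e => hc1 (σ.injective (e.trans (map_one σ).symm))⟩
  have hΦ : Function.Injective Φ := by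
    intro σ σ' h
    have h' := congrArg Subtype.val h
    simp only [Φ, Prod.mk.injEq] at h'
    have heq : σ.toMonoidHom = σ'.toMonoidHom := MonoidHom.eq_of_eqOn_dense hgen (by
      rintro x (rfl | rfl)
      exacts [h'.1, h'.2])
    exact MulEquiv.ext fun x => DFunLike.congr_fun heq x
  calc Nat.card (MulAut (alternatingGroup (Fin 5))) ≤ Nat.card T := Nat.card_le_card_of_injective Φ hΦ
    _ = T.card := by simp
    _ ≤ 120 := hT

end CfsgLib.Perm.Zass
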