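import Cfsg.Agent.Lib.Perm.Zass.Complement
import Cfsg.Agent.Lib.Base.MinimalNormal

/-!
The quotient of a Frobenius complement by its large normal `Z`-subgroup: six types.
-/

namespace CfsgLib.Perm.Zass

open Subgroup
open scoped commutatorElement

theorem not_isZGroup_of_pair {T : Type*} [Group T] (M : Subgroup T) {x y : T}
    (hxM : x ∈ M) (hyM : y ∈ M) (hx : x * x = 1) (hy : y * y = 1) (hc : x * y = y * x)
    (hx1 : x ≠ 1) (hy1 : y ≠ 1) (hxy : x ≠ y) : ¬ IsZGroup M := by
  intro h
  let P : Subgroup M :=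
    { carrier := {1, ⟨x, hxM⟩, ⟨y, hyM⟩, ⟨x * y, mul_mem hxM hyM⟩}
      one_mem' := by simp
      mul_mem' := by
        have e1 : x * (x * y) = y := by rw [← mul_assoc, hx, one_mul]
        have e2 : x * y * x = y := by rw [hc, mul_assoc, hx, mul_one]
        have e3 : x * y * y = x := by rw [mul_assoc, hy, mul_one]
        have e4 : y * (x * y) = x := by rw [← mul_assoc, ← hc, e3]
        have e5 : x * y * (x * y) = 1 := by rw [← mul_assoc, e2, hy]
        have e6 : y * x = x * y := hc.symm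
        rintro a b (rfl | rfl | rfl | rfl) (rfl | rfl | rfl | rfl) <;>
          simp [Subtype.ext_iff, hx, hy, e1, e2, e3, e4, e5, e6]
      inv_mem' := by
        have e1 : x⁻¹ = x := inv_eq_of_mul_eq_one_right hx
        have e2 : y⁻¹ = y := inv_eq_of_mul_eq_one_right hy
        rintro a (rfl | rfl | rfl | rfl) <;> simp [Subtype.ext_iff, e1, e2, hc] }
  have hP : IsPGroup 2 P := by
    rintro ⟨a, ha⟩
    refine ⟨1, Subtype.ext (Subtype.ext ?_)⟩
    simp only [pow_one, pow_two, Subgroup.coe_mul, OneMemClass.coe_one]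
    rcases ha with rfl | rfl | rfl | rfl
    · simp
    · exact hx
    · exact hy
    · change x * y * (x * y) = 1
      rw [mul_assoc, ← mul_assoc y x y, ← hc, mul_assoc x y y, hy, mul_one, hx]
  have : Fact (Nat.Prime 2) := ⟨Nat.prime_two⟩
  obtain ⟨S, hS⟩ := hP.exists_le_sylow
  have := h.isZGroup 2 Nat.prime_two S
  have hPc : IsCyclic P := isCyclic_of_injective (Subgroup.inclusion hS) (Subgroup.inclusion_injective hS)
  obtain ⟨g, hg⟩ := hPc.exists_generator
  have hgg : g * g = 1 := by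
    rcases g with ⟨a, ha⟩
    refine Subtype.ext (Subtype.ext ?_)
    rcases ha with rfl | rfl | rfl | rfl
    · simp
    · exact hx
    · exact hy
    · change x * y * (x * y) = 1
      rw [mul_assoc, ← mul_assoc y x y, ← hc, mul_assoc x y y, hy, mul_one, hx]
  have hall : ∀ q : P, q = 1 ∨ q = g := by
    intro q
    obtain ⟨i, rfl⟩ := mem_zpowers_iff.1 (hg q)
    rw [← Int.emod_add_mul_ediv i 2, zpow_add, zpow_mul, show g ^ (2 : ℤ) = 1 by rw [zpow_two, hgg],
      one_zpow, mul_one]
    rcases Int.emod_two_eq i with h | h <;> rw [h]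
    · exact Or.inl (zpow_zero g)
    · exact Or.inr (zpow_one g)
  have hX : (⟨⟨x, hxM⟩, by simp [P]⟩ : P) = g :=
    (hall _).resolve_left fun e => hx1 (congrArg (fun q : P => ((q : M) : T)) e)
  have hY : (⟨⟨y, hyM⟩, by simp [P]⟩ : P) = g :=
    (hall _).resolve_left fun e => hy1 (congrArg (fun q : P => ((q : M) : T)) e)
  exact hxy (congrArg (fun q : P => ((q : M) : T)) (hX.trans hY.symm))

/-- Every non-trivial normal subgroup contains a four-group. -/
def HasPairs {T : Type*} [Group T] (A : Subgroup T) : Prop :=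
  ∀ x ∈ A, x ≠ 1 → ∃ g ∈ A, ∃ h ∈ A,
    (x * g * x⁻¹ * g⁻¹) * (x * g * x⁻¹ * g⁻¹) = 1 ∧ x * g * x⁻¹ * g⁻¹ ≠ 1 ∧
      h * (x * g * x⁻¹ * g⁻¹) * h⁻¹ ≠ x * g * x⁻¹ * g⁻¹ ∧
      x * g * x⁻¹ * g⁻¹ * (h * (x * g * x⁻¹ * g⁻¹) * h⁻¹) =
        h * (x * g * x⁻¹ * g⁻¹) * h⁻¹ * (x * g * x⁻¹ * g⁻¹)

theorem HasPairs.eq_bot {T : Type*} [Group T] {A : Subgroup T} (hA : HasPairs A) (M : Subgroup A)
    [hM : M.Normal] [IsZGroup M] : M = ⊥ := by
  rw [eq_bot_iff]
  intro x hx
  by_contra hx1
  obtain ⟨g, hg, h, hh, h1, h2, h3, h4⟩ := hA x x.2 fun e => hx1 (Subgroup.mem_bot.2 (Subtype.ext e))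
  set u : A := x * ⟨g, hg⟩ * x⁻¹ * ⟨g, hg⟩⁻¹ with hu
  have huM : u ∈ M := by
    have := mul_mem hx (hM.conj_mem _ (inv_mem hx) ⟨g, hg⟩)
    simpa [hu, mul_assoc] using this
  refine not_isZGroup_of_pair M huM (hM.conj_mem u huM ⟨h, hh⟩) (Subtype.ext h1) ?_ (Subtype.ext h4)
    (fun e => h2 (congrArg Subtype.val e)) (fun e => ?_) (fun e => h3 (congrArg Subtype.val e).symm)
    inferInstance
  · rw [show (⟨h, hh⟩ : A) * u * (⟨h, hh⟩ : A)⁻¹ * (⟨h, hh⟩ * u * (⟨h, hh⟩ : A)⁻¹) =
      ⟨h, hh⟩ * (u * u) * (⟨h, hh⟩ : A)⁻¹ by group, show u * u = 1 from Subtype.ext h1, mul_one,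
      mul_inv_cancel]
  · exact h2 (congrArg Subtype.val (conj_eq_one_iff.1 e))

theorem hasPairs_alternating_four : HasPairs (alternatingGroup (Fin 4)) := by
  unfold HasPairs; simp only [Equiv.Perm.mem_alternatingGroup]; decide +kernel

theorem hasPairs_perm_four : HasPairs (⊤ : Subgroup (Equiv.Perm (Fin 4))) := by
  unfold HasPairs; simp only [Subgroup.mem_top, true_and, forall_true_left]; decide +kernel

theorem normal_zGroup_eq_bot_five (M : Subgroup (alternatingGroup (Fin 5))) [M.Normal] [IsZGroup M] :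
    M = ⊥ := by
  have hs : IsSimpleGroup (alternatingGroup (Fin 5)) := alternatingGroup.isSimpleGroup (by simp)
  refine (hs.eq_bot_or_eq_top_of_normal M inferInstance).resolve_right fun h => ?_
  refine not_isZGroup_of_pair M (x := ⟨c[0, 1] * c[2, 3], by rw [Equiv.Perm.mem_alternatingGroup]; decide⟩)
    (y := ⟨c[0, 2] * c[1, 3], by rw [Equiv.Perm.mem_alternatingGroup]; decide⟩)
    (h ▸ mem_top _) (h ▸ mem_top _) (by decide) (by decide) (by decide) (by decide) (by decide) (by decide)
    inferInstance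

theorem hasPairs_perm_five : HasPairs (⊤ : Subgroup (Equiv.Perm (Fin 5))) := by
  unfold HasPairs; simp only [Subgroup.mem_top, true_and, forall_true_left]; decide +kernel

variable {G : Type*} [Group G]

/-- The five non-trivial quotient types. -/
def SixType (N : Subgroup G) : Prop :=
  N = ⊤ ∨
    (∃ f : G →* DihedralGroup 2, Function.Surjective f ∧ f.ker = N) ∨
    (∃ f : G →* alternatingGroup (Fin 4), Function.Surjective f ∧ f.ker = N) ∨
    (∃ f : G →* Equiv.Perm (Fin 4), Function.Surjective f ∧ f.ker = N) ∨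
    (∃ f : G →* alternatingGroup (Fin 5), Function.Surjective f ∧ f.ker = N) ∨
    (∃ f : G →* Equiv.Perm (Fin 5), Function.Surjective f ∧ f.ker = N)

theorem le_ker_of_pairs [Finite G] {A : Type*} [Group A]
    (hA : ∀ M : Subgroup A, M.Normal → IsZGroup M → M = ⊥) {f : G →* A}
    (hf : Function.Surjective f) (M : Subgroup G) [hM : M.Normal] [IsZGroup M] : M ≤ f.ker :=
  (Subgroup.map_eq_bot_iff M).1
    (hA _ (hM.map f hf) (IsZGroup.of_surjective (f.subgroupMap_surjective M)))

/-- The alternatives: the whole group, the four-group, or a group of order at least twelve in which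
normal `Z`-subgroups die. -/
theorem SixType.cases [Finite G] {N : Subgroup G} (h : SixType N) : N = ⊤ ∨
    (∃ f : G →* DihedralGroup 2, Function.Surjective f ∧ f.ker = N) ∨
    (12 ≤ N.index ∧ ∀ M : Subgroup G, M.Normal → IsZGroup M → M ≤ N) := by
  have top : ∀ {T : Type} [Group T], HasPairs (⊤ : Subgroup T) → 12 ≤ Nat.card T →
      ∀ f : G →* T, Function.Surjective f → f.ker = N →
        12 ≤ N.index ∧ ∀ M : Subgroup G, M.Normal → IsZGroup M → M ≤ N := by
    intro T _ hT hc f hf hN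
    refine ⟨by rw [← hN, index_ker, MonoidHom.range_eq_top.2 hf, card_top]; exact hc, fun M _ _ => ?_⟩
    refine (le_ker_of_pairs (fun M _ _ => hT.eq_bot M)
      (f := (Subgroup.topEquiv (G := T)).symm.toMonoidHom.comp f)
      ((Subgroup.topEquiv (G := T)).symm.surjective.comp hf) M).trans (le_of_eq ?_)
    ext g
    rw [← hN]
    exact MulEquiv.map_eq_one_iff ((Subgroup.topEquiv (G := T)).symm)
  have sub : ∀ {T : Type} [Group T] (A : Subgroup T), (∀ M : Subgroup A, M.Normal → IsZGroup M → M = ⊥) →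
      12 ≤ Nat.card A →
      ∀ f : G →* A, Function.Surjective f → f.ker = N →
        12 ≤ N.index ∧ ∀ M : Subgroup G, M.Normal → IsZGroup M → M ≤ N := by
    intro T _ A hA hc f hf hN
    exact ⟨by rw [← hN, index_ker, MonoidHom.range_eq_top.2 hf, card_top]; exact hc,
      fun M _ _ => hN ▸ le_ker_of_pairs hA hf M⟩
  rcases h with h | h | ⟨f, hf, hN⟩ | ⟨f, hf, hN⟩ | ⟨f, hf, hN⟩ | ⟨f, hf, hN⟩
  · exact Or.inl h
  · exact Or.inr (Or.inl h)
  · exact Or.inr (Or.inr (sub _ (fun M _ _ => hasPairs_alternating_four.eq_bot M)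
      (by rw [nat_card_alternatingGroup, Nat.card_fin]; decide) f hf hN))
  · exact Or.inr (Or.inr (top hasPairs_perm_four (by rw [Nat.card_perm, Nat.card_fin]; decide) f hf hN))
  · exact Or.inr (Or.inr (sub _ (fun M _ _ => normal_zGroup_eq_bot_five M)
      (by rw [nat_card_alternatingGroup, Nat.card_fin]; decide) f hf hN))
  · exact Or.inr (Or.inr (top hasPairs_perm_five (by rw [Nat.card_perm, Nat.card_fin]; decide) f hf hN))

theorem not_isZGroup_dihedral_two : ¬ IsZGroup (DihedralGroup 2) := fun h =>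
  not_isZGroup_of_pair (T := DihedralGroup 2) ⊤ (x := DihedralGroup.r 1) (y := DihedralGroup.sr 0)
    (mem_top _) (mem_top _) (by decide) (by decide) (by decide) (by decide) (by decide) (by decide)
    inferInstance

variable [Finite G] {k : Type*} [Field k] [IsAlgClosed k] {V : Type*}
  [AddCommGroup V] [Module k V] [FiniteDimensional k V] [Nontrivial V] {ρ : G →* Module.End k V}

theorem quaternion_generators {m : ℕ} (q : QuaternionGroup m) :
    q ∈ closure ({QuaternionGroup.a 1, QuaternionGroup.xa 0} : Set (QuaternionGroup m)) := by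
  have ha : ∀ i : ZMod (2 * m), QuaternionGroup.a i ∈
      closure ({QuaternionGroup.a 1, QuaternionGroup.xa 0} : Set (QuaternionGroup m)) := by
    intro i
    obtain ⟨j, rfl⟩ := ZMod.intCast_surjective i
    have : ∀ j : ℤ, (QuaternionGroup.a 1 : QuaternionGroup m) ^ j = QuaternionGroup.a (j : ZMod (2 * m)) := by
      intro j
      induction j with
      | zero => simp [QuaternionGroup.a_zero]
      | succ n ih => rw [zpow_add_one, ih, QuaternionGroup.a_mul_a]; push_cast; rfl
      | pred n ih =>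
        refine mul_right_cancel (b := QuaternionGroup.a 1) ?_
        rw [zpow_sub_one, inv_mul_cancel_right, ih, QuaternionGroup.a_mul_a]
        push_cast
        rw [sub_add_cancel]
    rw [← this]
    exact zpow_mem (subset_closure (by simp)) _
  cases q with
  | a i => exact ha i
  | xa i =>
    rw [show QuaternionGroup.xa i = QuaternionGroup.xa 0 * QuaternionGroup.a i by
      rw [QuaternionGroup.xa_mul_a, zero_add]]
    exact mul_mem (subset_closure (by simp)) (ha i)

/-- An image of exponent two has order at most four. -/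
theorem card_le_four (hρ : Fpf ρ) {H : Type*} [Group H] [Finite H] (f : G →* H)
    (hf : Function.Surjective f) (h2 : ∀ x : H, x * x = 1) : Nat.card H ≤ 4 := by
  have : Fact (Nat.Prime 2) := ⟨Nat.prime_two⟩
  have hH : IsPGroup 2 H := fun x => ⟨1, by rw [pow_one, pow_two, h2]⟩
  let S : Sylow 2 G := Classical.arbitrary _
  have htop : (S : Subgroup G).map f = ⊤ := by
    have := ((Sylow.mapSurjective hf S).is_maximal' (hH.to_subgroup ⊤) le_top).symm
    simpa [Sylow.coe_mapSurjective] using this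
  have key : ∀ x y : H, (∀ z, z ∈ closure ({x, y} : Set H)) → Nat.card H ≤ 4 := by
    intro x y hgen
    have hcomm : ∀ a b : H, a * b = b * a := fun a b => by
      rw [← inv_eq_of_mul_eq_one_right (h2 (a * b)), _root_.mul_inv_rev, inv_eq_of_mul_eq_one_right (h2 a),
        inv_eq_of_mul_eq_one_right (h2 b)]
    have hcover : ∀ z : H, z = 1 ∨ z = x ∨ z = y ∨ z = x * y := by
      intro z
      induction hgen z using closure_induction with
      | mem w hw =>
        rcases hw with rfl | rfl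
        · exact Or.inr (Or.inl rfl)
        · exact Or.inr (Or.inr (Or.inl rfl))
      | one => exact Or.inl rfl
      | mul a b _ _ ha hb =>
        have e1 : x * (x * y) = y := by rw [← mul_assoc, h2, one_mul]
        have e2 : y * (x * y) = x := by rw [hcomm y, mul_assoc, h2, mul_one]
        have e3 : x * y * y = x := by rw [mul_assoc, h2, mul_one]
        have e4 : x * y * x = y := by rw [hcomm x y, mul_assoc, h2, mul_one]
        rcases ha with ha | ha | ha | ha <;> rcases hb with hb | hb | hb | hb <;>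
          simp [ha, hb, h2, e1, e2, e3, e4, hcomm y x]
      | inv a _ ha => rwa [inv_eq_of_mul_eq_one_right (h2 a)]
    classical
    have := Fintype.ofFinite H
    rw [Nat.card_eq_fintype_card, ← Finset.card_univ]
    refine (Finset.card_le_card (t := {1, x, y, x * y}) fun z _ => ?_).trans Finset.card_le_four
    rcases hcover z with rfl | rfl | rfl | rfl <;> simp
  rcases pgroup_cases hρ S.isPGroup' with hc | ⟨-, n, -, ⟨e⟩⟩
  · obtain ⟨g, hg⟩ := hc.exists_generator
    refine key (f g) (f g) fun z => ?_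
    obtain ⟨s, hs, rfl⟩ := (htop ▸ mem_top z : z ∈ (S : Subgroup G).map f)
    obtain ⟨i, hi⟩ := mem_zpowers_iff.1 (hg ⟨s, hs⟩)
    rw [show f s = f g ^ i by rw [← map_zpow, ← SubgroupClass.coe_zpow, hi]]
    exact zpow_mem (subset_closure (by simp)) i
  · refine key (f (e.symm (QuaternionGroup.a 1) : G)) (f (e.symm (QuaternionGroup.xa 0) : G)) fun z => ?_
    obtain ⟨s, hs, rfl⟩ := (htop ▸ mem_top z : z ∈ (S : Subgroup G).map f)
    have hmem := Subgroup.mem_map_of_mem
      ((f.comp (S : Subgroup G).subtype).comp e.symm.toMonoidHom) (quaternion_generators (e ⟨s, hs⟩))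
    rw [MonoidHom.map_closure, Set.image_pair] at hmem
    simpa using hmem

/-- Uniqueness. -/
theorem sixType_unique (hρ : Fpf ρ) {N₁ N₂ : Subgroup G} (hn₁ : N₁.Normal) (hn₂ : N₂.Normal)
    (hz₁ : IsZGroup N₁) (hz₂ : IsZGroup N₂) (h₁ : SixType N₁) (h₂ : SixType N₂) : N₁ = N₂ := by
  have absurd_top : ∀ {N : Subgroup G}, IsZGroup (⊤ : Subgroup G) → SixType N → N = ⊤ := by
    intro N htop h
    have : IsZGroup G := IsZGroup.of_surjective (f := (Subgroup.topEquiv (G := G)).toMonoidHom) (MulEquiv.surjective _)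
    rcases h.cases with h | ⟨f, hf, -⟩ | ⟨-, h⟩
    · exact h
    · exact absurd (IsZGroup.of_surjective hf) not_isZGroup_dihedral_two
    · exact top_le_iff.1 (h ⊤ inferInstance htop)
  rcases h₁.cases with rfl | ⟨f₁, hf₁, hk₁⟩ | ⟨hi₁, hle₁⟩
  · exact (absurd_top hz₁ h₂).symm
  · rcases h₂.cases with rfl | ⟨f₂, hf₂, hk₂⟩ | ⟨hi₂, hle₂⟩
    · exact absurd_top hz₂ h₁
    · let F := (f₁.prod f₂).rangeRestrict
      have h4 : Nat.card (f₁.prod f₂).range ≤ 4 := card_le_four hρ F (MonoidHom.rangeRestrict_surjective _)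
        fun x => Subtype.ext (by
          have : ∀ z : DihedralGroup 2 × DihedralGroup 2, z * z = 1 := by decide
          exact this _)
      have hker : (f₁.prod f₂).ker = N₁ ⊓ N₂ := by rw [MonoidHom.ker_prod, hk₁, hk₂]
      have e4 : ∀ f : G →* DihedralGroup 2, Function.Surjective f → f.ker.index = 4 := fun f hf => by
        rw [index_ker, MonoidHom.range_eq_top.2 hf, card_top, DihedralGroup.nat_card]
      rw [← index_ker, hker] at h4
      have eq : ∀ N : Subgroup G, N.index = 4 → N₁ ⊓ N₂ ≤ N → N₁ ⊓ N₂ = N := by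
        intro N hN hle
        refine eq_of_le_of_card_ge hle ?_
        have e1 := card_mul_index (N₁ ⊓ N₂)
        have e2 := card_mul_index N
        have hd := index_dvd_of_le hle
        rw [hN] at hd e2
        have := Nat.le_antisymm h4 (Nat.le_of_dvd (Nat.pos_of_ne_zero index_ne_zero_of_finite) hd)
        rw [this] at e1
        omega
      rw [← eq N₁ (hk₁ ▸ e4 f₁ hf₁) inf_le_left]
      exact eq N₂ (hk₂ ▸ e4 f₂ hf₂) inf_le_right
    · exfalso
      have hd := index_dvd_of_le (hle₂ N₁ hn₁ hz₁)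
      rw [← hk₁, index_ker, MonoidHom.range_eq_top.2 hf₁, card_top, DihedralGroup.nat_card] at hd
      have := Nat.le_of_dvd (by norm_num) hd
      omega
  · rcases h₂.cases with rfl | ⟨f₂, hf₂, hk₂⟩ | ⟨hi₂, hle₂⟩
    · exact absurd_top hz₂ h₁
    · exfalso
      have hd := index_dvd_of_le (hle₁ N₂ hn₂ hz₂)
      rw [← hk₂, index_ker, MonoidHom.range_eq_top.2 hf₂, card_top, DihedralGroup.nat_card] at hd
      have := Nat.le_of_dvd (by norm_num) hd
      omega
    · exact le_antisymm (hle₂ N₁ hn₁ hz₁) (hle₁ N₂ hn₂ hz₂)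

/-! ### Existence -/

omit [Finite G] in
theorem exists_sixType_quot_of_range {T : Type*} [Group T] {A : Subgroup T} (Φ : G →* T)
    (hA : A ≤ Φ.range) (h2 : A.index = 2) :
    (∃ f : G →* T, Function.Surjective f ∧ f.ker = Φ.ker) ∨
      (∃ f : G →* A, Function.Surjective f ∧ f.ker = Φ.ker) := by
  rcases eq_or_ne Φ.range ⊤ with h | h
  · exact Or.inl ⟨Φ, MonoidHom.range_eq_top.1 h, rfl⟩
  · refine Or.inr ?_
    have heq : Φ.range = A := by
      have hd := relIndex_mul_index hA
      rw [h2] at hd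
      rcases (Nat.dvd_prime Nat.prime_two).1 (Dvd.intro_left _ hd) with h1 | h1
      · exact absurd (index_eq_one.1 h1) h
      · rw [h1] at hd
        exact le_antisymm (relIndex_eq_one.1 (by omega)) hA
    refine ⟨(MulEquiv.subgroupCongr heq).toMonoidHom.comp Φ.rangeRestrict,
      (MulEquiv.subgroupCongr heq).surjective.comp Φ.rangeRestrict_surjective, ?_⟩
    ext g
    rw [MonoidHom.mem_ker, MonoidHom.mem_ker, MonoidHom.comp_apply, MulEquiv.coe_toMonoidHom,
      MulEquiv.map_eq_one_iff, ← OneMemClass.coe_eq_one]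
    rfl

theorem isZGroup_of_two (hρ : Fpf ρ) (N : Subgroup G)
    (h2 : ∀ P : Subgroup G, P ≤ N → IsPGroup 2 P → IsCyclic P) : IsZGroup N := by
  refine ⟨fun p hp P => ?_⟩
  have := Fact.mk hp
  let e := (P : Subgroup N).equivMapOfInjective N.subtype N.subtype_injective
  have hP : IsPGroup p ((P : Subgroup N).map N.subtype) := P.isPGroup'.map _
  rcases pgroup_cases hρ hP with h | ⟨rfl, -⟩
  · exact isCyclic_of_surjective e.symm.toMonoidHom e.symm.surjective
  · have := h2 _ (map_subtype_le _) hP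
    exact isCyclic_of_surjective e.symm.toMonoidHom e.symm.surjective

theorem exists_sixType_nonsolvable (hρ : Fpf ρ) (hns : ¬ Group.IsSolvable G) :
    ∃ N : Subgroup G, N.Normal ∧ IsZGroup N ∧ SixType N := by
  obtain ⟨R, Φ, -, ⟨eR⟩, hker, hmap, hcard⟩ := exists_perm_five hρ hns
  have h4 := centralizer_not_dvd_four hρ eR hcard
  refine ⟨centralizer (R : Set G), hker ▸ Φ.normal_ker, isZGroup_of_two hρ _ fun P hP h2 => ?_, ?_⟩
  · obtain ⟨j, hj⟩ := IsPGroup.iff_card.1 h2
    have hd : 2 ^ j ∣ Nat.card (centralizer (R : Set G)) := hj ▸ card_dvd_of_le hP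
    have hj1 : j ≤ 1 := by
      by_contra hcon
      exact h4 ((pow_dvd_pow 2 (Nat.lt_of_not_ge hcon)).trans hd)
    have : Fact (Nat.Prime 2) := ⟨Nat.prime_two⟩
    exact isCyclic_of_card_dvd_prime (p := 2) (by rw [hj]; exact (pow_dvd_pow 2 hj1).trans (by simp))
  · have hA : alternatingGroup (Fin 5) ≤ Φ.range := by
      rw [← hmap]; exact map_le_range Φ R
    rcases exists_sixType_quot_of_range Φ hA alternatingGroup.index_eq_two with ⟨f, hf, hk⟩ | ⟨f, hf, hk⟩
    · exact Or.inr (Or.inr (Or.inr (Or.inr (Or.inr ⟨f, hf, hk.trans hker⟩))))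
    · exact Or.inr (Or.inr (Or.inr (Or.inr (Or.inl ⟨f, hf, hk.trans hker⟩))))

/-- The four-group quotient of a quaternion group. -/
def quatToDihedral (m : ℕ) (hm : (m : ZMod 2) = 0) : QuaternionGroup m →* DihedralGroup 2 where
  toFun q := match q with
    | .a i => DihedralGroup.r (ZMod.castHom (dvd_mul_right 2 m) (ZMod 2) i)
    | .xa i => DihedralGroup.sr (ZMod.castHom (dvd_mul_right 2 m) (ZMod 2) i)
  map_one' := by simp only [QuaternionGroup.one_def, map_zero, DihedralGroup.one_def]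
  map_mul' x y := by
    rcases x with i | i <;> rcases y with j | j <;>
      simp only [QuaternionGroup.a_mul_a, QuaternionGroup.a_mul_xa, QuaternionGroup.xa_mul_a,
        QuaternionGroup.xa_mul_xa, map_add, map_sub, map_natCast, hm, zero_add,
        DihedralGroup.r_mul_r, DihedralGroup.r_mul_sr, DihedralGroup.sr_mul_r, DihedralGroup.sr_mul_sr]

theorem quatToDihedral_surjective {m : ℕ} (hm : (m : ZMod 2) = 0) :
    Function.Surjective (quatToDihedral m hm) := by
  rintro (i | i)
  · exact ⟨.a ((i.val : ℕ) : ZMod (2 * m)), congrArg DihedralGroup.r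
      (by rw [map_natCast, ZMod.natCast_zmod_val])⟩
  · exact ⟨.xa ((i.val : ℕ) : ZMod (2 * m)), congrArg DihedralGroup.sr
      (by rw [map_natCast, ZMod.natCast_zmod_val])⟩

theorem quatToDihedral_ker_le {m : ℕ} [NeZero m] (hm : (m : ZMod 2) = 0) :
    (quatToDihedral m hm).ker ≤ zpowers (QuaternionGroup.a 1) := by
  rintro (i | i) h
  · rw [← ZMod.natCast_zmod_val i, ← QuaternionGroup.a_one_pow]
    exact npow_mem_zpowers _ _
  · cases (show DihedralGroup.sr _ = DihedralGroup.r 0 from h)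

omit [Finite G] in
theorem mulAut_quaternion_odd {m : ℕ} [NeZero m] {n : ℕ} (hm : m = 2 ^ n) (hn : 2 ≤ n) {p : ℕ}
    [hp : Fact p.Prime] (hp2 : p ≠ 2) (σ : MulAut (QuaternionGroup m)) (hσ : σ ^ p = 1) : σ = 1 := by
  have h4 : 4 ≤ m := by rw [hm]; exact Nat.pow_le_pow_right (by norm_num : 0 < 2) hn
  have hcop : Nat.Coprime p (2 * m) := by
    rw [hm, ← pow_succ']
    exact Nat.Coprime.pow_right _ ((Nat.coprime_primes hp.out Nat.prime_two).2 hp2)
  obtain ⟨i, hi⟩ : ∃ i, σ (QuaternionGroup.a 1) = QuaternionGroup.a i := by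
    rcases h : σ (QuaternionGroup.a 1) with i | i
    · exact ⟨i, rfl⟩
    · have ho := MulEquiv.orderOf_eq σ (QuaternionGroup.a 1 : QuaternionGroup m)
      rw [h, QuaternionGroup.orderOf_xa, QuaternionGroup.orderOf_a_one] at ho
      omega
  have hmul : ∀ l : ZMod (2 * m), σ (QuaternionGroup.a l) = QuaternionGroup.a (i * l) := by
    intro l
    have hpow : ∀ t : ℕ, (QuaternionGroup.a i : QuaternionGroup m) ^ t = QuaternionGroup.a (i * (t : ZMod (2 * m))) := by
      intro t
      induction t with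
      | zero => simp [QuaternionGroup.a_zero]
      | succ t ih => rw [pow_succ, ih, QuaternionGroup.a_mul_a]; push_cast; rw [mul_add, mul_one]
    rw [← ZMod.natCast_zmod_val l, ← QuaternionGroup.a_one_pow, map_pow, hi, hpow]
  have hit : ∀ t : ℕ, (σ ^ t) (QuaternionGroup.a 1) = QuaternionGroup.a (i ^ t) := by
    intro t
    induction t with
    | zero => rw [pow_zero, pow_zero, MulAut.one_apply]
    | succ t ih => rw [pow_succ', pow_succ', MulAut.mul_apply, ih, hmul]
  have hip := hit p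
  rw [hσ, MulAut.one_apply, QuaternionGroup.a.injEq] at hip
  have hu : IsUnit i := IsUnit.of_pow_eq_one hip.symm hp.out.ne_zero
  have hi1 : i = 1 := by
    obtain ⟨u, rfl⟩ := hu
    have h1 : u ^ p = 1 := Units.ext (by rw [Units.val_pow_eq_pow_val, Units.val_one]; exact hip.symm)
    have h2 : u ^ Nat.totient (2 * m) = 1 := ZMod.pow_totient u
    have h3 : u = 1 := by
      rw [← pow_one u, ← pow_gcd_eq_one.mpr ⟨h1, h2⟩]
      congr 1
      rw [hm, ← pow_succ', Nat.totient_prime_pow Nat.prime_two (Nat.succ_pos n)]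
      have hc : Nat.Coprime p (2 ^ (n.succ - 1) * (2 - 1)) := Nat.coprime_mul_iff_right.2
        ⟨Nat.Coprime.pow_right _ ((Nat.coprime_primes hp.out Nat.prime_two).2 hp2), Nat.coprime_one_right p⟩
      exact hc.gcd_eq_one.symm
    rw [h3, Units.val_one]
  have hfix : ∀ l : ZMod (2 * m), σ (QuaternionGroup.a l) = QuaternionGroup.a l := fun l => by
    rw [hmul, hi1, one_mul]
  obtain ⟨j, hj⟩ : ∃ j, σ (QuaternionGroup.xa 0) = QuaternionGroup.xa j := by
    rcases h : σ (QuaternionGroup.xa 0) with j | j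
    · exact absurd (σ.injective (h.trans (hfix j).symm)) (by simp)
    · exact ⟨j, rfl⟩
  have hxa : ∀ l, σ (QuaternionGroup.xa l) = QuaternionGroup.xa (j + l) := by
    intro l
    rw [show (QuaternionGroup.xa l : QuaternionGroup m) = QuaternionGroup.xa 0 * QuaternionGroup.a l by
      rw [QuaternionGroup.xa_mul_a, zero_add], map_mul, hj, hfix, QuaternionGroup.xa_mul_a]
  have hit' : ∀ t : ℕ, (σ ^ t) (QuaternionGroup.xa 0) = QuaternionGroup.xa ((t : ZMod (2 * m)) * j) := by
    intro t
    induction t with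
    | zero => simp
    | succ t ih => rw [pow_succ', MulAut.mul_apply, ih, hxa]; push_cast; rw [add_mul, one_mul, add_comm]
  have hjp := hit' p
  rw [hσ, MulAut.one_apply, QuaternionGroup.xa.injEq] at hjp
  have hj0 : j = 0 := ((ZMod.isUnit_iff_coprime p (2 * m)).2 hcop).mul_right_eq_zero.1 hjp.symm
  refine MulEquiv.ext fun q => ?_
  rcases q with l | l
  · exact hfix l
  · rw [hxa, hj0, zero_add, MulAut.one_apply]

omit [Finite G] in
theorem mulAut_cyclic_odd {Q : Type*} [Group Q] [Finite Q] [IsCyclic Q] (hQ : IsPGroup 2 Q) {p : ℕ}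
    [hp : Fact p.Prime] (hp2 : p ≠ 2) (σ : MulAut Q) (hσ : σ ^ p = 1) : σ = 1 := by
  have : Fact (Nat.Prime 2) := ⟨Nat.prime_two⟩
  obtain ⟨j, hj⟩ := IsPGroup.iff_card.1 hQ
  have hd : orderOf σ ∣ Nat.card (MulAut Q) := orderOf_dvd_natCard σ
  rw [IsCyclic.card_mulAut, hj] at hd
  rw [← orderOf_eq_one_iff]
  refine Nat.eq_one_of_dvd_coprimes ?_ (orderOf_dvd_of_pow_eq_one hσ) hd
  rcases j with _ | j
  · simp
  · rw [Nat.totient_prime_pow Nat.prime_two (Nat.succ_pos j)]
    exact Nat.coprime_mul_iff_right.2 ⟨Nat.Coprime.pow_right _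
      ((Nat.coprime_primes hp.out Nat.prime_two).2 hp2), Nat.coprime_one_right p⟩

theorem exists_sixType_solvable (hρ : Fpf ρ) [Group.IsSolvable G] (hz : ¬ IsZGroup G) :
    ∃ N : Subgroup G, N.Normal ∧ IsZGroup N ∧ SixType N := by
  have : Fact (Nat.Prime 2) := ⟨Nat.prime_two⟩
  let K := Cfsg.pPrimeCore 2 G
  let q := QuotientGroup.mk' K
  have hq : Function.Surjective q := QuotientGroup.mk'_surjective K
  have hinj : ∀ P : Subgroup G, IsPGroup 2 P → Function.Injective (q.comp P.subtype) := by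
    intro P hP
    refine (injective_iff_map_eq_one _).2 fun x hx => ?_
    obtain ⟨j, hj⟩ := hP x
    rw [← orderOf_eq_one_iff, ← orderOf_coe]
    refine Nat.eq_one_of_dvd_coprimes (CfsgLib.Base.pPrimeCore_coprime 2 G).symm ?_
      (K.orderOf_dvd_natCard ((QuotientGroup.eq_one_iff _).1 hx))
    rw [orderOf_coe]
    rcases j with _ | j
    · rw [pow_zero, pow_one] at hj; rw [hj, orderOf_one]; exact one_dvd 2
    · obtain ⟨i, -, hi⟩ := (Nat.dvd_prime_pow Nat.prime_two).1 (orderOf_dvd_of_pow_eq_one hj)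
      have hle : i ≤ 1 := by
        by_contra hcon
        have h4 : 4 ∣ orderOf x := hi ▸ pow_dvd_pow 2 (Nat.lt_of_not_ge hcon)
        have hd : (4 : ℕ) ∣ Nat.card K := h4.trans (orderOf_coe x ▸
          K.orderOf_dvd_natCard ((QuotientGroup.eq_one_iff _).1 hx))
        exact CfsgLib.Base.not_dvd_card_pPrimeCore 2 G ((by norm_num : 2 ∣ 4).trans hd)
      exact hi ▸ (pow_dvd_pow 2 hle).trans (by simp)
  -- preimages of cyclic subgroups are `Z`-groups
  have hpre : ∀ (Nq : Subgroup (G ⧸ K)) [IsCyclic Nq], IsZGroup (Nq.comap q) := by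
    intro Nq _
    refine isZGroup_of_two hρ _ fun P hP h2 => ?_
    exact isCyclic_of_injective ((q.comp P.subtype).codRestrict Nq fun x => hP x.2)
      fun a b h => hinj P h2 (congrArg Subtype.val h)
  -- a Sylow subgroup is quaternion
  obtain ⟨S, n, hn, ⟨eS⟩⟩ : ∃ S : Sylow 2 G, ∃ n, 1 ≤ n ∧ Nonempty (S ≃* QuaternionGroup (2 ^ n)) := by
    by_contra hcon
    refine hz ⟨fun p hp P => ?_⟩
    have := Fact.mk hp
    rcases pgroup_cases hρ P.isPGroup' with h | ⟨rfl, n, hn, he⟩
    · exact h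
    · exact absurd ⟨P, n, hn, he⟩ hcon
  have hm : ((2 ^ n : ℕ) : ZMod 2) = 0 :=
    (ZMod.natCast_eq_zero_iff _ _).2 (dvd_pow_self 2 (by omega))
  by_cases h2 : IsPGroup 2 (G ⧸ K)
  · -- a normal 2-complement
    have hbij : Function.Bijective (q.comp (S : Subgroup G).subtype) := by
      refine ⟨hinj _ S.isPGroup', fun y => ?_⟩
      have h := ((Sylow.mapSurjective hq S).is_maximal' (h2.to_subgroup ⊤) le_top).symm
      rw [Sylow.coe_mapSurjective] at h
      obtain ⟨x, hx, rfl⟩ := (h.ge (mem_top y) : y ∈ (S : Subgroup G).map q)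
      exact ⟨⟨x, hx⟩, rfl⟩
    let e : G ⧸ K ≃* QuaternionGroup (2 ^ n) := (MulEquiv.ofBijective _ hbij).symm.trans eS
    let f : G →* DihedralGroup 2 := ((quatToDihedral _ hm).comp e.toMonoidHom).comp q
    refine ⟨f.ker, inferInstance, ?_, Or.inr (Or.inl ⟨f,
      ((quatToDihedral_surjective hm).comp e.surjective).comp hq, rfl⟩)⟩
    have : NeZero (2 ^ n) := ⟨by positivity⟩
    let Nq := ((quatToDihedral _ hm).comp e.toMonoidHom).ker
    have : IsCyclic Nq := by
      have hc : IsCyclic (quatToDihedral (2 ^ n) hm).ker := isCyclic_of_injective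
        (Subgroup.inclusion (quatToDihedral_ker_le hm)) (Subgroup.inclusion_injective _)
      exact isCyclic_of_injective ((e.toMonoidHom.comp Nq.subtype).codRestrict (quatToDihedral (2 ^ n) hm).ker fun x => x.2)
        fun a b h => Subtype.ext (e.injective (congrArg Subtype.val h))
    exact hpre Nq
  -- the core is quaternion of order eight
  let Q := Cfsg.pCore 2 (G ⧸ K)
  have hQP : IsPGroup 2 Q := CfsgLib.Base.isPGroup_pCore 2 (G ⧸ K)
  have hC : centralizer (Q : Set (G ⧸ K)) ≤ Q :=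
    CfsgLib.Base.centralizer_pCore_le_of_isSolvable (CfsgLib.Base.pPrimeCore_quotient_pPrimeCore 2 G)
  obtain ⟨p, hp, hpd, hp2⟩ : ∃ p, p.Prime ∧ p ∣ Nat.card (G ⧸ K) ∧ p ≠ 2 := by
    by_contra hcon
    push Not at hcon
    exact h2 (IsPGroup.iff_card.2 ⟨_, Nat.eq_prime_pow_of_unique_prime_dvd Nat.card_pos.ne'
      fun {d} hd hdd => hcon d hd hdd⟩)
  have := Fact.mk hp
  obtain ⟨g, hg⟩ := exists_prime_orderOf_dvd_card' p hpd
  let Ψ := MulAut.conjNormal (H := Q)
  have hkerΨ : Ψ.ker = centralizer (Q : Set (G ⧸ K)) := by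
    ext y
    rw [MonoidHom.mem_ker, Subgroup.mem_centralizer_iff]
    refine ⟨fun h r hr => ?_, fun h => MulEquiv.ext fun r => Subtype.ext ?_⟩
    · have h' : y * r * y⁻¹ = r := congrArg Subtype.val (DFunLike.congr_fun h (⟨r, hr⟩ : Q))
      exact (mul_inv_eq_iff_eq_mul.1 h').symm
    · rw [MulAut.conjNormal_apply, MulAut.one_apply, ← h r r.2, mul_inv_cancel_right]
  have hgp : (Ψ g) ^ p = 1 := by rw [← map_pow, ← hg, pow_orderOf_eq_one, map_one]
  have hgne : Ψ g ≠ 1 := by
    intro h
    have hgQ : g ∈ Q := hC (hkerΨ ▸ (MonoidHom.mem_ker.2 h))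
    obtain ⟨j, hj⟩ := IsPGroup.iff_card.1 hQP
    have hd : p ∣ 2 ^ j := hj ▸ hg ▸ Q.orderOf_dvd_natCard hgQ
    exact hp2 ((Nat.prime_dvd_prime_iff_eq hp Nat.prime_two).1 (hp.dvd_of_dvd_pow hd))
  -- lift the core into a Sylow subgroup
  have hQS : Q ≤ (S : Subgroup G).map q := by
    have h := CfsgLib.Base.pCore_le_sylow (Sylow.mapSurjective hq S)
    rwa [Sylow.coe_mapSurjective] at h
  let P : Subgroup G := (S : Subgroup G) ⊓ Q.comap q
  have hPQ : P.map q = Q := by
    refine le_antisymm (by rintro _ ⟨x, hx, rfl⟩; exact hx.2) fun y hy => ?_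
    obtain ⟨x, hx, rfl⟩ := hQS hy
    exact ⟨x, ⟨hx, hy⟩, rfl⟩
  have hP2 : IsPGroup 2 P := S.isPGroup'.to_le inf_le_left
  let eP : P ≃* Q := (MonoidHom.ofInjective (hinj P hP2)).trans (MulEquiv.subgroupCongr (by
    rw [MonoidHom.range_comp, range_subtype, hPQ]))
  rcases pgroup_cases hρ hP2 with hc | ⟨-, m, hm1, ⟨e'⟩⟩
  · have : IsCyclic Q := isCyclic_of_surjective eP.toMonoidHom eP.surjective
    exact absurd (mulAut_cyclic_odd hQP hp2 _ hgp) hgne
  let eQ : Q ≃* QuaternionGroup (2 ^ m) := eP.symm.trans e'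
  have hm2 : m = 1 := by
    by_contra hm2
    have : NeZero (2 ^ m) := ⟨by positivity⟩
    refine hgne ((MulAut.congr eQ).injective ?_)
    rw [map_one]
    exact mulAut_quaternion_odd (n := m) rfl (by omega) hp2 _ (by rw [← map_pow, hgp, map_one])
  subst hm2
  let Θ : G ⧸ K →* Equiv.Perm (Fin 4) :=
    (q8Perm.comp (MulAut.congr eQ).toMonoidHom).comp Ψ
  have hΘker : Θ.ker = centralizer (Q : Set (G ⧸ K)) := by
    rw [← hkerΨ]
    ext y
    refine ⟨fun h => ?_, fun h => ?_⟩
    · exact (MulAut.congr eQ).injective ((q8Perm_bijective.injective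
        (h.trans (map_one q8Perm).symm)).trans (map_one (MulAut.congr eQ)).symm)
    · change q8Perm ((MulAut.congr eQ) (Ψ y)) = 1
      rw [MonoidHom.mem_ker.1 h, map_one, map_one]
  -- the centraliser is the centre of the quaternion group
  have hZ : (centralizer (Q : Set (G ⧸ K))).subgroupOf Q = center Q := by
    ext z
    rw [mem_subgroupOf, mem_centralizer_iff, mem_center_iff]
    exact ⟨fun h r => Subtype.ext (h r r.2), fun h r hr => congrArg Subtype.val (h ⟨r, hr⟩)⟩
  have hZ2 : Nat.card (centralizer (Q : Set (G ⧸ K))) = 2 := by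
    rw [← Nat.card_congr (subgroupOfEquivOfLe hC).toEquiv, hZ,
      Nat.card_congr (Subgroup.centerCongr eQ).toEquiv]
    rw [Nat.card_eq_two_iff' (1 : center (QuaternionGroup (2 ^ 1)))]
    refine ⟨⟨QuaternionGroup.a 2, by rw [mem_center_iff]; decide⟩, by decide, ?_⟩
    have hall : ∀ x : QuaternionGroup (2 ^ 1), (∀ y, y * x = x * y) → x ≠ 1 → x = QuaternionGroup.a 2 := by
      decide
    exact fun x hx => Subtype.ext (hall _ (mem_center_iff.1 x.2) fun h => hx (Subtype.ext h))
  have h12 : 12 ∣ Nat.card Θ.range := by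
    refine Nat.Coprime.mul_dvd_of_dvd_of_dvd (show Nat.Coprime 4 3 by norm_num) ?_ ?_
    · have hle : Q.map Θ ≤ Θ.range := map_le_range Θ Q
      have hQ8 : Nat.card Q = 8 := by
        rw [Nat.card_congr eQ.toEquiv, Nat.card_eq_fintype_card, QuaternionGroup.card]; rfl
      have h := card_mul_index (Θ.comp Q.subtype).ker
      rw [index_ker, MonoidHom.range_comp, range_subtype, hQ8] at h
      have hk : Nat.card (Θ.comp Q.subtype).ker = 2 := by
        rw [← MonoidHom.comap_ker, hΘker, ← subgroupOf, Nat.card_congr (subgroupOfEquivOfLe hC).toEquiv,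
          hZ2]
      rw [hk] at h
      exact (dvd_of_eq (by omega)).trans (card_dvd_of_le hle)
    · have hd : p ∣ Nat.card Θ.range := by
        have hne : Θ g ≠ 1 := fun h => hgne (by
          have : g ∈ Ψ.ker := hkerΨ ▸ hΘker ▸ MonoidHom.mem_ker.2 h
          exact this)
        have ho : orderOf (Θ g) = p :=
          orderOf_eq_prime (by rw [← map_pow, ← hg, pow_orderOf_eq_one, map_one]) hne
        rw [← ho]
        exact Θ.range.orderOf_dvd_natCard ⟨g, rfl⟩
      have h24 : Nat.card Θ.range ∣ 24 := by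
        have h := card_subgroup_dvd_card Θ.range
        rwa [Nat.card_perm, Nat.card_fin] at h
      have hp3 : p = 3 := by
        have hd' : p ∣ 2 ^ 3 * 3 := hd.trans h24
        rcases hp.dvd_mul.1 hd' with h | h
        · exact absurd ((Nat.prime_dvd_prime_iff_eq hp Nat.prime_two).1 (hp.dvd_of_dvd_pow h)) hp2
        · exact (Nat.prime_dvd_prime_iff_eq hp Nat.prime_three).1 h
      exact hp3 ▸ hd
  have hA : alternatingGroup (Fin 4) ≤ (Θ.comp q).range := by
    rw [MonoidHom.range_comp, MonoidHom.range_eq_top.2 hq, ← MonoidHom.range_eq_map]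
    have h2' : Θ.range.index ∣ 2 := by
      obtain ⟨c, hc⟩ := h12
      have := card_mul_index Θ.range
      rw [Nat.card_perm, Nat.card_fin, hc] at this
      exact ⟨c, by rw [show Nat.factorial 4 = 24 from rfl] at this; linarith⟩
    rcases (Nat.dvd_prime Nat.prime_two).1 h2' with h | h
    · rw [index_eq_one.1 h]; exact le_top
    · exact (Equiv.Perm.eq_alternatingGroup_of_index_eq_two h).ge
  have : Fact (Nat.Prime 2) := ⟨Nat.prime_two⟩
  have : IsCyclic (centralizer (Q : Set (G ⧸ K))) := isCyclic_of_card_dvd_prime (p := 2) (dvd_of_eq hZ2)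
  refine ⟨(Θ.comp q).ker, inferInstance, ?_, ?_⟩
  · have := hpre (centralizer (Q : Set (G ⧸ K)))
    rw [← MonoidHom.comap_ker, hΘker]
    exact this
  · rcases exists_sixType_quot_of_range (Θ.comp q) hA alternatingGroup.index_eq_two with
      ⟨f, hf, hk⟩ | ⟨f, hf, hk⟩
    · exact Or.inr (Or.inr (Or.inr (Or.inl ⟨f, hf, hk⟩)))
    · exact Or.inr (Or.inr (Or.inl ⟨f, hf, hk⟩))

/-- Every group with a fixed-point-free representation has exactly one such subgroup. -/
theorem existsUnique_sixType (hρ : Fpf ρ) :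
    ∃! N : Subgroup G, N.Normal ∧ IsZGroup N ∧ SixType N := by
  obtain ⟨N, hN⟩ : ∃ N : Subgroup G, N.Normal ∧ IsZGroup N ∧ SixType N := by
    by_cases hz : IsZGroup G
    · exact ⟨⊤, inferInstance, inferInstance, Or.inl rfl⟩
    by_cases hs : Group.IsSolvable G
    · exact exists_sixType_solvable hρ hz
    · exact exists_sixType_nonsolvable hρ hs
  exact ⟨N, hN, fun M hM => sixType_unique hρ hM.1 hN.1 hM.2.1 hN.2.1 hM.2.2 hN.2.2⟩

end CfsgLib.Perm.Zass
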