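import Cfsg.Agent.Lib.Perm.Zass.Basic
import Cfsg.Agent.Lib.FgsC.Fpf

/-!
Fixed-point-free representations can be lifted to the integers: a finite group acting without
fixed points on an elementary abelian group has an integral representation without fixed points.
-/

namespace CfsgLib.Perm.Zass

open Matrix Finset

/-- An integral representation without fixed points. -/
def HasIntFpf (G : Type*) [Group G] : Prop :=
  ∃ d, 0 < d ∧ ∃ ρ : G →* Matrix (Fin d) (Fin d) ℤ, ∀ c : G, c ≠ 1 → (ρ c - 1).det ≠ 0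

section lifting

variable {r m n : ℕ}

/-- Reduction of matrices modulo the prime. -/
def redMat (hm : m ≠ 0) (n : ℕ) :
    Matrix (Fin n) (Fin n) (ZMod (r ^ m)) →+* Matrix (Fin n) (Fin n) (ZMod r) :=
  (ZMod.castHom (dvd_pow_self r hm) (ZMod r)).mapMatrix

theorem dvd_of_cast_eq_zero [Fact r.Prime] (hm : m ≠ 0) {a : ZMod (r ^ m)}
    (ha : ZMod.castHom (dvd_pow_self r hm) (ZMod r) a = 0) : (r : ZMod (r ^ m)) ∣ a := by
  rw [← ZMod.natCast_zmod_val a, map_natCast, ZMod.natCast_eq_zero_iff] at ha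
  rw [← ZMod.natCast_zmod_val a]
  exact Nat.cast_dvd_cast ha

theorem isUnit_of_cast_ne_zero [hr : Fact r.Prime] (hm : m ≠ 0) {a : ZMod (r ^ m)}
    (ha : ZMod.castHom (dvd_pow_self r hm) (ZMod r) a ≠ 0) : IsUnit a := by
  rw [← ZMod.natCast_zmod_val a, map_natCast, ne_eq, ZMod.natCast_eq_zero_iff] at ha
  rw [← ZMod.natCast_zmod_val a, ZMod.isUnit_iff_coprime]
  exact (hr.out.coprime_iff_not_dvd.2 ha).symm.pow_right m

theorem eq_one_add_of_redMat [Fact r.Prime] (hm : m ≠ 0) {u v : Matrix (Fin n) (Fin n) (ZMod (r ^ m))}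
    (h : redMat hm n u = redMat hm n v) :
    ∃ X : Matrix (Fin n) (Fin n) (ZMod (r ^ m)), u = v + r • X := by
  have h0 : ∀ i j, (r : ZMod (r ^ m)) ∣ u i j - v i j := fun i j => dvd_of_cast_eq_zero hm (by
    rw [map_sub, sub_eq_zero]
    exact congrFun (congrFun h i) j)
  choose X hX using h0
  refine ⟨Matrix.of X, ?_⟩
  ext i j
  rw [Matrix.add_apply, Matrix.smul_apply, Matrix.of_apply, nsmul_eq_mul, ← hX i j, add_sub_cancel]

theorem pow_eq_one_of_redMat [Fact r.Prime] (hm : m ≠ 0) {u : Matrix (Fin n) (Fin n) (ZMod (r ^ m))}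
    (h : redMat hm n u = 1) : u ^ (r ^ m) = 1 := by
  obtain ⟨X, rfl⟩ := eq_one_add_of_redMat hm (h.trans (map_one (redMat hm n)).symm)
  obtain ⟨Q, hQ⟩ := dvd_sub_pow_of_dvd_sub
    (show (r : Polynomial ℤ) ∣ (1 + (r : Polynomial ℤ) * Polynomial.X) - 1 by simp) m
  have h' := congrArg (Polynomial.aeval X) hQ
  simp only [one_pow, map_sub, map_pow, map_add, map_one, map_mul, map_natCast, Polynomial.aeval_X] at h'
  have hz : (r : Matrix (Fin n) (Fin n) (ZMod (r ^ m))) ^ m = 0 := by
    rw [← Nat.cast_pow, ← map_natCast (algebraMap (ZMod (r ^ m)) _), ZMod.natCast_self, map_zero]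
  rw [nsmul_eq_mul]
  rw [pow_succ, hz, zero_mul, zero_mul, sub_eq_zero] at h'
  exact h'

/-- A representation of a group of order prime to `r` lifts modulo `r ^ m`. -/
theorem exists_lift [hr : Fact r.Prime] (hm : m ≠ 0) {G : Type*} [Group G] [Finite G]
    (hcop : ¬ r ∣ Nat.card G) (M : G →* Matrix (Fin n) (Fin n) (ZMod r)) :
    ∃ L : G →* Matrix (Fin n) (Fin n) (ZMod (r ^ m)), ∀ g, redMat hm n (L g) = M g := by
  classical
  let P : (Matrix (Fin n) (Fin n) (ZMod (r ^ m)))ˣ →* Matrix (Fin n) (Fin n) (ZMod r) :=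
    (redMat hm n).toMonoidHom.comp (Units.coeHom _)
  let E : Subgroup (G × (Matrix (Fin n) (Fin n) (ZMod (r ^ m)))ˣ) :=
    ((MonoidHom.toHomUnits M).comp (MonoidHom.fst _ _)).eqLocus (P.toHomUnits.comp (MonoidHom.snd _ _))
  have hmem : ∀ p, p ∈ E → redMat hm n p.2 = M p.1 := fun p hp =>
    (congrArg Units.val (show M.toHomUnits p.1 = P.toHomUnits p.2 from hp)).symm
  let f : E →* G := (MonoidHom.fst _ _).comp E.subtype
  have hsurj : Function.Surjective f := by
    intro g
    obtain ⟨A, hA⟩ : ∃ A, redMat hm n A = M g := by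
      refine ⟨(M g).map fun a : ZMod r => ((a.val : ℕ) : ZMod (r ^ m)), ?_⟩
      ext i j
      change ZMod.castHom (dvd_pow_self r hm) (ZMod r) _ = _
      rw [Matrix.map_apply, map_natCast, ZMod.natCast_zmod_val]
    have hu : IsUnit A.det := isUnit_of_cast_ne_zero hm (by
      rw [RingHom.map_det]
      change (redMat hm n A).det ≠ 0
      rw [hA]
      have : (M g).det * (M g⁻¹).det = 1 := by
        rw [← det_mul, ← map_mul, mul_inv_cancel, map_one, det_one]
      exact left_ne_zero_of_mul_eq_one this)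
    exact ⟨⟨(g, ((Matrix.isUnit_iff_isUnit_det A).2 hu).unit), Units.ext hA.symm⟩, rfl⟩
  have hker : IsPGroup r f.ker := by
    rintro ⟨⟨⟨g, u⟩, hp⟩, hg⟩
    replace hg : g = 1 := hg
    subst hg
    refine ⟨m, Subtype.ext (Subtype.ext (Prod.ext (one_pow _) (Units.ext ?_)))⟩
    exact pow_eq_one_of_redMat hm ((hmem _ hp).trans M.map_one)
  obtain ⟨e, he⟩ := hker.exists_card_eq
  have hidx : f.ker.index = Nat.card G := by
    rw [Subgroup.index_ker, MonoidHom.range_eq_top.2 hsurj, Subgroup.card_top]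
  obtain ⟨H, hH⟩ := Subgroup.exists_right_complement'_of_coprime (N := f.ker) (by
    rw [he, hidx]
    exact (hr.out.coprime_iff_not_dvd.2 hcop).pow_left e)
  have hbij : Function.Bijective (f.comp H.subtype) := by
    refine ⟨(injective_iff_map_eq_one _).2 fun x hx => Subtype.ext
      (Subgroup.disjoint_def.1 hH.disjoint hx x.2), fun g => ?_⟩
    obtain ⟨x, rfl⟩ := hsurj g
    obtain ⟨a, ha, b, hb, rfl⟩ : ∃ a ∈ f.ker, ∃ b ∈ H, a * b = x := by
      obtain ⟨⟨⟨a, ha⟩, ⟨b, hb⟩⟩, h⟩ := hH.2 x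
      exact ⟨a, ha, b, hb, h⟩
    exact ⟨⟨b, hb⟩, by rw [MonoidHom.comp_apply, map_mul, MonoidHom.mem_ker.1 ha, one_mul]; rfl⟩
  let e' := MulEquiv.ofBijective (f.comp H.subtype) hbij
  refine ⟨(((Units.coeHom _).comp (MonoidHom.snd _ _)).comp E.subtype).comp
    (H.subtype.comp e'.symm.toMonoidHom), fun g => ?_⟩
  refine (hmem _ (e'.symm g : E).2).trans (congrArg M ?_)
  exact e'.apply_symm_apply g

/-- The cyclic sums are killed in a lift of a fixed-point-free representation. -/
theorem sum_pow_eq_zero [hr : Fact r.Prime] (hm : m ≠ 0) {G : Type*} [Group G] [Finite G]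
    (hcop : ¬ r ∣ Nat.card G) (L : G →* Matrix (Fin n) (Fin n) (ZMod (r ^ m))) {c : G}
    (hc : (redMat hm n (L c) - 1).det ≠ 0) : ∑ i ∈ range (orderOf c), L (c ^ i) = 0 := by
  set T := ∑ i ∈ range (orderOf c), L (c ^ i) with hT
  have hcT : L c * T = T := by
    have h : (L c - 1) * T = 0 := by
      simp only [hT, map_pow]
      rw [mul_geom_sum, ← map_pow, pow_orderOf_eq_one, map_one, sub_self]
    rw [sub_mul, one_mul, sub_eq_zero] at h
    exact h
  have hpow : ∀ i : ℕ, L (c ^ i) * T = T := by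
    intro i
    induction i with
    | zero => rw [pow_zero, map_one, one_mul]
    | succ i ih => rw [pow_succ, map_mul, mul_assoc, hcT, ih]
  have hTT : T * T = (orderOf c) • T := by
    nth_rw 1 [hT]
    rw [sum_mul, sum_congr rfl fun i _ => hpow i, sum_const, card_range]
  obtain ⟨X, hX⟩ : ∃ X : Matrix (Fin n) (Fin n) (ZMod (r ^ m)), T = r • X := by
    have h : (redMat hm n (L c) - 1) * redMat hm n T = 0 := by
      rw [sub_mul, one_mul, ← map_mul, hcT, sub_self]
    have h0 : redMat hm n T = redMat hm n 0 := by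
      rw [map_zero]
      exact ((Matrix.isUnit_iff_isUnit_det _).2 (isUnit_iff_ne_zero.2 hc)).mul_right_eq_zero.1 h
    obtain ⟨X, hX⟩ := eq_one_add_of_redMat hm h0
    exact ⟨X, hX.trans (zero_add _)⟩
  have hpowT : ∀ j : ℕ, T ^ (j + 1) = (orderOf c) ^ j • T := by
    intro j
    induction j with
    | zero => rw [pow_one, pow_zero, one_smul]
    | succ j ih => rw [pow_succ, ih, smul_mul_assoc, hTT, smul_smul, pow_succ]
  have h0 : (orderOf c) ^ m • T = 0 := by
    have hz : (r : Matrix (Fin n) (Fin n) (ZMod (r ^ m))) ^ m = 0 := by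
      rw [← Nat.cast_pow, ← map_natCast (algebraMap (ZMod (r ^ m)) _), ZMod.natCast_self, map_zero]
    rw [← hpowT, pow_succ, hX, smul_pow, nsmul_eq_mul, Nat.cast_pow, hz, zero_mul, zero_mul]
  have hu : IsUnit ((orderOf c ^ m : ℕ) : ZMod (r ^ m)) := by
    rw [ZMod.isUnit_iff_coprime]
    exact Nat.Coprime.pow m m (Nat.Coprime.symm (hr.out.coprime_iff_not_dvd.2 fun h =>
      hcop (h.trans (orderOf_dvd_natCard c))))
  rw [← Nat.cast_smul_eq_nsmul (ZMod (r ^ m))] at h0
  exact hu.smul_eq_zero.1 h0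

end lifting

section integral

variable (G : Type*) [Group G]

/-- The cyclic sum of an element in the integral group ring. -/
noncomputable def cycSum {G : Type*} [Group G] (c : G) : MonoidAlgebra ℤ G :=
  ∑ i ∈ range (orderOf c), MonoidAlgebra.of ℤ G (c ^ i)

/-- The two-sided ideal generated by the cyclic sums. -/
noncomputable def cycIdeal : Submodule ℤ (MonoidAlgebra ℤ G) :=
  Submodule.span ℤ {x | ∃ g c h : G, c ≠ 1 ∧
    x = MonoidAlgebra.of ℤ G g * cycSum c * MonoidAlgebra.of ℤ G h}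

/-- Its saturation. -/
noncomputable def cycSat : Submodule ℤ (MonoidAlgebra ℤ G) where
  carrier := {x | ∃ N : ℤ, N ≠ 0 ∧ N • x ∈ cycIdeal G}
  zero_mem' := ⟨1, one_ne_zero, by rw [smul_zero]; exact zero_mem _⟩
  add_mem' := by
    rintro x y ⟨a, ha, hx⟩ ⟨b, hb, hy⟩
    refine ⟨a * b, mul_ne_zero ha hb, ?_⟩
    rw [smul_add]
    refine add_mem ?_ ?_
    · rw [mul_comm, mul_smul]; exact Submodule.smul_mem _ _ hx
    · rw [mul_smul]; exact Submodule.smul_mem _ _ hy
  smul_mem' := by
    rintro k x ⟨a, ha, hx⟩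
    exact ⟨a, ha, by rw [smul_comm]; exact Submodule.smul_mem _ _ hx⟩

variable {G}

theorem of_mul_mem_cycIdeal (g : G) {x : MonoidAlgebra ℤ G} (hx : x ∈ cycIdeal G) :
    MonoidAlgebra.of ℤ G g * x ∈ cycIdeal G := by
  have : cycIdeal G ≤ (cycIdeal G).comap (LinearMap.mulLeft ℤ (MonoidAlgebra.of ℤ G g)) := by
    refine Submodule.span_le.2 ?_
    rintro _ ⟨g', c, h, hc, rfl⟩
    refine Submodule.subset_span ⟨g * g', c, h, hc, ?_⟩
    rw [LinearMap.mulLeft_apply, map_mul]
    simp only [mul_assoc]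
  exact this hx

theorem cycSum_mul_mem {c : G} (hc : c ≠ 1) (x : MonoidAlgebra ℤ G) :
    cycSum c * x ∈ cycIdeal G := by
  induction x using MonoidAlgebra.induction_on with
  | of h => exact Submodule.subset_span ⟨1, c, h, hc, by rw [map_one, one_mul]⟩
  | add a b ha hb => rw [mul_add]; exact add_mem ha hb
  | smul k a ha => rw [mul_smul_comm]; exact Submodule.smul_mem _ _ ha

/-- If the cyclic sums do not generate a positive integer, there is an integral representation without
fixed points. -/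
theorem hasIntFpf_of_not_mem [Finite G] (h1 : (1 : MonoidAlgebra ℤ G) ∉ cycSat G) : HasIntFpf G := by
  classical
  have : Module.IsTorsionFree ℤ (MonoidAlgebra ℤ G ⧸ cycSat G) := by
    refine Module.isTorsionFree_iff_smul_eq_zero.2 fun k y hy => ?_
    obtain ⟨x, rfl⟩ := Submodule.Quotient.mk_surjective _ y
    rw [or_iff_not_imp_left]
    intro hk
    rw [← Submodule.Quotient.mk_smul, Submodule.Quotient.mk_eq_zero] at hy
    obtain ⟨N, hN, hx⟩ := hy
    rw [Submodule.Quotient.mk_eq_zero]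
    exact ⟨N * k, mul_ne_zero hN hk, by rw [mul_smul]; exact hx⟩
  have : Module.Finite ℤ (MonoidAlgebra ℤ G ⧸ cycSat G) := inferInstance
  have : Module.Free ℤ (MonoidAlgebra ℤ G ⧸ cycSat G) := Module.free_of_finite_type_torsion_free'
  have : Nontrivial (MonoidAlgebra ℤ G ⧸ cycSat G) :=
    ⟨⟨Submodule.Quotient.mk 1, 0, fun h => h1 ((Submodule.Quotient.mk_eq_zero _).1 h)⟩⟩
  let b := Module.finBasis ℤ (MonoidAlgebra ℤ G ⧸ cycSat G)
  have hmem : ∀ g : G, cycSat G ≤ (cycSat G).comap (LinearMap.mulLeft ℤ (MonoidAlgebra.of ℤ G g)) := by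
    rintro g x ⟨N, hN, hx⟩
    refine ⟨N, hN, ?_⟩
    rw [LinearMap.mulLeft_apply, ← mul_smul_comm]
    exact of_mul_mem_cycIdeal g hx
  let act : G →* Module.End ℤ (MonoidAlgebra ℤ G ⧸ cycSat G) :=
    { toFun := fun g => (cycSat G).mapQ (cycSat G) _ (hmem g)
      map_one' := Submodule.linearMap_qext _ (LinearMap.ext fun x =>
        congrArg Submodule.Quotient.mk (show MonoidAlgebra.of ℤ G 1 * x = x by rw [map_one, one_mul]))
      map_mul' := fun g h => Submodule.linearMap_qext _ (LinearMap.ext fun x =>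
        congrArg Submodule.Quotient.mk (show MonoidAlgebra.of ℤ G (g * h) * x =
          MonoidAlgebra.of ℤ G g * (MonoidAlgebra.of ℤ G h * x) by rw [map_mul, mul_assoc])) }
  refine ⟨_, Module.finrank_pos, (LinearMap.toMatrixAlgEquiv b).toMonoidHom.comp act, fun c hc h0 => ?_⟩
  have h0' : LinearMap.det (act c - 1) = 0 := by
    rw [← LinearMap.det_toMatrix b, ← h0]
    congr 1
    simp only [MonoidHom.comp_apply]
    exact (map_sub (LinearMap.toMatrixAlgEquiv b) (act c) 1).trans (congrArg _ (map_one (LinearMap.toMatrixAlgEquiv b)))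
  obtain ⟨y, hy, hy0⟩ := Submodule.exists_mem_ne_zero_of_ne_bot (LinearMap.bot_lt_ker_of_det_eq_zero h0').ne'
  have hy' : act c y = y := sub_eq_zero.1 (LinearMap.mem_ker.1 hy)
  have hpow : ∀ i : ℕ, act (c ^ i) y = y := by
    intro i
    induction i with
    | zero => rw [pow_zero, map_one, Module.End.one_apply]
    | succ i ih => rw [pow_succ, map_mul, Module.End.mul_apply, hy', ih]
  obtain ⟨x, rfl⟩ := Submodule.Quotient.mk_surjective _ y
  have hsum : Submodule.Quotient.mk (cycSum c * x) =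
      (orderOf c) • (Submodule.Quotient.mk x : MonoidAlgebra ℤ G ⧸ cycSat G) := by
    rw [cycSum, sum_mul, ← Submodule.mkQ_apply, map_sum]
    exact (sum_congr rfl fun i _ => hpow i).trans (by rw [sum_const, card_range])
  have hmem0 : cycSum c * x ∈ cycSat G := ⟨1, one_ne_zero, by rw [one_smul]; exact cycSum_mul_mem hc x⟩
  rw [(Submodule.Quotient.mk_eq_zero _).2 hmem0,
    eq_comm, ← natCast_zsmul, smul_eq_zero] at hsum
  exact hy0 (hsum.resolve_left (Int.natCast_ne_zero.2 (orderOf_pos c).ne'))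

end integral

variable {G : Type*} [Group G]

theorem HasIntFpf.comap {H : Type*} [Group H] (h : HasIntFpf G) (f : H →* G)
    (hf : Function.Injective f) : HasIntFpf H := by
  obtain ⟨d, hd, ρ, hρ⟩ := h
  exact ⟨d, hd, ρ.comp f, fun c hc => hρ _ fun e => hc (hf (e.trans (map_one f).symm))⟩

/-- A finite group with a fixed-point-free representation over `ZMod r` has an integral one. -/
theorem hasIntFpf_of_zmod [Finite G] {r n : ℕ} [hr : Fact r.Prime] (hn : 0 < n)
    (M : G →* Matrix (Fin n) (Fin n) (ZMod r)) (hM : ∀ c : G, c ≠ 1 → (M c - 1).det ≠ 0) :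
    HasIntFpf G := by
  classical
  have : NeZero n := ⟨hn.ne'⟩
  have hcop : ¬ r ∣ Nat.card G := by
    intro hd
    obtain ⟨g, hg⟩ := exists_prime_orderOf_dvd_card' r hd
    refine hM g (fun h => hr.out.one_lt.ne (by rw [← hg, h, orderOf_one])) ?_
    apply eq_zero_of_pow_eq_zero (n := r)
    have hgr : g ^ r = 1 := by
      have h := pow_orderOf_eq_one g
      rwa [hg] at h
    rw [← det_pow, sub_pow_char_of_commute r (Commute.one_right (M g)), one_pow, ← map_pow,
      hgr, map_one, sub_self, det_zero]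
  refine hasIntFpf_of_not_mem ?_
  rintro ⟨N, hN, hS⟩
  have hm : N.natAbs + 1 ≠ 0 := Nat.succ_ne_zero _
  obtain ⟨L, hL⟩ := exists_lift hm hcop M
  let f := MonoidAlgebra.lift ℤ (Matrix (Fin n) (Fin n) (ZMod (r ^ (N.natAbs + 1)))) G L
  have hle : cycIdeal G ≤ LinearMap.ker f.toLinearMap := by
    refine Submodule.span_le.2 ?_
    rintro _ ⟨g, c, h, hc, rfl⟩
    have h0 : f (cycSum c) = 0 := by
      simp only [cycSum, map_sum, f, MonoidAlgebra.lift_of]
      exact sum_pow_eq_zero hm hcop L (by rw [hL]; exact hM c hc)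
    simp [h0]
  have h := LinearMap.mem_ker.1 (hle hS)
  rw [AlgHom.toLinearMap_apply, map_smul, map_one] at h
  have h00 := congrFun (congrFun h ⟨0, hn⟩) ⟨0, hn⟩
  rw [Matrix.smul_apply, Matrix.one_apply_eq, zsmul_one, Matrix.zero_apply,
    ZMod.intCast_zmod_eq_zero_iff_dvd] at h00
  have h1 := Nat.le_of_dvd (Int.natAbs_pos.2 hN) (Int.natCast_dvd.1 h00)
  have h2 := Nat.lt_pow_self (n := N.natAbs + 1) hr.out.one_lt
  omega

/-- A finite group acting without fixed points on an elementary abelian group. -/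
theorem hasIntFpf_of_exponent [Finite G] {W : Type*} [CommGroup W] [Finite W] [Nontrivial W] (r : ℕ)
    [Fact r.Prime] [Module (ZMod r) (Additive W)] (φ : G →* MulAut W)
    (hfpf : ∀ g : G, g ≠ 1 → ∀ x : W, φ g x = x → x = 1) : HasIntFpf G := by
  classical
  have : Nontrivial (Additive W) := (Additive.toMul (α := W)).nontrivial
  have : Finite (Additive W) := Finite.of_equiv W Additive.ofMul
  let σ : G →* Module.End (ZMod r) (Additive W) :=
    { toFun := fun g => AddMonoidHom.toZModLinearMap r (MonoidHom.toAdditive (φ g).toMonoidHom)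
      map_one' := LinearMap.ext fun x => by
        apply Additive.toMul.injective
        change φ 1 _ = _
        rw [map_one]; rfl
      map_mul' := fun g h => LinearMap.ext fun x => by
        apply Additive.toMul.injective
        change φ (g * h) _ = _
        rw [map_mul]; rfl }
  let b := Module.finBasis (ZMod r) (Additive W)
  refine hasIntFpf_of_zmod (r := r) Module.finrank_pos
    ((LinearMap.toMatrixAlgEquiv b).toMonoidHom.comp σ) fun c hc h0 => ?_
  have h0' : LinearMap.det (σ c - 1) = 0 := by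
    rw [← LinearMap.det_toMatrix b, ← h0]
    congr 1
    simp only [MonoidHom.comp_apply]
    exact (map_sub (LinearMap.toMatrixAlgEquiv b) (σ c) 1).trans (congrArg _ (map_one (LinearMap.toMatrixAlgEquiv b)))
  obtain ⟨y, hy, hy0⟩ := Submodule.exists_mem_ne_zero_of_ne_bot (LinearMap.bot_lt_ker_of_det_eq_zero h0').ne'
  exact hy0 (Additive.toMul.injective
    (hfpf c hc y.toMul (congrArg Additive.toMul (sub_eq_zero.1 (LinearMap.mem_ker.1 hy)))))

open Kronecker in
/-- The tensor product of fixed-point-free representations of groups of coprime orders. -/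
theorem HasIntFpf.prod {B : Type*} [Group B] [Finite G] [Finite B] (hA : HasIntFpf G) (hB : HasIntFpf B)
    (hcop : (Nat.card G).Coprime (Nat.card B)) : HasIntFpf (G × B) := by
  classical
  obtain ⟨d, hd, ρ, hρ⟩ := hA
  obtain ⟨e, he, σ, hσ⟩ := hB
  let f : G × B →* Matrix (Fin d × Fin e) (Fin d × Fin e) ℤ :=
    { toFun := fun c => ρ c.1 ⊗ₖ σ c.2
      map_one' := by rw [Prod.fst_one, Prod.snd_one, map_one, map_one, Matrix.one_kronecker_one]
      map_mul' := fun x y => by rw [Prod.fst_mul, Prod.snd_mul, map_mul, map_mul, Matrix.mul_kronecker_mul] }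
  refine ⟨d * e, Nat.mul_pos hd he,
    (Matrix.reindexAlgEquiv ℤ ℤ (finProdFinEquiv (m := d) (n := e))).toMonoidHom.comp f, fun c hc => ?_⟩
  have e0 : ((Matrix.reindexAlgEquiv ℤ ℤ (finProdFinEquiv (m := d) (n := e))).toMonoidHom.comp f) c - 1 =
      Matrix.reindexAlgEquiv ℤ ℤ finProdFinEquiv (f c - 1) := by
    rw [map_sub, map_one]; rfl
  rw [e0, Matrix.det_reindexAlgEquiv]
  intro h0
  have hdet : ∀ k : ℕ, (f (c ^ k) - 1).det = 0 := fun k => by
    rw [map_pow, ← geom_sum_mul, det_mul, h0, mul_zero]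
  by_cases h1 : c.1 ^ Nat.card B = 1
  · have hc1 : c.1 = 1 := orderOf_eq_one_iff.1 (Nat.eq_one_of_dvd_coprimes hcop (orderOf_dvd_natCard _)
      (orderOf_dvd_iff_pow_eq_one.2 h1))
    have hc2 : c.2 ≠ 1 := fun h => hc (Prod.ext hc1 h)
    have h := hdet 1
    rw [pow_one] at h
    have hk : f c - 1 = (1 : Matrix (Fin d) (Fin d) ℤ) ⊗ₖ (σ c.2 - 1) := by
      show ρ c.1 ⊗ₖ σ c.2 - 1 = _
      rw [hc1, map_one]
      ext ⟨i, j⟩ ⟨i', j'⟩
      simp only [Matrix.sub_apply, Matrix.kroneckerMap_apply, Matrix.one_apply, Prod.mk.injEq]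
      split_ifs <;> simp_all
    rw [hk, det_kronecker, det_one, one_pow, one_mul] at h
    exact hσ _ hc2 (eq_zero_of_pow_eq_zero h)
  · have h := hdet (Nat.card B)
    have hk : f (c ^ Nat.card B) - 1 = (ρ (c.1 ^ Nat.card B) - 1) ⊗ₖ (1 : Matrix (Fin e) (Fin e) ℤ) := by
      show ρ (c ^ Nat.card B).1 ⊗ₖ σ (c ^ Nat.card B).2 - 1 = _
      rw [Prod.pow_fst, Prod.pow_snd, pow_card_eq_one', map_one]
      ext ⟨i, j⟩ ⟨i', j'⟩
      simp only [Matrix.sub_apply, Matrix.kroneckerMap_apply, Matrix.one_apply, Prod.mk.injEq]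
      split_ifs <;> simp_all
    rw [hk, det_kronecker, det_one, one_pow, mul_one] at h
    exact hρ _ h1 (eq_zero_of_pow_eq_zero h)

end CfsgLib.Perm.Zass
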