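import Cfsg.Agent.Lib.Perm.Zass.Main
import Cfsg.Agent.Lib.Perm.Zass.IntFpf
import Cfsg.Agent.Lib.Base.FrobeniusConj
import Cfsg.Agent.Lib.Base.ThompsonFPF

/-!
Perfect groups acting without fixed points on vector spaces and on groups; the passage between
fixed-point-free actions, integral representations and Frobenius complements.
-/

namespace CfsgLib.Perm.Zass

open Matrix

/-- A perfect non-trivial group acting without fixed points on a vector space is `SL(2,5)`. -/
theorem mulEquiv_SL_five_of_linear {G : Type*} [Group G] [Finite G] [Nontrivial G]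
    (hperf : commutator G = ⊤) {F : Type*} [Field F] {W : Type*} [AddCommGroup W] [Module F W]
    [FiniteDimensional F W] [Nontrivial W] (σ : G →* Module.End F W) (hσ : Fpf σ) :
    Nonempty (G ≃* Matrix.SpecialLinearGroup (Fin 2) (ZMod 5)) := by
  classical
  let b := Module.finBasis F W
  let n := Module.finrank F W
  let k := AlgebraicClosure F
  let M : G →* Matrix (Fin n) (Fin n) F := (LinearMap.toMatrixAlgEquiv b).toMonoidHom.comp σ
  let ρ : G →* Module.End k (Fin n → k) :=
    (Matrix.toLinAlgEquiv' (R := k) (n := Fin n)).toMonoidHom.comp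
      ((RingHom.mapMatrix (algebraMap F k)).toMonoidHom.comp M)
  have hρ : Fpf ρ := by
    intro g v hv hgv
    have hgv' : ((M g).map (algebraMap F k)) *ᵥ v = v := hgv
    have h0 : ((M g - 1).map (algebraMap F k)).det = 0 := by
      refine Matrix.exists_mulVec_eq_zero_iff.1 ⟨v, hv, ?_⟩
      rw [Matrix.map_sub _ (map_sub _), Matrix.map_one _ (map_zero _) (map_one _), Matrix.sub_mulVec,
        Matrix.one_mulVec, hgv', sub_self]
    rw [← RingHom.mapMatrix_apply, ← RingHom.map_det, map_eq_zero] at h0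
    obtain ⟨w, hw, hw0⟩ := Matrix.exists_mulVec_eq_zero_iff.2 h0
    refine hσ g (b.equivFun.symm w) (fun h => hw (b.equivFun.symm.injective (h.trans (map_zero _).symm))) ?_
    rw [Matrix.sub_mulVec, Matrix.one_mulVec, sub_eq_zero] at hw0
    apply b.equivFun.injective
    rw [LinearEquiv.apply_symm_apply]
    refine (?_ : b.equivFun (σ g (b.equivFun.symm w)) = (M g) *ᵥ w).trans hw0
    have := LinearMap.toMatrix_mulVec_repr b b (σ g) (b.equivFun.symm w)
    simp only [← Module.Basis.equivFun_apply, LinearEquiv.apply_symm_apply] at this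
    exact this.symm
  have : NeZero n := ⟨Module.finrank_pos.ne'⟩
  exact mulEquiv_SL_five_of_perfect hρ hperf

open scoped IsMulCommutative in
/-- A finite group of automorphisms acting without fixed points has an integral representation
without fixed points. -/
theorem hasIntFpf_of_action {G : Type*} [Group G] [Finite G] [Nontrivial G]
    {K : Type*} [Group K] [Finite K] [Nontrivial K]
    (φ : G →* MulAut K) (hfpf : ∀ g : G, g ≠ 1 → ∀ x : K, φ g x = x → x = 1) : HasIntFpf G := by
  classical
  -- nilpotency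
  obtain ⟨q, hq, hqd⟩ := Nat.exists_prime_and_dvd (Finite.one_lt_card (α := G)).ne'
  have := Fact.mk hq
  obtain ⟨a, ha⟩ := exists_prime_orderOf_dvd_card' q hqd
  have ha1 : a ≠ 1 := fun h => hq.one_lt.ne (by rw [← ha, h, orderOf_one])
  have hnil : Group.IsNilpotent K := CfsgLib.Base.isNilpotent_of_fixedPointFree (φ a)
    (fun x hx => hfpf a ha1 x hx) hq (by rw [← map_pow, ← ha, pow_orderOf_eq_one, map_one])
  have hZ : Nontrivial (Subgroup.center K) :=
    (Subgroup.nontrivial_iff_ne_bot _).2 (Group.IsNilpotent.center_ne_bot K)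
  obtain ⟨r, hr, hrd⟩ := Nat.exists_prime_and_dvd (Finite.one_lt_card (α := Subgroup.center K)).ne'
  have := Fact.mk hr
  obtain ⟨⟨z, hzc⟩, hz⟩ := exists_prime_orderOf_dvd_card' r hrd
  rw [Subgroup.orderOf_mk] at hz
  -- the central elements of exponent `r`
  let W : Subgroup K :=
    { carrier := {x | x ∈ Subgroup.center K ∧ x ^ r = 1}
      one_mem' := ⟨one_mem _, one_pow r⟩
      mul_mem' := fun {x y} hx hy => ⟨mul_mem hx.1 hy.1, by
        have hxy : Commute x y := (Subgroup.mem_center_iff.1 hx.1 y).symm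
        rw [hxy.mul_pow, hx.2, hy.2, one_mul]⟩
      inv_mem' := fun {x} hx => ⟨inv_mem hx.1, by rw [inv_pow, hx.2, inv_one]⟩ }
  have : IsMulCommutative W := ⟨⟨fun x y => Subtype.ext (Subgroup.mem_center_iff.1 y.2.1 x)⟩⟩
  have hmem : ∀ (g : G) (x : K), x ∈ W → φ g x ∈ W := fun g x hx => ⟨by
    rw [Subgroup.mem_center_iff]
    intro y
    obtain ⟨y, rfl⟩ := (φ g).surjective y
    rw [← map_mul, ← map_mul, Subgroup.mem_center_iff.1 hx.1], by rw [← map_pow, hx.2, map_one]⟩
  let ψ : G →* MulAut W :=
    { toFun := fun g =>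
        { toFun := fun x => ⟨φ g x, hmem g x x.2⟩
          invFun := fun x => ⟨φ g⁻¹ x, hmem g⁻¹ x x.2⟩
          left_inv := fun x => Subtype.ext (by simp)
          right_inv := fun x => Subtype.ext (by simp)
          map_mul' := fun x y => Subtype.ext (map_mul (φ g) (x : K) (y : K)) }
      map_one' := MulEquiv.ext fun x => Subtype.ext (by simp)
      map_mul' := fun g h => MulEquiv.ext fun x => Subtype.ext (by simp) }
  have : Nontrivial W := (Subgroup.nontrivial_iff_ne_bot W).2 fun h => by
    have : z ∈ W := ⟨hzc, hz ▸ pow_orderOf_eq_one z⟩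
    rw [h, Subgroup.mem_bot] at this
    rw [this, orderOf_one] at hz
    exact hr.one_lt.ne hz
  have hr0 : ∀ x : Additive W, r • x = 0 := fun x => by
    apply Additive.toMul.injective
    rw [toMul_nsmul, toMul_zero]
    exact Subtype.ext x.toMul.2.2
  exact @hasIntFpf_of_exponent G _ _ W _ _ _ r _ (AddCommGroup.zmodModule hr0) ψ
    fun g hg x hx => Subtype.ext (hfpf g hg _ (congrArg Subtype.val hx))

/-- An integral representation without fixed points, read over a field of characteristic zero. -/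
theorem HasIntFpf.exists_fpf {G : Type*} [Group G] (h : HasIntFpf G) (k : Type*) [Field k] [CharZero k] :
    ∃ n, ∃ ρ : G →* Module.End k (Fin (n + 1) → k), Fpf ρ := by
  classical
  obtain ⟨d, hd, M, hM⟩ := h
  obtain ⟨n, rfl⟩ := Nat.exists_eq_succ_of_ne_zero hd.ne'
  refine ⟨n, (Matrix.toLinAlgEquiv' (R := k) (n := Fin (n + 1))).toMonoidHom.comp
      ((RingHom.mapMatrix (Int.castRingHom k)).toMonoidHom.comp M), fun g v hv hgv => ?_⟩
  by_contra hg
  have hgv' : ((M g).map (Int.castRingHom k)) *ᵥ v = v := hgv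
  have h0 : ((M g - 1).map (Int.castRingHom k)).det = 0 := by
    refine Matrix.exists_mulVec_eq_zero_iff.1 ⟨v, hv, ?_⟩
    rw [Matrix.map_sub _ (map_sub _), Matrix.map_one _ (map_zero _) (map_one _), Matrix.sub_mulVec,
      Matrix.one_mulVec, hgv', sub_self]
  rw [← RingHom.mapMatrix_apply, ← RingHom.map_det, eq_intCast, Int.cast_eq_zero] at h0
  exact hM g hg h0

/-- An integral representation without fixed points makes a group a Frobenius complement. -/
theorem HasIntFpf.exists_frobenius {G : Type*} [Group G] [Finite G] [Nontrivial G] (h : HasIntFpf G) :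
    ∃ (L : Type) (_ : Group L) (_ : Finite L) (H : Subgroup L),
      Cfsg.IsFrobeniusComplement H ∧ Nonempty (G ≃* H) := by
  classical
  obtain ⟨d, hd, ρ, hρ⟩ := h
  have := Fintype.ofFinite G
  obtain ⟨ℓ, hℓ, hℓp⟩ := Nat.exists_infinite_primes ((Finset.univ.sup fun c : G => (ρ c - 1).det.natAbs) + 1)
  have := Fact.mk hℓp
  obtain ⟨L, i1, i2, C, h1, -, h3⟩ := CfsgLib.FgsC.exists_frobenius_of_matrix (R := ZMod ℓ) hd G
    ((Int.castRingHom (ZMod ℓ)).mapMatrix.toMonoidHom.comp ρ) (fun c hc => by
      have e : ((Int.castRingHom (ZMod ℓ)).mapMatrix.toMonoidHom.comp ρ) c - 1 =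
          (Int.castRingHom (ZMod ℓ)).mapMatrix (ρ c - 1) := by
        rw [map_sub, map_one]; rfl
      rw [isUnit_iff_ne_zero, e, ← RingHom.map_det, eq_intCast, ne_eq,
        ZMod.intCast_zmod_eq_zero_iff_dvd]
      intro hdvd
      have h1' := Nat.le_of_dvd (Int.natAbs_pos.mpr (hρ c hc)) (Int.natCast_dvd.mp hdvd)
      have h2' := Finset.le_sup (f := fun c : G => (ρ c - 1).det.natAbs) (Finset.mem_univ c)
      omega)
  exact ⟨L, i1, i2, C, h1, h3⟩

/-- A Frobenius complement has an integral representation without fixed points. -/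
theorem hasIntFpf_of_frobeniusComplement {G : Type*} [Group G]
    (hFC : ∃ (L : Type) (_ : Group L) (_ : Finite L) (H : Subgroup L),
      Cfsg.IsFrobeniusComplement H ∧ Nonempty (G ≃* H)) : HasIntFpf G := by
  obtain ⟨L, _, _, H, hH, ⟨e⟩⟩ := hFC
  obtain ⟨N, -, hN, -, hN1, hfpf⟩ := CfsgLib.Base.Frobenius.exists_isFPF hH
  have : Nontrivial H := (Subgroup.nontrivial_iff_ne_bot H).2 hH.1
  have : Nontrivial N := (Subgroup.nontrivial_iff_ne_bot N).2 hN1
  refine (hasIntFpf_of_action ((MulAut.conjNormal (H := N)).comp H.subtype) fun g hg x hx => ?_).comap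
    e.toMonoidHom e.injective
  by_contra hx1
  refine hg (Subtype.ext ?_)
  by_contra hg1
  exact hx1 (Subtype.ext (hfpf.eq_one_of_commute g.2 hg1 x.2
    (mul_inv_eq_iff_eq_mul.1 (congrArg Subtype.val hx))))

/-- A perfect non-trivial group of automorphisms acting without fixed points is `SL(2,5)`. -/
theorem mulEquiv_SL_five_of_action {G : Type*} [Group G] [Finite G] [Nontrivial G]
    (hperf : commutator G = ⊤) {K : Type*} [Group K] [Finite K] [Nontrivial K]
    (φ : G →* MulAut K) (hfpf : ∀ g : G, g ≠ 1 → ∀ x : K, φ g x = x → x = 1) :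
    Nonempty (G ≃* Matrix.SpecialLinearGroup (Fin 2) (ZMod 5)) := by
  obtain ⟨n, ρ, hρ⟩ := (hasIntFpf_of_action φ hfpf).exists_fpf (AlgebraicClosure ℚ)
  exact mulEquiv_SL_five_of_perfect hρ hperf

end CfsgLib.Perm.Zass
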