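import Cfsg.Agent.Lib.Perm.Zass.Apply
import Cfsg.Agent.Lib.Perm.AutQ8

/-!
Non-solvable groups with fixed-point-free representations.
-/

namespace CfsgLib.Perm.Zass

open Subgroup
open scoped commutatorElement

theorem exists_perfect_normal {G : Type*} [Group G] [Finite G] (hns : ¬ Group.IsSolvable G) :
    ∃ R : Subgroup G, R.Normal ∧ R ≠ ⊥ ∧ commutator R = ⊤ := by
  obtain ⟨n, hn⟩ : ∃ n, derivedSeries G (n + 1) = derivedSeries G n := by
    by_contra! h
    have hlt : ∀ n, derivedSeries G (n + 1) < derivedSeries G n := fun n =>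
      lt_of_le_of_ne (derivedSeries_antitone G (Nat.le_succ n)) (h n)
    exact not_injective_infinite_finite _ (strictAnti_nat_of_succ_lt hlt).injective
  refine ⟨derivedSeries G n, derivedSeries_normal G n, fun h => hns ⟨n, h⟩, ?_⟩
  apply Subgroup.map_injective (derivedSeries G n).subtype_injective
  rw [map_subtype_commutator, ← derivedSeries_succ, hn, ← MonoidHom.range_eq_map, range_subtype]

/-- The action of automorphisms on the central quotient. -/
def centerQuotientAut (R : Type*) [Group R] : MulAut R →* MulAut (R ⧸ center R) where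
  toFun σ := QuotientGroup.congr (center R) (center R) σ
    (characteristic_iff_map_eq.1 inferInstance σ)
  map_one' := MulEquiv.ext fun x => by obtain ⟨a, rfl⟩ := QuotientGroup.mk_surjective x; rfl
  map_mul' σ τ := MulEquiv.ext fun x => by obtain ⟨a, rfl⟩ := QuotientGroup.mk_surjective x; rfl

theorem eq_one_of_centerQuotientAut {R : Type*} [Group R] (hperf : commutator R = ⊤) {σ : MulAut R}
    (h : centerQuotientAut R σ = 1) : σ = 1 := by
  have hd : ∀ r : R, r⁻¹ * σ r ∈ center R := fun r =>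
    QuotientGroup.eq.1 (DFunLike.congr_fun h (r : R ⧸ center R)).symm
  let d : R →* center R :=
    { toFun := fun r => ⟨r⁻¹ * σ r, hd r⟩
      map_one' := Subtype.ext (by simp)
      map_mul' := fun a b => Subtype.ext (by
        simp only [Subgroup.coe_mul, map_mul, _root_.mul_inv_rev]
        calc b⁻¹ * a⁻¹ * (σ a * σ b) = b⁻¹ * (a⁻¹ * σ a) * σ b := by group
          _ = _ := by rw [mem_center_iff.1 (hd a) b⁻¹, mul_assoc]) }
  have : Group.IsSolvable (center R) := Group.isSolvable_of_comm fun a b => Subtype.ext (mem_center_iff.1 b.2 a)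
  have hd1 : d = 1 := eq_one_of_perfect_solvable hperf d
  refine MulEquiv.ext fun r => ?_
  exact (inv_mul_eq_one.1 (congrArg Subtype.val (DFunLike.congr_fun hd1 r))).symm

/-- Conjugation by permutations is the automorphism group of the alternating group of degree five. -/
theorem conjNormal_bijective :
    Function.Bijective (MulAut.conjNormal : Equiv.Perm (Fin 5) →* MulAut (alternatingGroup (Fin 5))) := by
  have hinj : Function.Injective
      (MulAut.conjNormal : Equiv.Perm (Fin 5) →* MulAut (alternatingGroup (Fin 5))) := by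
    refine (injective_iff_map_eq_one _).2 fun σ h => alternating_centralizer_five σ fun τ hτ => ?_
    have hmem : τ ∈ alternatingGroup (Fin 5) := by
      simp only [List.mem_cons, List.not_mem_nil, or_false] at hτ
      rcases hτ with rfl | rfl <;> rw [Equiv.Perm.mem_alternatingGroup] <;> decide
    have h' : σ * τ * σ⁻¹ = τ := congrArg Subtype.val (DFunLike.congr_fun h (⟨τ, hmem⟩ : alternatingGroup (Fin 5)))
    exact mul_inv_eq_iff_eq_mul.1 h' 
  refine hinj.bijective_of_nat_card_le ?_
  rw [Nat.card_perm, Nat.card_fin]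
  exact card_mulAut_alternating_five

variable {G : Type*} [Group G] [Finite G] {k : Type*} [Field k] [IsAlgClosed k] {V : Type*}
  [AddCommGroup V] [Module k V] [FiniteDimensional k V] [Nontrivial V] {ρ : G →* Module.End k V}

omit [IsAlgClosed k] [FiniteDimensional k V] [Nontrivial V] in
theorem Fpf.comp_subtype {G : Type*} [Group G] {ρ : G →* Module.End k V} (hρ : Fpf ρ) (H : Subgroup G) :
    Fpf (ρ.comp H.subtype) := fun g v hv h => Subtype.ext (hρ g v hv h)

omit [IsAlgClosed k] [FiniteDimensional k V] in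
theorem Fpf.unique_involution {G : Type*} [Group G] {ρ : G →* Module.End k V} (hρ : Fpf ρ) {s t : G}
    (hs : s * s = 1) (hs1 : s ≠ 1) (ht : t * t = 1) (ht1 : t ≠ 1) : s = t :=
  hρ.injective ((hρ.map_sq_eq_one hs hs1).trans (hρ.map_sq_eq_one ht ht1).symm)

/-- The normal subgroup `SL(2,5)` and the permutation action on it. -/
theorem exists_perm_five (hρ : Fpf ρ) (hns : ¬ Group.IsSolvable G) :
    ∃ (R : Subgroup G) (Φ : G →* Equiv.Perm (Fin 5)), R.Normal ∧
      Nonempty (R ≃* Matrix.SpecialLinearGroup (Fin 2) (ZMod 5)) ∧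
      Φ.ker = centralizer (R : Set G) ∧ R.map Φ = alternatingGroup (Fin 5) ∧
      Nat.card (R ⊓ centralizer (R : Set G) : Subgroup G) = 2 := by
  obtain ⟨R, hRn, hR1, hperf⟩ := exists_perfect_normal hns
  have : Nontrivial R := (nontrivial_iff_ne_bot R).2 hR1
  obtain ⟨e⟩ := mulEquiv_SL_five_of_perfect (hρ.comp_subtype R) hperf
  obtain ⟨f₀, hf₀⟩ := exists_cover_SL_five
  let f : R →* alternatingGroup (Fin 5) := f₀.comp e.toMonoidHom
  have hf : Function.Surjective f := hf₀.comp e.surjective
  have h60 : Nat.card (alternatingGroup (Fin 5)) = 60 := by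
    rw [nat_card_alternatingGroup, Nat.card_fin]; rfl
  have hker : Nat.card f.ker = 2 := by
    have := card_mul_index f.ker
    rw [index_ker, MonoidHom.range_eq_top.2 hf, card_top, h60, Nat.card_congr e.toEquiv,
      card_SL_five] at this
    omega
  have hZ : center R = f.ker := by
    refine le_antisymm (fun z hz => ?_) fun z hz => mem_center_of_normal_card_two hker hz
    have hcen : f z ∈ center (alternatingGroup (Fin 5)) := by
      rw [mem_center_iff]
      intro a
      obtain ⟨c, rfl⟩ := hf a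
      rw [← map_mul, ← map_mul, mem_center_iff.1 hz c]
    rwa [CfsgLib.Small.center_eq_bot (G := alternatingGroup (Fin 5))
      (CfsgLib.Small.not_isMulCommutative_of_card (by
        rw [nat_card_alternatingGroup, Nat.card_fin]; norm_num)), mem_bot] at hcen
  let eQ : R ⧸ center R ≃* alternatingGroup (Fin 5) :=
    (QuotientGroup.quotientMulEquivOfEq hZ).trans (QuotientGroup.quotientKerEquivOfSurjective f hf)
  let ψ := MulEquiv.ofBijective _ conjNormal_bijective
  let Φ : G →* Equiv.Perm (Fin 5) := ψ.symm.toMonoidHom.comp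
    ((MulAut.congr eQ).toMonoidHom.comp ((centerQuotientAut R).comp (MulAut.conjNormal (H := R))))
  refine ⟨R, Φ, hRn, ⟨e⟩, ?_, ?_, ?_⟩
  · ext g
    rw [MonoidHom.mem_ker]
    have : Φ g = 1 ↔ (MulAut.conjNormal g : MulAut R) = 1 := by
      simp only [Φ, MonoidHom.comp_apply, MulEquiv.coe_toMonoidHom, MulEquiv.map_eq_one_iff]
      exact ⟨eq_one_of_centerQuotientAut hperf, fun h => by rw [h, map_one]⟩
    rw [this, Subgroup.mem_centralizer_iff]
    refine ⟨fun h r hr => ?_, fun h => MulEquiv.ext fun r => Subtype.ext ?_⟩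
    · exact (mul_inv_eq_iff_eq_mul.1 (congrArg Subtype.val (DFunLike.congr_fun h ⟨r, hr⟩))).symm
    · rw [MulAut.conjNormal_apply, MulAut.one_apply, ← h r r.2, mul_inv_cancel_right]
  · have hΦ : ∀ r : R, Φ r = (f r : Equiv.Perm (Fin 5)) := by
      intro r
      refine ψ.injective ((ψ.apply_symm_apply _).trans (MulEquiv.ext fun a => ?_))
      obtain ⟨c, rfl⟩ := hf a
      have hc : eQ.symm (f c) = (c : R ⧸ center R) := eQ.symm_apply_eq.2 rfl
      change eQ (centerQuotientAut R (MulAut.conjNormal (r : G)) (eQ.symm (f c))) = _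
      rw [hc]
      change f (MulAut.conjNormal (r : G) c) = _
      rw [show MulAut.conjNormal (r : G) c = r * c * r⁻¹ from Subtype.ext rfl, map_mul, map_mul, map_inv]
      exact Subtype.ext rfl
    ext σ
    refine ⟨?_, fun hσ => ?_⟩
    · rintro ⟨r, hr, rfl⟩
      rw [hΦ ⟨r, hr⟩]; exact SetLike.coe_mem _
    · obtain ⟨r, hr⟩ := hf ⟨σ, hσ⟩
      exact ⟨r, r.2, (hΦ r).trans (congrArg Subtype.val hr)⟩
  · have : (R ⊓ centralizer (R : Set G) : Subgroup G) = (center R).map R.subtype := by
      ext g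
      constructor
      · rintro ⟨hg, hgc⟩
        exact ⟨⟨g, hg⟩, mem_center_iff.2 fun r => Subtype.ext (mem_centralizer_iff.1 hgc r r.2), rfl⟩
      · rintro ⟨z, hz, rfl⟩
        exact ⟨z.2, mem_centralizer_iff.2 fun r hr => congrArg Subtype.val (mem_center_iff.1 hz ⟨r, hr⟩)⟩
    rw [this, card_map_of_injective R.subtype_injective, hZ, hker]

theorem exists_order_four_SL_five :
    ∃ w : Matrix.SpecialLinearGroup (Fin 2) (ZMod 5), w ^ 4 = 1 ∧ w ^ 2 ≠ 1 :=
  ⟨⟨!![0, -1; 1, 0], by decide⟩, by decide, by decide⟩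

/-- The centraliser of the `SL(2,5)` has order not divisible by four. -/
theorem centralizer_not_dvd_four (hρ : Fpf ρ) {R : Subgroup G}
    (eR : R ≃* Matrix.SpecialLinearGroup (Fin 2) (ZMod 5))
    (hcard : Nat.card (R ⊓ centralizer (R : Set G) : Subgroup G) = 2) :
    ¬ 4 ∣ Nat.card (centralizer (R : Set G)) := by
  intro h4
  have : Fact (Nat.Prime 2) := ⟨Nat.prime_two⟩
  obtain ⟨P, hP⟩ := Sylow.exists_subgroup_card_pow_prime 2 (G := centralizer (R : Set G)) (n := 2) h4
  rcases pgroup_cases (hρ.comp_subtype (centralizer (R : Set G)))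
      (IsPGroup.of_card (p := 2) (n := 2) hP) with hc | ⟨-, n, hn, ⟨e⟩⟩
  · obtain ⟨u, hu⟩ := hc.exists_generator
    have ho : orderOf ((u : centralizer (R : Set G)) : G) = 4 := by
      rw [orderOf_coe, orderOf_coe, orderOf_eq_card_of_forall_mem_zpowers hu, hP]; rfl
    obtain ⟨w₀, hw4, hw2⟩ := exists_order_four_SL_five
    set u' : G := ((u : centralizer (R : Set G)) : G) with hu'
    set w : R := eR.symm w₀ with hw
    have hwG4 : (w : G) ^ 4 = 1 := by rw [← SubmonoidClass.coe_pow, hw, ← map_pow, hw4, map_one]; rfl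
    have hwG2 : (w : G) ^ 2 ≠ 1 := by
      rw [← SubmonoidClass.coe_pow, hw, ← map_pow]
      exact fun h => hw2 (eR.symm.injective ((Subtype.ext h).trans (map_one eR.symm).symm))
    have hu4 : u' ^ 4 = 1 := ho ▸ pow_orderOf_eq_one u'
    have hu2 : u' ^ 2 ≠ 1 := pow_ne_one_of_lt_orderOf (by norm_num) (by omega)
    have hsq : u' ^ 2 = (w : G) ^ 2 := hρ.unique_involution
      (by rw [← pow_add]; exact hu4) hu2 (by rw [← pow_add]; exact hwG4) hwG2
    have hmemC : u' ∈ centralizer (R : Set G) := (u : centralizer (R : Set G)).2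
    have hcomm : Commute u' ((w : G)⁻¹) :=
      Commute.inv_right (mem_centralizer_iff.1 hmemC (w : G) w.2).symm
    have hx : (u' * (w : G)⁻¹) * (u' * (w : G)⁻¹) = 1 := by
      rw [← pow_two, hcomm.mul_pow, inv_pow, hsq, mul_inv_cancel]
    have huR : u' ∈ R := by
      rcases eq_or_ne (u' * (w : G)⁻¹) 1 with h | h
      · rw [mul_inv_eq_one] at h; exact h ▸ w.2
      · have hτ : u' * (w : G)⁻¹ = (w : G) ^ 2 :=
          hρ.unique_involution hx h (by rw [← pow_add]; exact hwG4) hwG2
        rw [mul_inv_eq_iff_eq_mul] at hτ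
        rw [hτ]
        exact mul_mem (pow_mem w.2 2) w.2
    have hd := Subgroup.orderOf_dvd_natCard (R ⊓ centralizer (R : Set G)) ⟨huR, hmemC⟩
    rw [ho, hcard] at hd
    norm_num at hd
  · rw [Nat.card_congr e.toEquiv, Nat.card_eq_fintype_card, QuaternionGroup.card] at hP
    have : 2 ≤ 2 ^ n := Nat.le_self_pow (by omega) 2
    omega

/-- The structure of a non-solvable group with a fixed-point-free representation. -/
theorem nonsolvable_structure (hρ : Fpf ρ) (hns : ¬ Group.IsSolvable G) :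
    ∃ G₀ : Subgroup G, G₀.Normal ∧ (G₀.index = 1 ∨ G₀.index = 2) ∧
      ∃ S M : Subgroup G, S ⊔ M = G₀ ∧ S ⊓ M = ⊥ ∧ (∀ s ∈ S, ∀ x ∈ M, s * x = x * s) ∧
        Nonempty (S ≃* Matrix.SpecialLinearGroup (Fin 2) (ZMod 5)) ∧
        (∀ (p : ℕ) [Fact p.Prime] (P : Sylow p M), IsCyclic P) ∧ (Nat.card M).Coprime 30 := by
  classical
  obtain ⟨R, Φ, hRn, ⟨eR⟩, hker, hmap, hcard⟩ := exists_perm_five hρ hns
  set C := centralizer (R : Set G) with hC
  have hCn : C.Normal := hker ▸ Φ.normal_ker
  have : Fact (Nat.Prime 2) := ⟨Nat.prime_two⟩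
  -- the central involution inside the centraliser
  let Z : Subgroup C := (R ⊓ C).subgroupOf C
  have hZcard : Nat.card Z = 2 := by
    rw [Nat.card_congr (subgroupOfEquivOfLe inf_le_right).toEquiv, hcard]
  have hidx : ¬ 2 ∣ Z.index := by
    intro h
    apply centralizer_not_dvd_four hρ eR hcard
    rw [← card_mul_index Z, hZcard]
    obtain ⟨c, hc⟩ := h
    exact ⟨c, by rw [hc]; ring⟩
  obtain ⟨M₀, hM₀⟩ := exists_right_complement'_of_coprime (N := Z) (by
    rw [hZcard]; exact Nat.prime_two.coprime_iff_not_dvd.2 hidx)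
  set M := M₀.map C.subtype with hM
  have hMC : M ≤ C := map_subtype_le M₀
  have hMcard : Nat.card M = Z.index := by
    rw [hM, card_map_of_injective C.subtype_injective, hM₀.symm.index_eq_card]
  have hRM : R ⊓ M = ⊥ := by
    have h : Nat.card (R ⊓ M : Subgroup G) = 1 := by
      refine Nat.eq_one_of_dvd_coprimes (Nat.prime_two.coprime_iff_not_dvd.2 hidx) ?_ ?_
      · rw [← hcard]; exact card_dvd_of_le (inf_le_inf_left R hMC)
      · rw [← hMcard]; exact card_dvd_of_le inf_le_right
    exact card_eq_one.1 h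
  have hsup : R ⊔ M = (alternatingGroup (Fin 5)).comap Φ := by
    rw [← hmap, comap_map_eq, hker]
    refine le_antisymm (sup_le_sup_left hMC R) (sup_le le_sup_left fun c hc => ?_)
    obtain ⟨⟨⟨z, hz⟩, ⟨m, hm⟩⟩, h⟩ := hM₀.2 (⟨c, hc⟩ : C)
    have hc' : (z : G) * (m : G) = c := congrArg Subtype.val h
    rw [← hc']
    exact mul_mem_sup (mem_subgroupOf.1 hz).1 (mem_map_of_mem C.subtype hm)
  refine ⟨(alternatingGroup (Fin 5)).comap Φ, inferInstance, ?_, R, M, hsup, hRM,
    fun s hs x hx => mem_centralizer_iff.1 (hMC hx) s hs, ⟨eR⟩, fun p hp P => ?_, ?_⟩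
  · rw [index_comap]
    refine (Nat.dvd_prime Nat.prime_two).1 ((relIndex_dvd_index_of_normal _ _).trans ?_)
    exact dvd_of_eq alternatingGroup.index_eq_two
  · have := Fact.mk hp.out
    exact (isZGroup_of_odd (hρ.comp_subtype M) (hMcard ▸ hidx)).isZGroup p hp.out P
  · have hq : ∀ q : ℕ, q.Prime → q ∣ 120 → ¬ q ∣ Nat.card M := by
      intro q hq hqR hqM
      have := Fact.mk hq
      obtain ⟨y, hy⟩ := exists_prime_orderOf_dvd_card' q
        (show q ∣ Nat.card R by rw [Nat.card_congr eR.toEquiv, card_SL_five]; exact hqR)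
      obtain ⟨z, hz⟩ := exists_prime_orderOf_dvd_card' q hqM
      rw [← orderOf_coe] at hy hz
      have hmem : (y : G) ∈ zpowers (z : G) := mem_zpowers_of_commute hρ (p := q)
        (hz ▸ pow_orderOf_eq_one _) (fun h => hq.one_lt.ne (by rw [← hz, h, orderOf_one]))
        (hy ▸ pow_orderOf_eq_one _) (mem_centralizer_iff.1 (hMC z.2) y y.2)
      have h : (y : G) ∈ R ⊓ M := ⟨y.2, zpowers_le.2 z.2 hmem⟩
      rw [hRM, mem_bot] at h
      exact hq.one_lt.ne (by rw [← hy, h, orderOf_one])
    rw [show (30 : ℕ) = 2 * 3 * 5 from rfl]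
    refine Nat.Coprime.mul_right (Nat.Coprime.mul_right ?_ ?_) ?_ <;>
      refine (Nat.Coprime.symm ((Nat.Prime.coprime_iff_not_dvd (by norm_num)).2 (hq _ (by norm_num) (by norm_num))))

end CfsgLib.Perm.Zass
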