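import Cfsg.Agent.Lib.Perm.Zass.SixTypes

/-!
Presentations of `Z`-groups with fixed-point-free representations; irreducible constituents.
-/

namespace CfsgLib.Perm.Zass

open Subgroup

variable {G : Type*} [Group G] [Finite G] {k : Type*} [Field k] [IsAlgClosed k] {V : Type*}
  [AddCommGroup V] [Module k V] [FiniteDimensional k V] [Nontrivial V] {ρ : G →* Module.End k V}

omit [Finite G] in
theorem conj_pow' (g z : G) (i : ℕ) : (g⁻¹ * z * g) ^ i = g⁻¹ * z ^ i * g := by
  conv_lhs => rw [show g⁻¹ * z * g = g⁻¹ * z * g⁻¹⁻¹ by rw [inv_inv]]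
  rw [conj_pow, inv_inv]

/-- An element of prime order normalising a cyclic group of order prime to it centralises it. -/
theorem commute_of_prime_normalizes (hρ : Fpf ρ) {p : ℕ} [hp : Fact p.Prime] {a b : G} {s : ℕ}
    (ha : a ^ p = 1) (ha1 : a ≠ 1) (hab : a⁻¹ * b * a = b ^ s) : a * b = b * a := by
  classical
  by_contra hne
  obtain ⟨l, hl⟩ := Module.End.exists_eigenvalue (ρ b)
  obtain ⟨v, hv⟩ := hl.exists_hasEigenvector
  have hpow : ∀ (g : G) (μ : k) (w : V), ρ g w = μ • w → ∀ i : ℕ, ρ (g ^ i) w = μ ^ i • w := by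
    intro g μ w h i
    induction i with
    | zero => simp
    | succ i ih => rw [pow_succ, map_mul, Module.End.mul_apply, h, map_smul, ih, smul_smul, ← pow_succ']
  -- the eigenvalue has the order of `b`
  have hord : ∀ i j : ℕ, l ^ i = l ^ j → b ^ i = b ^ j := by
    intro i j h
    have hfix : ρ ((b ^ j)⁻¹ * b ^ i) v = v := by
      rw [map_mul, Module.End.mul_apply, hpow b l v hv.apply_eq_smul i, h, ← hpow b l v hv.apply_eq_smul j,
        ← Module.End.mul_apply, ← map_mul, inv_mul_cancel, map_one, Module.End.one_apply]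
    exact (inv_mul_eq_one.1 (hρ _ v hv.2 hfix)).symm
  have hconj : ∀ i : ℕ, (a ^ i)⁻¹ * b * a ^ i = b ^ (s ^ i) := by
    intro i
    induction i with
    | zero => simp
    | succ i ih =>
      have h := conj_pow' a b (s ^ i)
      calc (a ^ (i + 1))⁻¹ * b * a ^ (i + 1) = a⁻¹ * ((a ^ i)⁻¹ * b * a ^ i) * a := by
            rw [pow_succ]; simp only [_root_.mul_inv_rev, mul_assoc]
        _ = b ^ (s ^ (i + 1)) := by rw [ih, ← h, hab, ← pow_mul, pow_succ, mul_comm]
  have heig : ∀ i : Fin p, ρ b (ρ (a ^ (i : ℕ)) v) = l ^ (s ^ (i : ℕ)) • ρ (a ^ (i : ℕ)) v := by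
    intro i
    rw [← Module.End.mul_apply, ← map_mul,
      show b * a ^ (i : ℕ) = a ^ (i : ℕ) * b ^ (s ^ (i : ℕ)) by rw [← hconj]; group,
      map_mul, Module.End.mul_apply, hpow b l v hv.apply_eq_smul, map_smul]
  have hnz : ∀ g : G, ρ g v ≠ 0 := by
    intro g h
    apply hv.2
    rw [← Module.End.one_apply (R := k) v, ← map_one ρ, ← inv_mul_cancel g, map_mul, Module.End.mul_apply, h,
      map_zero]
  -- the conjugates are different
  have hinj : Function.Injective fun i : Fin p => l ^ (s ^ (i : ℕ)) := by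
    intro i j hij
    by_contra hij'
    apply hne
    have h : (a ^ (i : ℕ))⁻¹ * b * a ^ (i : ℕ) = (a ^ (j : ℕ))⁻¹ * b * a ^ (j : ℕ) := by
      rw [hconj, hconj]; exact hord _ _ hij
    set d : G := a ^ (i : ℕ) * (a ^ (j : ℕ))⁻¹ with hd
    have hdc : d ∈ centralizer ({b} : Set G) := by
      rw [mem_centralizer_singleton_iff]
      calc d * b = a ^ (i : ℕ) * ((a ^ (j : ℕ))⁻¹ * b * a ^ (j : ℕ)) * (a ^ (j : ℕ))⁻¹ := by rw [hd]; group
        _ = b * d := by rw [← h, hd]; group
    have hoa : orderOf a = p := orderOf_eq_prime ha ha1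
    have hd1 : d ≠ 1 := fun e => hij' (Fin.ext (pow_injOn_Iio_orderOf (x := a)
      (by simp [hoa]) (by simp [hoa]) (mul_inv_eq_one.1 e)))
    have hdmem : d ∈ zpowers a := mul_mem (npow_mem_zpowers a _) (inv_mem (npow_mem_zpowers a _))
    have : a ∈ zpowers d := by
      have hcard : Nat.card (zpowers a) = p := by rw [Nat.card_zpowers, hoa]
      have hge : zpowers d = zpowers a := by
        refine eq_of_le_of_card_ge (zpowers_le.2 hdmem) ?_
        rw [hcard, Nat.card_zpowers]
        rcases (Nat.dvd_prime hp.out).1 (hcard ▸ (zpowers a).orderOf_dvd_natCard hdmem) with h' | h'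
        · exact absurd (orderOf_eq_one_iff.1 h') hd1
        · exact h'.ge
      exact hge ▸ mem_zpowers a
    exact mem_centralizer_singleton_iff.1 (zpowers_le.2 hdc this)
  have hli := Module.End.eigenvectors_linearIndependent' (ρ b) (fun i : Fin p => l ^ (s ^ (i : ℕ))) hinj
    (fun i : Fin p => ρ (a ^ (i : ℕ)) v)
    (fun i => ⟨Module.End.mem_eigenspace_iff.2 (heig i), hnz _⟩)
  -- but their sum is fixed
  set w := ∑ i : Fin p, ρ (a ^ (i : ℕ)) v with hw
  have hfix : ρ a w = w := by
    rw [hw, map_sum, Fin.sum_univ_eq_sum_range (fun i => ρ a (ρ (a ^ i) v)),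
      Fin.sum_univ_eq_sum_range (fun i => ρ (a ^ i) v)]
    simp only [← Module.End.mul_apply, ← map_mul, ← pow_succ']
    have h := (Finset.sum_range_succ' (fun i => ρ (a ^ i) v) p).symm.trans
      (Finset.sum_range_succ (fun i => ρ (a ^ i) v) p)
    simp only [ha, pow_zero] at h
    exact add_right_cancel h
  have hw0 : w = 0 := by
    by_contra h
    exact ha1 (hρ a w h hfix)
  have := Fintype.linearIndependent_iff.1 hli (fun _ => 1) (by simpa [hw] using hw0) ⟨0, hp.out.pos⟩
  exact one_ne_zero this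

/-- The metacyclic presentation of a `Z`-group with a fixed-point-free representation. -/
theorem exists_presentation (hρ : Fpf ρ) [hG : IsZGroup G] :
    ∃ n m r : ℕ, 0 < n ∧ 0 < m ∧ Nat.Coprime (r - 1) m ∧ Nat.Coprime n m ∧ 1 ≤ r ∧
      r ^ (n / ∏ p ∈ n.primeFactors, p) % m = 1 % m ∧
      Nonempty (G ≃* PresentedGroup
        ({FreeGroup.of (0 : Fin 2) ^ n, FreeGroup.of (1 : Fin 2) ^ m,
          (FreeGroup.of (0 : Fin 2))⁻¹ * FreeGroup.of 1 * FreeGroup.of 0 * (FreeGroup.of (1 : Fin 2) ^ r)⁻¹} :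
          Set (FreeGroup (Fin 2)))) := by
  classical
  obtain ⟨H, hH⟩ := exists_right_complement'_of_coprime hG.coprime_commutator_index
  have hQc : IsCyclic (G ⧸ commutator G) := IsZGroup.isCyclic_abelianization (G := G)
  have hHc : IsCyclic H := isCyclic_of_surjective hH.symm.QuotientMulEquiv hH.symm.QuotientMulEquiv.surjective
  have hNc : IsCyclic (commutator G) := hG.isCyclic_commutator
  obtain ⟨x₀, hx₀⟩ := hHc.exists_generator
  obtain ⟨y₀, hy₀⟩ := hNc.exists_generator
  set x : G := (x₀ : G) with hx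
  set y : G := (y₀ : G) with hy
  set n := orderOf x with hn
  set m := orderOf y with hm
  have hnH : n = Nat.card H := by rw [hn, hx, Subgroup.orderOf_coe, orderOf_eq_card_of_forall_mem_zpowers hx₀]
  have hmN : m = Nat.card (commutator G) := by
    rw [hm, hy, Subgroup.orderOf_coe, orderOf_eq_card_of_forall_mem_zpowers hy₀]
  have hnm : Nat.card G = m * n := by rw [hnH, hmN, hH.card_mul_card]
  have hcop : Nat.Coprime n m := by
    have h := hG.coprime_commutator_index
    rw [hH.symm.index_eq_card, ← hnH, ← hmN] at h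
    exact h.symm
  have hgen : ∀ g : G, g ∈ closure ({x, y} : Set G) := by
    intro g
    obtain ⟨⟨⟨a, ha⟩, ⟨b, hb⟩⟩, rfl⟩ := hH.2 g
    obtain ⟨i, hi⟩ := mem_zpowers_iff.1 (hy₀ ⟨a, ha⟩)
    obtain ⟨j, hj⟩ := mem_zpowers_iff.1 (hx₀ ⟨b, hb⟩)
    refine mul_mem ?_ ?_
    · have : a = y ^ i := (congrArg Subtype.val hi).symm.trans (SubgroupClass.coe_zpow y₀ i)
      exact this ▸ zpow_mem (subset_closure (by simp)) i
    · have : b = x ^ j := (congrArg Subtype.val hj).symm.trans (SubgroupClass.coe_zpow x₀ j)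
      exact this ▸ zpow_mem (subset_closure (by simp)) j
  obtain ⟨r, hr1, hr⟩ : ∃ r : ℕ, 1 ≤ r ∧ x⁻¹ * y * x = y ^ r := by
    have hmem : x⁻¹ * y * x ∈ commutator G := by
      simpa using (commutator G).normal_of_characteristic.conj_mem y y₀.2 x⁻¹
    obtain ⟨i, hi⟩ := mem_zpowers_iff.1 (hy₀ ⟨_, hmem⟩)
    obtain ⟨j, hj⟩ := mem_powers_iff_mem_zpowers.2 (mem_zpowers_iff.2
      ⟨i, (SubgroupClass.coe_zpow y₀ i).symm.trans (congrArg Subtype.val hi)⟩ :
      x⁻¹ * y * x ∈ zpowers y)
    exact ⟨j + m, le_add_left (orderOf_pos y), by rw [pow_add, pow_orderOf_eq_one, mul_one]; exact hj.symm⟩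
  have hrpow : ∀ i : ℕ, (x ^ i)⁻¹ * y * x ^ i = y ^ (r ^ i) := by
    intro i
    induction i with
    | zero => simp
    | succ i ih =>
      have h := conj_pow' x y (r ^ i)
      calc (x ^ (i + 1))⁻¹ * y * x ^ (i + 1) = x⁻¹ * ((x ^ i)⁻¹ * y * x ^ i) * x := by
            rw [pow_succ]; simp only [_root_.mul_inv_rev, mul_assoc]
        _ = y ^ (r ^ (i + 1)) := by rw [ih, ← h, hr, ← pow_mul, pow_succ, mul_comm]
  -- the kernel of the action
  have hfix : r ^ (n / ∏ p ∈ n.primeFactors, p) % m = 1 % m := by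
    set n' := ∏ p ∈ n.primeFactors, p with hn'
    have hdvd : n' ∣ n := Nat.prod_primeFactors_dvd n
    obtain ⟨c, hc⟩ := hdvd
    have hn'0 : 0 < n' := Finset.prod_pos fun p hp => (Nat.prime_of_mem_primeFactors hp).pos
    have hdiv : n / n' = c := by rw [hc, Nat.mul_div_cancel_left _ hn'0]
    rw [hdiv]
    have hord : orderOf (x ^ c) = n' := by
      have hc0 : c ≠ 0 := by rintro rfl; rw [mul_zero] at hc; exact (orderOf_pos x).ne' hc
      rw [orderOf_pow_of_dvd hc0 ⟨n', by rw [← hn, hc, mul_comm]⟩, ← hn, hc, Nat.mul_div_cancel _ (Nat.pos_of_ne_zero hc0)]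
    have hmem : x ^ c ∈ centralizer ({y} : Set G) := by
      have hd : n' ∣ Nat.card (zpowers (x ^ c) ⊓ centralizer ({y} : Set G) : Subgroup G) := by
        refine Finset.prod_primes_dvd _ (fun p hp => (Nat.prime_of_mem_primeFactors hp).prime) fun p hp => ?_
        have := Fact.mk (Nat.prime_of_mem_primeFactors hp)
        obtain ⟨d, hd⟩ : p ∣ n' := Finset.dvd_prod_of_mem _ hp
        have hpord : orderOf ((x ^ c) ^ d) = p := by
          have hd0 : d ≠ 0 := by rintro rfl; rw [mul_zero] at hd; exact hn'0.ne' hd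
          rw [orderOf_pow_of_dvd hd0 ⟨p, by rw [hord, hd, mul_comm]⟩, hord, hd,
            Nat.mul_div_cancel _ (Nat.pos_of_ne_zero hd0)]
        refine hpord ▸ Subgroup.orderOf_dvd_natCard _ ⟨npow_mem_zpowers _ _, ?_⟩
        show (x ^ c) ^ d ∈ centralizer ({y} : Set G)
        rw [mem_centralizer_singleton_iff]
        refine commute_of_prime_normalizes hρ (p := p) (s := r ^ (c * d)) (hpord ▸ pow_orderOf_eq_one _)
          (fun e => (Nat.prime_of_mem_primeFactors hp).one_lt.ne (by rw [← hpord, e, orderOf_one])) ?_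
        rw [← pow_mul]; exact hrpow _
      have heq : zpowers (x ^ c) ⊓ centralizer ({y} : Set G) = zpowers (x ^ c) := by
        refine eq_of_le_of_card_ge inf_le_left ?_
        rw [Nat.card_zpowers, hord]
        exact Nat.le_of_dvd Nat.card_pos hd
      exact (heq.ge (mem_zpowers _)).2
    have h1 : y ^ (r ^ c) = y ^ 1 := by
      rw [← hrpow, mul_assoc, ← (mem_centralizer_singleton_iff.1 hmem), inv_mul_cancel_left, pow_one]
    exact pow_eq_pow_iff_modEq.1 h1
  have hcop1 : Nat.Coprime (r - 1) m := by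
    set K := zpowers (y ^ (r - 1)) with hK
    have hKn : K.Normal := ⟨fun z hz g => by
      obtain ⟨i, rfl⟩ := mem_zpowers_iff.1 hz
      obtain ⟨j, hj⟩ := mem_zpowers_iff.1 (hy₀ ⟨g * y * g⁻¹,
        (commutator G).normal_of_characteristic.conj_mem y y₀.2 g⟩)
      have hj' : y ^ j = g * y * g⁻¹ := (SubgroupClass.coe_zpow y₀ j).symm.trans (congrArg Subtype.val hj)
      refine mem_zpowers_iff.2 ⟨j * i, ?_⟩
      rw [← zpow_natCast y, ← zpow_mul, ← zpow_mul, mul_left_comm, zpow_mul, hj', conj_zpow]⟩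
    let q := QuotientGroup.mk' K
    have hqxy : Commute (q x) (q y) := by
      show q x * q y = q y * q x
      rw [← map_mul, ← map_mul, QuotientGroup.mk'_apply, QuotientGroup.mk'_apply, QuotientGroup.eq]
      have e : y * x = x * y * y ^ (r - 1) := by
        rw [mul_assoc, ← pow_succ', Nat.sub_add_cancel hr1, ← hr]; group
      rw [e, inv_mul_cancel_left]
      exact mem_zpowers _
    have hall : ∀ g h : G, Commute (q g) (q h) := by
      have hone : ∀ z ∈ ({x, y} : Set G), ∀ g : G, Commute (q z) (q g) := by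
        intro z hz g
        have hle : closure ({x, y} : Set G) ≤ (centralizer {q z}).comap q := by
          rw [closure_le]
          rintro w (rfl | rfl) <;> rcases hz with rfl | rfl <;>
            simp only [SetLike.mem_coe, mem_comap, mem_centralizer_singleton_iff] <;>
            first | rfl | exact hqxy.eq | exact hqxy.eq.symm
        exact (mem_centralizer_singleton_iff.1 (hle (hgen g))).symm
      intro g h
      have hle : closure ({x, y} : Set G) ≤ (centralizer {q h}).comap q := by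
        rw [closure_le]
        intro w hw
        exact mem_centralizer_singleton_iff.2 (hone w hw h).eq
      exact mem_centralizer_singleton_iff.1 (hle (hgen g))
    have hle : commutator G ≤ K := by
      rw [commutator_eq_closure, closure_le]
      rintro _ ⟨g, h, rfl⟩
      rw [SetLike.mem_coe, ← QuotientGroup.eq_one_iff, ← QuotientGroup.mk'_apply, map_commutatorElement,
        commutatorElement_eq_one_iff_mul_comm]
      exact (hall g h).eq
    have hd : m ∣ orderOf (y ^ (r - 1)) := by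
      rw [hm, ← Nat.card_zpowers, ← Nat.card_zpowers, ← hK]
      exact card_dvd_of_le (zpowers_le.2 (hle y₀.2))
    rw [orderOf_pow, ← hm] at hd
    have hg : m.gcd (r - 1) ∣ m := Nat.gcd_dvd_left _ _
    have heq : m / m.gcd (r - 1) = m := Nat.dvd_antisymm (Nat.div_dvd_of_dvd hg) hd
    rw [Nat.Coprime, Nat.gcd_comm]
    rcases Nat.div_eq_self.1 heq with h | h
    · exact absurd h (orderOf_pos y).ne'
    · exact h
  refine ⟨n, m, r, orderOf_pos x, orderOf_pos y, hcop1, hcop, hr1, hfix, ?_⟩
  set rels : Set (FreeGroup (Fin 2)) := {FreeGroup.of (0 : Fin 2) ^ n, FreeGroup.of (1 : Fin 2) ^ m,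
    (FreeGroup.of (0 : Fin 2))⁻¹ * FreeGroup.of 1 * FreeGroup.of 0 * (FreeGroup.of (1 : Fin 2) ^ r)⁻¹} with hrels
  have hfrels : ∀ w ∈ rels, FreeGroup.lift ![x, y] w = 1 := by
    rintro w (rfl | rfl | rfl)
    · simp [hn, pow_orderOf_eq_one]
    · simp [hm, pow_orderOf_eq_one]
    · simp [hr]
  let f : PresentedGroup rels →* G := PresentedGroup.toGroup hfrels
  set a : PresentedGroup rels := PresentedGroup.of (0 : Fin 2) with ha
  set b : PresentedGroup rels := PresentedGroup.of (1 : Fin 2) with hb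
  have hfa : f a = x := PresentedGroup.toGroup.of hfrels
  have hfb : f b = y := PresentedGroup.toGroup.of hfrels
  have han : a ^ n = 1 := by
    rw [ha]; exact PresentedGroup.one_of_mem (Or.inl rfl : FreeGroup.of (0 : Fin 2) ^ n ∈ rels)
  have hbm : b ^ m = 1 := by
    rw [hb]; exact PresentedGroup.one_of_mem (Or.inr (Or.inl rfl) : FreeGroup.of (1 : Fin 2) ^ m ∈ rels)
  have hba : a⁻¹ * b * a = b ^ r := by
    rw [← mul_inv_eq_one, ha, hb]
    exact PresentedGroup.one_of_mem (Or.inr (Or.inr rfl) :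
      (FreeGroup.of (0 : Fin 2))⁻¹ * FreeGroup.of 1 * FreeGroup.of 0 * (FreeGroup.of (1 : Fin 2) ^ r)⁻¹ ∈ rels)
  have hcover : ∀ g : PresentedGroup rels, ∃ i j : ℕ, i < n ∧ j < m ∧ g = a ^ i * b ^ j := by
    have norm : ∀ i j : ℕ, ∃ i' j' : ℕ, i' < n ∧ j' < m ∧ a ^ i * b ^ j = a ^ i' * b ^ j' := fun i j =>
      ⟨i % n, j % m, Nat.mod_lt _ (orderOf_pos x), Nat.mod_lt _ (orderOf_pos y),
        by rw [← pow_eq_pow_mod i han, ← pow_eq_pow_mod j hbm]⟩
    have key : ∀ g : PresentedGroup rels, ∀ i j : ℕ, ∃ i' j' : ℕ, a ^ i * b ^ j * g = a ^ i' * b ^ j' := by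
      intro g
      have hg : g ∈ closure (Set.range (PresentedGroup.of : Fin 2 → PresentedGroup rels)) := by
        rw [PresentedGroup.closure_range_of]; exact mem_top g
      have hgen : ∀ z ∈ Set.range (PresentedGroup.of : Fin 2 → PresentedGroup rels), ∀ i j : ℕ,
          ∃ i' j' : ℕ, a ^ i * b ^ j * z = a ^ i' * b ^ j' := by
        rintro _ ⟨c, rfl⟩ i j
        fin_cases c
        · refine ⟨i + 1, r * j, ?_⟩
          show a ^ i * b ^ j * a = _
          rw [pow_succ, pow_mul, ← hba, conj_pow']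
          simp only [mul_assoc, mul_inv_cancel_left]
        · exact ⟨i, j + 1, by show a ^ i * b ^ j * b = _; rw [pow_succ b, mul_assoc]⟩
      have hinv : ∀ z ∈ Set.range (PresentedGroup.of : Fin 2 → PresentedGroup rels), ∀ i j : ℕ,
          ∃ i' j' : ℕ, a ^ i * b ^ j * z⁻¹ = a ^ i' * b ^ j' := by
        rintro z hz i j
        obtain ⟨e, he⟩ : ∃ e : ℕ, z⁻¹ = z ^ e := by
          obtain ⟨c, rfl⟩ := hz
          fin_cases c
          · exact ⟨n - 1, inv_eq_of_mul_eq_one_right (by
              show a * a ^ (n - 1) = 1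
              rw [← pow_succ', Nat.sub_add_cancel (orderOf_pos x), han])⟩
          · exact ⟨m - 1, inv_eq_of_mul_eq_one_right (by
              show b * b ^ (m - 1) = 1
              rw [← pow_succ', Nat.sub_add_cancel (orderOf_pos y), hbm])⟩
        rw [he]
        clear he
        induction e generalizing i j with
        | zero => exact ⟨i, j, by rw [pow_zero, mul_one]⟩
        | succ e ih =>
          obtain ⟨i', j', h⟩ := hgen z hz i j
          obtain ⟨i'', j'', h'⟩ := ih i' j'
          exact ⟨i'', j'', by rw [pow_succ', ← mul_assoc, h, h']⟩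
      induction hg using closure_induction_right with
      | one => exact fun i j => ⟨i, j, mul_one _⟩
      | mul_right g hg z hz ih =>
        intro i j
        obtain ⟨i', j', h⟩ := ih i j
        obtain ⟨i'', j'', h'⟩ := hgen z hz i' j'
        exact ⟨i'', j'', by rw [← mul_assoc, h, h']⟩
      | mul_inv_cancel g hg z hz ih =>
        intro i j
        obtain ⟨i', j', h⟩ := ih i j
        obtain ⟨i'', j'', h'⟩ := hinv z hz i' j'
        exact ⟨i'', j'', by rw [← mul_assoc, h, h']⟩
    intro g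
    obtain ⟨i, j, h⟩ := key g 0 0
    obtain ⟨i', j', hi, hj, h'⟩ := norm i j
    exact ⟨i', j', hi, hj, by rw [← h', ← h, pow_zero, pow_zero, one_mul, one_mul]⟩
  have hsurj : Function.Surjective f := fun g => by
    have hle : closure ({x, y} : Set G) ≤ f.range := by
      rw [closure_le]; rintro w (rfl | rfl)
      exacts [⟨a, hfa⟩, ⟨b, hfb⟩]
    exact hle (hgen g)
  let e : Fin n × Fin m → PresentedGroup rels := fun p => a ^ (p.1 : ℕ) * b ^ (p.2 : ℕ)
  have he : Function.Surjective e := fun g => by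
    obtain ⟨i, j, hi, hj, rfl⟩ := hcover g
    exact ⟨(⟨i, hi⟩, ⟨j, hj⟩), rfl⟩
  have : Finite (PresentedGroup rels) := Finite.of_surjective e he
  have hle : Nat.card (PresentedGroup rels) ≤ Nat.card G := by
    refine (Nat.card_le_card_of_surjective e he).trans ?_
    rw [Nat.card_prod, Nat.card_fin, Nat.card_fin, hnm, mul_comm]
  exact ⟨(MulEquiv.ofBijective f (hsurj.bijective_of_nat_card_le hle)).symm⟩

omit [Finite G] [IsAlgClosed k] in
/-- A fixed-point-free representation has an irreducible constituent. -/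
theorem exists_irreducible (hρ : Fpf ρ) :
    ∃ (n : ℕ) (σ : G →* GL (Fin n) k), 0 < n ∧ Function.Injective σ ∧
      (∀ W : Submodule k (Fin n → k),
        (∀ g : G, ∀ w ∈ W, ((σ g : GL (Fin n) k) : Matrix (Fin n) (Fin n) k).mulVec w ∈ W) → W = ⊥ ∨ W = ⊤) ∧
      ∀ g : G, g ≠ 1 → ∀ v : Fin n → k,
        ((σ g : GL (Fin n) k) : Matrix (Fin n) (Fin n) k).mulVec v = v → v = 0 := by
  classical
  obtain ⟨U, ⟨hU, hU0⟩, hmin⟩ := wellFounded_lt.has_min
    {W : Submodule k V | (∀ g : G, ∀ w ∈ W, ρ g w ∈ W) ∧ W ≠ ⊥} ⟨⊤, fun _ _ _ => trivial, top_ne_bot⟩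
  have : Nontrivial U := Submodule.nontrivial_iff_ne_bot.2 hU0
  let ρU : G →* Module.End k U :=
    { toFun := fun g => (ρ g).restrict (hU g)
      map_one' := LinearMap.ext fun u => Subtype.ext (by simp)
      map_mul' := fun g h => LinearMap.ext fun u => Subtype.ext (by simp) }
  let b := Module.finBasis k U
  let M : G →* Matrix (Fin (Module.finrank k U)) (Fin (Module.finrank k U)) k :=
    (LinearMap.toMatrixAlgEquiv b).toMonoidHom.comp ρU
  have hM : ∀ g v, (M g).mulVec v = b.equivFun (ρU g (b.equivFun.symm v)) := by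
    intro g v
    have h := LinearMap.toMatrix_mulVec_repr b b (ρU g) (b.equivFun.symm v)
    simp only [← Module.Basis.equivFun_apply, LinearEquiv.apply_symm_apply] at h
    exact h
  have hfpf : ∀ g : G, g ≠ 1 → ∀ v, (M g).mulVec v = v → v = 0 := by
    intro g hg v hv
    rw [hM] at hv
    have h2 : ρU g (b.equivFun.symm v) = b.equivFun.symm v :=
      b.equivFun.injective (hv.trans (b.equivFun.apply_symm_apply v).symm)
    by_contra hv0
    exact hg (hρ g _ (fun h => hv0 (b.equivFun.symm.injective ((Subtype.ext h).trans (map_zero _).symm)))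
      (congrArg Subtype.val h2))
  have hd : 0 < Module.finrank k U := Module.finrank_pos
  refine ⟨_, M.toHomUnits, hd, (injective_iff_map_eq_one _).2 fun g hg => ?_, fun W hW => ?_, hfpf⟩
  · by_contra hg1
    refine one_ne_zero (α := k) (congrFun (hfpf g hg1 1 ?_) ⟨0, hd⟩)
    rw [show M g = 1 from congrArg Units.val hg, Matrix.one_mulVec]
  · let W' : Submodule k V := (W.map b.equivFun.symm.toLinearMap).map U.subtype
    have hW' : ∀ g : G, ∀ w ∈ W', ρ g w ∈ W' := by
      rintro g _ ⟨_, ⟨w, hw, rfl⟩, rfl⟩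
      refine ⟨ρU g (b.equivFun.symm w), ⟨_, hW g w hw, ?_⟩, rfl⟩
      change b.equivFun.symm ((M g).mulVec w) = _
      rw [hM, LinearEquiv.symm_apply_apply]
    by_cases hbot : W' = ⊥
    · left
      rw [eq_bot_iff]
      intro w hw
      have : (b.equivFun.symm w : V) ∈ W' := ⟨_, ⟨w, hw, rfl⟩, rfl⟩
      rw [hbot, Submodule.mem_bot, ZeroMemClass.coe_eq_zero] at this
      exact b.equivFun.symm.injective (this.trans (map_zero _).symm)
    · right
      have hle : W' ≤ U := by
        rintro _ ⟨u, -, rfl⟩; exact u.2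
      have heq : W' = U := by
        by_contra hne
        exact hmin W' ⟨hW', hbot⟩ (lt_of_le_of_ne hle hne)
      rw [eq_top_iff]
      intro v _
      obtain ⟨_, ⟨w, hw, rfl⟩, he⟩ := heq.ge (b.equivFun.symm v).2
      have : b.equivFun.symm w = b.equivFun.symm v := Subtype.ext he
      rwa [← b.equivFun.symm.injective this]

/-- Solvable complements: the kernel is inside a symmetric group of degree four. -/
theorem exists_kernel_perm_four (hρ : Fpf ρ) [Group.IsSolvable G] :
    ∃ G₀ : Subgroup G, G₀.Normal ∧ IsZGroup G₀ ∧ ∃ f : G →* Equiv.Perm (Fin 4), f.ker = G₀ := by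
  obtain ⟨N, ⟨hN, hZ, hsix⟩, -⟩ := existsUnique_sixType hρ
  refine ⟨N, hN, hZ, ?_⟩
  have ofHom : ∀ {T : Type} [Group T] (f : G →* T) (j : T →* Equiv.Perm (Fin 4)),
      Function.Injective j → f.ker = N → ∃ f : G →* Equiv.Perm (Fin 4), f.ker = N := by
    intro T _ f j hj hf
    exact ⟨j.comp f, by ext g; rw [← hf]; exact map_eq_one_iff j hj⟩
  rcases hsix with h | ⟨f, -, hf⟩ | ⟨f, -, hf⟩ | ⟨f, -, hf⟩ | ⟨f, hs, -⟩ | ⟨f, hs, -⟩
  · exact ⟨1, by rw [h, MonoidHom.ker_one]⟩
  · let e : Fin 4 ≃ DihedralGroup 2 := (Fintype.equivFinOfCardEq (DihedralGroup.card (n := 2))).symm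
    exact ofHom f (e.symm.permCongrHom.toMonoidHom.comp (MulAction.toPermHom _ _))
      (e.symm.permCongrHom.injective.comp MulAction.toPerm_injective) hf
  · exact ofHom f _ (Subgroup.subtype_injective _) hf
  · exact ofHom f (MonoidHom.id _) (fun _ _ h => h) hf
  · exfalso
    have : Group.IsSolvable (alternatingGroup (Fin 5)) := Group.isSolvable_of_surjective hs
    have hsimple : IsSimpleGroup (alternatingGroup (Fin 5)) := alternatingGroup.isSimpleGroup (by simp)
    exact CfsgLib.Small.not_isMulCommutative_of_card (by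
      rw [nat_card_alternatingGroup, Nat.card_fin]; norm_num)
      ⟨⟨hsimple.comm_iff_isSolvable.2 this⟩⟩
  · exact absurd (Group.isSolvable_of_surjective hs) Equiv.Perm.not_isSolvable_fin_5

end CfsgLib.Perm.Zass
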