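import Cfsg.Agent.Lib.Perm.Zass.SLTwo

/-!
Fixed-point-free representations: planes invariant under two elements of order three, and the
possible orders of their product.
-/

namespace CfsgLib.Perm.Zass

open Matrix

variable {G : Type*} [Group G] {k : Type*} [Field k] {V : Type*} [AddCommGroup V] [Module k V]

/-- A fixed-point-free representation. -/
def Fpf (ρ : G →* Module.End k V) : Prop := ∀ g : G, ∀ v : V, v ≠ 0 → ρ g v = v → g = 1

variable {ρ : G →* Module.End k V}

theorem Fpf.natCard_ne_zero [Finite G] (hρ : Fpf ρ) [Nontrivial V] : (Nat.card G : k) ≠ 0 := by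
  intro h0
  obtain ⟨p, hp⟩ := CharP.exists k
  have hdvd : p ∣ Nat.card G := (CharP.cast_eq_zero_iff k p _).1 h0
  have hp0 : p ≠ 0 := by rintro rfl; exact Nat.card_pos.ne' (zero_dvd_iff.1 hdvd)
  have hprime : p.Prime := (CharP.char_is_prime_or_zero k p).resolve_right hp0
  have : Fact p.Prime := ⟨hprime⟩
  obtain ⟨g, hg⟩ := exists_prime_orderOf_dvd_card' p hdvd
  have hg1 : g ≠ 1 := fun h => hprime.one_lt.ne (by rw [← hg, h, orderOf_one])
  have hnil : (ρ g - 1) ^ p = 0 := by
    have : CharP (Module.End k V) p := charP_of_injective_algebraMap' k p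
    rw [sub_pow_char_of_commute p (Commute.one_right (ρ g)), one_pow, ← map_pow, ← hg, pow_orderOf_eq_one, map_one,
      sub_self]
  obtain ⟨v, hv⟩ := exists_ne (0 : V)
  have hinj : Function.Injective ⇑(ρ g - 1 : Module.End k V) := by
    rw [← LinearMap.ker_eq_bot, LinearMap.ker_eq_bot']
    intro w hw
    by_contra hw0
    exact hg1 (hρ g w hw0 (sub_eq_zero.1 hw))
  apply hv
  apply (show Function.Injective ⇑((ρ g - 1 : Module.End k V) ^ p) by
    rw [Module.End.coe_pow]; exact hinj.iterate p)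
  rw [hnil, LinearMap.zero_apply, LinearMap.zero_apply]

theorem Fpf.natCast_ne_zero [Finite G] (hρ : Fpf ρ) [Nontrivial V] {n : ℕ} (hn : n ∣ Nat.card G) :
    (n : k) ≠ 0 := fun h => hρ.natCard_ne_zero (by
  obtain ⟨c, hc⟩ := hn
  rw [hc, Nat.cast_mul, h, zero_mul])

theorem Fpf.map_sq_eq_one (hρ : Fpf ρ) {g : G} (hg : g * g = 1) (h1 : g ≠ 1) : ρ g = -1 := by
  refine LinearMap.ext fun v => ?_
  have h : ρ g (ρ g v + v) = ρ g v + v := by
    rw [map_add, ← Module.End.mul_apply, ← map_mul, hg, map_one, Module.End.one_apply, add_comm]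
  have h0 : ρ g v + v = 0 := by
    by_contra hne
    exact h1 (hρ g _ hne h)
  simpa using eq_neg_of_add_eq_zero_left h0

theorem Fpf.map_cube (hρ : Fpf ρ) {g : G} (hg : g ^ 3 = 1) (h1 : g ≠ 1) :
    ρ g * ρ g + ρ g + 1 = 0 := by
  refine LinearMap.ext fun v => ?_
  have h3 : ρ g * (ρ g * ρ g) = 1 := by
    rw [← map_mul, ← map_mul, ← map_one ρ, ← hg, pow_three]
  have h : ρ g ((ρ g * ρ g + ρ g + 1) v) = (ρ g * ρ g + ρ g + 1) v := by
    have h' : ρ g * (ρ g * ρ g + ρ g + 1) = ρ g * ρ g + ρ g + 1 := by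
      rw [mul_add, mul_add, h3, mul_one]; abel
    rw [← Module.End.mul_apply, h']
  by_contra hne
  exact h1 (hρ g _ hne h)

theorem Fpf.injective (hρ : Fpf ρ) [Nontrivial V] : Function.Injective ρ := by
  intro a b hab
  obtain ⟨v, hv⟩ := exists_ne (0 : V)
  have h : ρ (b⁻¹ * a) v = v := by
    rw [map_mul, hab, ← map_mul, inv_mul_cancel, map_one, Module.End.one_apply]
  exact (inv_mul_eq_one.1 (hρ _ v hv h)).symm

/-- The elements leaving a plane invariant, acting on it with determinant one. -/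
def planeGroup (ρ : G →* Module.End k V) (ι : (Fin 2 → k) →ₗ[k] V) : Subgroup G where
  carrier := {g | ∃ M : Matrix.SpecialLinearGroup (Fin 2) k, ∀ z, ρ g (ι z) = ι (M.1 *ᵥ z)}
  one_mem' := ⟨1, fun z => by simp⟩
  mul_mem' := by
    rintro g h ⟨M, hM⟩ ⟨N, hN⟩
    exact ⟨M * N, fun z => by
      rw [map_mul, Module.End.mul_apply, hN, hM, Matrix.mulVec_mulVec, ← Matrix.SpecialLinearGroup.coe_mul]⟩
  inv_mem' := by
    rintro g ⟨M, hM⟩
    exact ⟨M⁻¹, fun z => by
      have h := congrArg (ρ g⁻¹) (hM ((M⁻¹).1 *ᵥ z))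
      rw [← Module.End.mul_apply, ← map_mul, inv_mul_cancel, map_one, Module.End.one_apply,
        Matrix.mulVec_mulVec, ← Matrix.SpecialLinearGroup.coe_mul, mul_inv_cancel,
        Matrix.SpecialLinearGroup.coe_one, Matrix.one_mulVec] at h
      exact h.symm⟩

theorem plane_unique {ι : (Fin 2 → k) →ₗ[k] V} (hι : Function.Injective ι)
    {M N : Matrix.SpecialLinearGroup (Fin 2) k} (h : ∀ z, ι (M.1 *ᵥ z) = ι (N.1 *ᵥ z)) : M = N :=
  Subtype.ext (Matrix.toLin'.injective (LinearMap.ext fun z => by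
    simpa using hι (h z)))

/-- The action on the plane. -/
noncomputable def planeHom (ρ : G →* Module.End k V) {ι : (Fin 2 → k) →ₗ[k] V}
    (hι : Function.Injective ι) : planeGroup ρ ι →* Matrix.SpecialLinearGroup (Fin 2) k where
  toFun g := g.2.choose
  map_one' := plane_unique hι fun z => by
    rw [← ((1 : planeGroup ρ ι)).2.choose_spec z]; simp
  map_mul' g h := plane_unique hι fun z => by
    rw [← (g * h).2.choose_spec z, Subgroup.coe_mul, map_mul, Module.End.mul_apply,
      h.2.choose_spec, g.2.choose_spec, Matrix.mulVec_mulVec, ← Matrix.SpecialLinearGroup.coe_mul]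

theorem planeHom_eq {ι : (Fin 2 → k) →ₗ[k] V} (hι : Function.Injective ι) {g : planeGroup ρ ι}
    {M : Matrix.SpecialLinearGroup (Fin 2) k} (h : ∀ z, ρ (g : G) (ι z) = ι (M.1 *ᵥ z)) :
    planeHom ρ hι g = M :=
  plane_unique hι fun z => (g.2.choose_spec z).symm.trans (h z)

theorem planeHom_injective (hρ : Fpf ρ) {ι : (Fin 2 → k) →ₗ[k] V} (hι : Function.Injective ι) :
    Function.Injective (planeHom ρ hι) := by
  refine (injective_iff_map_eq_one _).2 fun g hg => ?_
  have h := g.2.choose_spec ![1, 0]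
  rw [show g.2.choose = 1 from hg, Matrix.SpecialLinearGroup.coe_one, Matrix.one_mulVec] at h
  refine Subtype.ext (hρ _ _ (fun h0 => ?_) h)
  have := congrFun (hι (h0.trans (map_zero ι).symm)) 0
  simp at this

theorem mem_planeGroup_neg {ι : (Fin 2 → k) →ₗ[k] V} {g : G} (hg : ρ g = -1) :
    g ∈ planeGroup ρ ι := ⟨-1, fun z => by
  rw [hg, LinearMap.neg_apply, Module.End.one_apply, Matrix.SpecialLinearGroup.coe_neg,
    Matrix.SpecialLinearGroup.coe_one, Matrix.neg_mulVec, Matrix.one_mulVec, map_neg]⟩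

/-- An element of order three leaving a plane invariant lies in its plane group, unless it is scalar
on it. -/
theorem mem_planeGroup_of_cube (hρ : Fpf ρ) {ι : (Fin 2 → k) →ₗ[k] V} (hι : Function.Injective ι)
    {g : G} (hg : g ^ 3 = 1) (h1 : g ≠ 1) {M : Matrix (Fin 2) (Fin 2) k}
    (hM : ∀ z, ρ g (ι z) = ι (M *ᵥ z)) (hns : ∀ c : k, M ≠ c • 1) :
    ∃ hg' : g ∈ planeGroup ρ ι, (planeHom ρ hι ⟨g, hg'⟩).1 = M ∧ M 0 0 + M 1 1 = -1 := by
  have hMM : M * M + M + 1 = 0 := by
    refine Matrix.toLin'.injective (LinearMap.ext fun z => hι ?_)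
    have h := congrArg (fun f : Module.End k V => f (ι z)) (hρ.map_cube hg h1)
    simp only [LinearMap.add_apply, Module.End.mul_apply, Module.End.one_apply, LinearMap.zero_apply,
      hM, ← map_add] at h
    simpa [Matrix.add_mulVec, ← Matrix.mulVec_mulVec] using h
  have hCH : M * M - (M 0 0 + M 1 1) • M + M.det • (1 : Matrix (Fin 2) (Fin 2) k) = 0 := by
    rw [Matrix.det_fin_two]
    ext i j
    fin_cases i <;> fin_cases j <;> simp [Matrix.mul_apply, Fin.sum_univ_two] <;> ring
  have hlin : (M 0 0 + M 1 1 + 1) • M = (M.det - 1) • (1 : Matrix (Fin 2) (Fin 2) k) := by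
    have h := hMM.trans hCH.symm
    rw [add_smul, one_smul, sub_smul, one_smul]
    linear_combination (norm := abel) h
  have htr : M 0 0 + M 1 1 + 1 = 0 := by
    by_contra hne
    exact hns ((M 0 0 + M 1 1 + 1)⁻¹ * (M.det - 1))
      (by rw [← smul_smul, ← hlin, smul_smul, inv_mul_cancel₀ hne, one_smul])
  rw [htr, zero_smul] at hlin
  have hdet : M.det = 1 := by
    have h := congrFun (congrFun hlin 0) 0
    simp at h
    exact sub_eq_zero.1 h.symm
  refine ⟨⟨⟨M, hdet⟩, hM⟩, ?_, by linear_combination htr⟩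
  rw [planeHom_eq hι (M := ⟨M, hdet⟩) hM]

/-- Two elements of order three have a common invariant plane. -/
theorem exists_plane [IsAlgClosed k] [FiniteDimensional k V] [Nontrivial V] (hρ : Fpf ρ) {x y : G}
    (hx : x ^ 3 = 1) (hy : y ^ 3 = 1) (hxy : x * y ≠ y * x) :
    ∃ (ι : (Fin 2 → k) →ₗ[k] V) (hι : Function.Injective ι) (hxm : x ∈ planeGroup ρ ι)
      (hym : y ∈ planeGroup ρ ι), ∀ g : planeGroup ρ ι, (g = ⟨x, hxm⟩ ∨ g = ⟨y, hym⟩) →
        (planeHom ρ hι g).1 0 0 + (planeHom ρ hι g).1 1 1 = -1 := by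
  have hx1 : x ≠ 1 := by rintro rfl; simp at hxy
  have hy1 : y ≠ 1 := by rintro rfl; simp at hxy
  set X := ρ x
  set Y := ρ y
  have hX : X * X + X + 1 = 0 := hρ.map_cube hx hx1
  have hY : Y * Y + Y + 1 = 0 := hρ.map_cube hy hy1
  set S := X * Y + Y * X + X + Y with hS
  have hXS : S * X = X * S := by
    have e1 : X * X = -X - 1 := by rw [← add_zero (-X - 1), ← hX]; abel
    have l : X * Y * X + Y * (X * X) + X * X + Y * X = X * (X * Y) + X * Y * X + X * X + X * Y := by
      rw [← mul_assoc X X Y, e1]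
      noncomm_ring
    rw [hS]
    simpa [add_mul, mul_add, mul_assoc] using l
  obtain ⟨s, hs⟩ := Module.End.exists_eigenvalue S
  obtain ⟨w₀, hw₀⟩ := hs.exists_hasEigenvector
  obtain ⟨ε, hε⟩ : ∃ ε : k, ε * ε + ε + 1 = 0 := by
    obtain ⟨a, ha⟩ := IsAlgClosed.exists_root
      (Polynomial.X ^ 2 + Polynomial.X + 1 : Polynomial k) (by
        have : (Polynomial.X ^ 2 + Polynomial.X + 1 : Polynomial k).degree = 2 := by
          compute_degree!
        rw [this]; decide)
    exact ⟨a, by simpa [pow_two] using ha⟩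
  obtain ⟨w, e, he, hw, hXw, hSw⟩ : ∃ (w : V) (e : k), e * e + e + 1 = 0 ∧ w ≠ 0 ∧ X w = e • w ∧
      S w = s • w := by
    have hw0 : S w₀ = s • w₀ := hw₀.apply_eq_smul
    by_cases h : X w₀ = ε • w₀
    · exact ⟨w₀, ε, hε, hw₀.2, h, hw0⟩
    · refine ⟨X w₀ - ε • w₀, -1 - ε, by linear_combination hε, sub_ne_zero.2 h, ?_, ?_⟩
      · have h2 : X (X w₀) = -(X w₀) - w₀ := by
          have := congrArg (fun f : Module.End k V => f w₀) hX
          simp only [LinearMap.add_apply, Module.End.mul_apply, Module.End.one_apply,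
            LinearMap.zero_apply] at this
          rw [← add_zero (-(X w₀) - w₀), ← this]; abel
        rw [map_sub, map_smul, h2]
        linear_combination (norm := module) hε • (-w₀)
      · have h2 : S (X w₀) = X (S w₀) := by
          rw [← Module.End.mul_apply, hXS, Module.End.mul_apply]
        rw [map_sub, map_smul, h2, hw0, map_smul, smul_sub, smul_comm ε s]
  have hY2 : Y (Y w) = -(Y w) - w := by
    have := congrArg (fun f : Module.End k V => f w) hY
    simp only [LinearMap.add_apply, Module.End.mul_apply, Module.End.one_apply,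
      LinearMap.zero_apply] at this
    rw [← add_zero (-(Y w) - w), ← this]; abel
  have hXY : X (Y w) = (-1 - e) • Y w + (s - e) • w := by
    have := hSw
    simp only [hS, LinearMap.add_apply, Module.End.mul_apply, hXw, map_smul] at this
    linear_combination (norm := module) this
  have hli : ∀ c : k, Y w ≠ c • w := by
    intro c hc
    apply hxy
    have hx' : X (Y w) = Y (X w) := by rw [hc, hXw, map_smul, map_smul, hXw, hc, smul_comm]
    have hfix : ρ (x * y * (y * x)⁻¹) (ρ (y * x) w) = ρ (y * x) w := by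
      rw [← Module.End.mul_apply, ← map_mul, inv_mul_cancel_right, map_mul, map_mul,
        Module.End.mul_apply, Module.End.mul_apply]
      exact hx'
    refine mul_inv_eq_one.1 (hρ _ _ (fun h0 => hw ?_) hfix)
    have h1 := congrArg (ρ (y * x)⁻¹) h0
    rwa [← Module.End.mul_apply, ← map_mul, inv_mul_cancel, map_one, Module.End.one_apply,
      map_zero] at h1
  let ι : (Fin 2 → k) →ₗ[k] V :=
    (LinearMap.proj 0).smulRight w + (LinearMap.proj 1).smulRight (Y w)
  have hι : Function.Injective ι := by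
    rw [← LinearMap.ker_eq_bot, LinearMap.ker_eq_bot']
    intro z hz
    simp only [ι, LinearMap.add_apply, LinearMap.smulRight_apply, LinearMap.proj_apply] at hz
    have h1 : z 1 = 0 := by
      by_contra h
      refine hli (-(z 1)⁻¹ * z 0) ?_
      have := congrArg (fun t => (z 1)⁻¹ • t) hz
      simp only [smul_add, smul_smul, inv_mul_cancel₀ h, one_smul, smul_zero] at this
      linear_combination (norm := module) this
    rw [h1, zero_smul, add_zero, smul_eq_zero] at hz
    ext i
    fin_cases i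
    exacts [hz.resolve_right hw, h1]
  have hXM : ∀ z, X (ι z) = ι (!![e, s - e; 0, -1 - e] *ᵥ z) := by
    intro z
    simp [ι, hXw, hXY, Matrix.mulVec, dotProduct, Fin.sum_univ_two]
    module
  have hYM : ∀ z, Y (ι z) = ι (!![0, -1; 1, -1] *ᵥ z) := by
    intro z
    simp [ι, hY2, Matrix.mulVec, dotProduct, Fin.sum_univ_two]
    module
  obtain ⟨hxm, hxφ, hxt⟩ := mem_planeGroup_of_cube hρ hι hx hx1 hXM fun c hc => by
    have h00 := congrFun (congrFun hc 0) 0
    have h11 := congrFun (congrFun hc 1) 1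
    have h01 := congrFun (congrFun hc 0) 1
    simp at h00 h11 h01
    apply hxy
    have hfix : ∀ z, X (ι z) = e • ι z := by
      intro z
      rw [hXM, hc, ← h00, Matrix.smul_mulVec, Matrix.one_mulVec, map_smul]
    have hYι : Y (ι ![1, 0]) = ι ![0, 1] := by
      simp [ι]
    have hz : X (Y (ι ![1, 0])) = Y (X (ι ![1, 0])) := by
      rw [hfix ![1, 0], map_smul, hYι, hfix]
    have hfix' : ρ (x * y * (y * x)⁻¹) (ρ (y * x) (ι ![1, 0])) = ρ (y * x) (ι ![1, 0]) := by
      rw [← Module.End.mul_apply, ← map_mul, inv_mul_cancel_right, map_mul, map_mul,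
        Module.End.mul_apply, Module.End.mul_apply]
      exact hz
    refine mul_inv_eq_one.1 (hρ _ _ (fun h0 => ?_) hfix')
    have h1 := congrArg (ρ (y * x)⁻¹) h0
    rw [← Module.End.mul_apply, ← map_mul, inv_mul_cancel, map_one, Module.End.one_apply,
      map_zero] at h1
    have := congrFun (hι (h1.trans (map_zero ι).symm)) 0
    simp at this
  obtain ⟨hym, hyφ, hyt⟩ := mem_planeGroup_of_cube hρ hι hy hy1 hYM fun c hc => by
    have h10 := congrFun (congrFun hc 1) 0
    simp at h10
  refine ⟨ι, hι, hxm, hym, ?_⟩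
  rintro g (rfl | rfl)
  · rw [hxφ]; exact hxt
  · rw [hyφ]; exact hyt

end CfsgLib.Perm.Zass
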