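import Cfsg.Agent.Lib.Perm.Zass.Basic

/-!
The product of two non-commuting elements of order three in a fixed-point-free group.
-/

namespace CfsgLib.Perm.Zass

open Matrix

variable {k : Type*} [Field k] [IsAlgClosed k]

local notation "SL₂" => Matrix.SpecialLinearGroup (Fin 2) k

/-- The trace. -/
abbrev tr2 (M : Matrix.SpecialLinearGroup (Fin 2) k) : k := M.1 0 0 + M.1 1 1

theorem sq_eq (M : SL₂) : M.1 * M.1 = tr2 M • M.1 - 1 := sl_sq_eq M

theorem pow_eq_of_lin {M : SL₂} {t : k} (ht : tr2 M = t) :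
    M.1 ^ 2 = t • M.1 - (1 : k) • 1 ∧ M.1 ^ 3 = (t * t - 1) • M.1 - t • 1 ∧
      M.1 ^ 4 = (t * t * t - 2 * t) • M.1 - (t * t - 1) • 1 ∧
      M.1 ^ 5 = (t * t * t * t - 3 * (t * t) + 1) • M.1 - (t * t * t - 2 * t) • 1 := by
  subst ht
  have h2 : M.1 * M.1 = tr2 M • M.1 - 1 := sq_eq M
  have e2 : M.1 ^ 2 = tr2 M • M.1 - (1 : k) • 1 := by rw [pow_two, one_smul, h2]
  have e3 : M.1 ^ 3 = (tr2 M * tr2 M - 1) • M.1 - tr2 M • 1 := by
    rw [pow_succ, e2, sub_mul, smul_mul_assoc, smul_mul_assoc, one_mul, h2]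
    module
  have e4 : M.1 ^ 4 = (tr2 M * tr2 M * tr2 M - 2 * tr2 M) • M.1 - (tr2 M * tr2 M - 1) • 1 := by
    rw [pow_succ, e3, sub_mul, smul_mul_assoc, smul_mul_assoc, one_mul, h2]
    module
  refine ⟨e2, e3, e4, ?_⟩
  rw [pow_succ, e4, sub_mul, smul_mul_assoc, smul_mul_assoc, one_mul, h2]
  module

/-- A matrix other than `1`, `-1` is no scalar. -/
theorem lin_indep {M : SL₂} (h1 : M ≠ 1) (h2 : M ≠ -1) {c d : k}
    (h : c • M.1 = d • (1 : Matrix (Fin 2) (Fin 2) k)) : c = 0 ∧ d = 0 := by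
  have hc : c = 0 := by
    by_contra hc
    have hM : M.1 = (c⁻¹ * d) • (1 : Matrix (Fin 2) (Fin 2) k) := by
      rw [← smul_smul, ← h, smul_smul, inv_mul_cancel₀ hc, one_smul]
    have hdet : M.1.det = 1 := M.2
    rw [hM, Matrix.det_smul, Matrix.det_one, mul_one, Fintype.card_fin, pow_two] at hdet
    rcases mul_self_eq_one_iff.1 hdet with e | e
    · exact h1 (Subtype.ext (by rw [hM, e, one_smul, Matrix.SpecialLinearGroup.coe_one]))
    · exact h2 (Subtype.ext (by
        rw [hM, e, neg_smul, one_smul, Matrix.SpecialLinearGroup.coe_neg,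
          Matrix.SpecialLinearGroup.coe_one]))
  refine ⟨hc, ?_⟩
  rw [hc, zero_smul] at h
  exact (smul_eq_zero.1 h.symm).resolve_right one_ne_zero

variable {K : Subgroup (Matrix.SpecialLinearGroup (Fin 2) k)} [Finite K]

theorem tr_ne_two (hk : (Nat.card K : k) ≠ 0) {M : SL₂} (hM : M ∈ K) (h1 : M ≠ 1) (h2 : M ≠ -1) :
    tr2 M ≠ 2 ∧ tr2 M ≠ -2 := by
  obtain ⟨a, b, v, w, hab, hv, hw, hMv, hMw, hab1⟩ := exists_eigen_of_mem hk hM h1 h2
  have ha := eig_eq hv hMv
  have hb := eig_eq hw hMw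
  have hsum : a + b = tr2 M :=
    (mul_left_cancel₀ (sub_ne_zero.2 hab) (by linear_combination ha - hb))
  constructor <;> intro ht <;> apply hab
  · have hsq : (a - 1) * (a - 1) = 0 := by linear_combination a * hsum - hab1 + a * ht
    have h := sub_eq_zero.1 (mul_self_eq_zero.1 hsq)
    linear_combination 2 * h - hsum - ht
  · have hsq : (a + 1) * (a + 1) = 0 := by linear_combination a * hsum - hab1 + a * ht
    have h := eq_neg_of_add_eq_zero_left (mul_self_eq_zero.1 hsq)
    linear_combination 2 * h - hsum - ht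

/-- The trace of an element, by its order. -/
theorem trace_cases (hexp : ∀ g ∈ K, ∃ e : ℕ, 1 ≤ e ∧ e ≤ 5 ∧ (g ^ e = 1 ∨ g ^ e = -1))
    {M : SL₂} (hM : M ∈ K) (h1 : M ≠ 1) (h2 : M ≠ -1) {t : k} (ht : tr2 M = t) :
    t = 0 ∨ t = 1 ∨ t = -1 ∨ t * t = 2 ∨ t * t - t - 1 = 0 ∨ t * t + t - 1 = 0 := by
  obtain ⟨p2, p3, p4, p5⟩ := pow_eq_of_lin ht
  obtain ⟨e, he1, he5, he⟩ := hexp M hM
  obtain ⟨s, hs, hMe⟩ : ∃ s : k, (s = 1 ∨ s = -1) ∧ M.1 ^ e = s • (1 : Matrix (Fin 2) (Fin 2) k) := by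
    rcases he with h | h
    · exact ⟨1, Or.inl rfl, by rw [← Matrix.SpecialLinearGroup.coe_pow, h, one_smul,
        Matrix.SpecialLinearGroup.coe_one]⟩
    · exact ⟨-1, Or.inr rfl, by rw [← Matrix.SpecialLinearGroup.coe_pow, h, neg_smul, one_smul,
        Matrix.SpecialLinearGroup.coe_neg, Matrix.SpecialLinearGroup.coe_one]⟩
  have key : ∀ c d : k, M.1 ^ e = c • M.1 - d • (1 : Matrix (Fin 2) (Fin 2) k) → c = 0 := by
    intro c d h
    rw [hMe, eq_sub_iff_add_eq, ← add_smul] at h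
    exact (lin_indep h1 h2 h.symm).1
  interval_cases e
  · rw [pow_one] at hMe
    exact absurd (lin_indep h1 h2 (c := 1) (by rw [one_smul]; exact hMe)).1 one_ne_zero
  · exact Or.inl (key _ _ p2)
  · have h := key _ _ p3
    rcases mul_self_eq_one_iff.1 (sub_eq_zero.1 h) with h' | h'
    · exact Or.inr (Or.inl h')
    · exact Or.inr (Or.inr (Or.inl h'))
  · have h : t * (t * t - 2) = 0 := by linear_combination key _ _ p4
    rcases mul_eq_zero.1 h with h' | h'
    · exact Or.inl h'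
    · exact Or.inr (Or.inr (Or.inr (Or.inl (sub_eq_zero.1 h'))))
  · have h : (t * t - t - 1) * (t * t + t - 1) = 0 := by linear_combination key _ _ p5
    rcases mul_eq_zero.1 h with h' | h'
    · exact Or.inr (Or.inr (Or.inr (Or.inr (Or.inl h'))))
    · exact Or.inr (Or.inr (Or.inr (Or.inr (Or.inr h'))))

theorem tr2_mul_inv (X Y : SL₂) : tr2 (X * Y⁻¹) = tr2 X * tr2 Y - tr2 (X * Y) := by
  simp only [tr2, Matrix.SpecialLinearGroup.coe_mul, Matrix.SpecialLinearGroup.coe_inv,
    Matrix.adjugate_fin_two, Matrix.mul_apply, Fin.sum_univ_two, Matrix.of_apply, Matrix.cons_val',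
    Matrix.cons_val_zero, Matrix.cons_val_one, Matrix.empty_val', Matrix.cons_val_fin_one]
  ring

theorem tr2_commutator (X Y : SL₂) (hX : tr2 X = -1) (hY : tr2 Y = -1) :
    tr2 (X * (Y * X * Y⁻¹)) = tr2 (X * Y) * (1 - tr2 (X * Y)) + 1 := by
  have hXX := sq_eq X
  have hYY : (Y⁻¹).1 = -1 - Y.1 := by
    have h : Y.1 * (-1 - Y.1) = 1 := by
      rw [mul_sub, mul_neg, mul_one, sq_eq Y, hY]
      module
    calc (Y⁻¹).1 = (Y⁻¹).1 * (Y.1 * (-1 - Y.1)) := by rw [h, mul_one]
      _ = -1 - Y.1 := by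
        rw [← mul_assoc, ← Matrix.SpecialLinearGroup.coe_mul, inv_mul_cancel,
          Matrix.SpecialLinearGroup.coe_one, one_mul]
  have htr : ∀ M : SL₂, Matrix.trace M.1 = tr2 M := fun M => Matrix.trace_fin_two M.1
  have hcyc : Matrix.trace (X.1 * Y.1 * X.1) = 1 - tr2 (X * Y) := by
    rw [Matrix.trace_mul_comm, ← mul_assoc, hXX, hX, sub_mul, smul_mul_assoc, Matrix.trace_sub,
      Matrix.trace_smul, one_mul, ← Matrix.SpecialLinearGroup.coe_mul, htr, htr, hY, smul_eq_mul]
    ring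
  have hsq : Matrix.trace ((X * Y).1 * (X * Y).1) = tr2 (X * Y) * tr2 (X * Y) - 2 := by
    rw [sq_eq, Matrix.trace_sub, Matrix.trace_smul, htr, Matrix.trace_one, smul_eq_mul]
    simp
  rw [← htr, Matrix.SpecialLinearGroup.coe_mul, Matrix.SpecialLinearGroup.coe_mul,
    Matrix.SpecialLinearGroup.coe_mul, hYY,
    show X.1 * (Y.1 * X.1 * (-1 - Y.1)) = -(X.1 * Y.1 * X.1) - X.1 * Y.1 * (X.1 * Y.1) by
      noncomm_ring,
    Matrix.trace_sub, Matrix.trace_neg, hcyc, ← Matrix.SpecialLinearGroup.coe_mul, hsq]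
  ring

/-- The product of two non-commuting elements of order three in a finite subgroup of `SL₂`. -/
theorem pair_pow (hk : (Nat.card K : k) ≠ 0) (h2 : (2 : k) ≠ 0) (h3 : (3 : k) ≠ 0)
    (hneg : (-1 : SL₂) ∈ K) {X Y : SL₂} (hX : X ∈ K) (hY : Y ∈ K) (hX3 : X ^ 3 = 1) (hY3 : Y ^ 3 = 1)
    (hXt : tr2 X = -1) (hYt : tr2 Y = -1) (hXY : X * Y ≠ Y * X) :
    (X * Y) ^ 2 = -1 ∨ (X * Y) ^ 3 = -1 ∨ (X * Y) ^ 5 = -1 := by
  obtain ⟨-, hexp⟩ := finite_sl_two hk h2 hneg hX hY hX3 hY3 hXY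
  have hP1 : X * Y ≠ 1 := fun h => hXY (by rw [h, mul_eq_one_comm.1 h])
  have hP2 : X * Y ≠ -1 := fun h => hXY (by
    have hY' : Y = X⁻¹ * -1 := by rw [← h, inv_mul_cancel_left]
    rw [hY']; simp)
  have hQ1 : X * Y⁻¹ ≠ 1 := fun h => hXY (by rw [mul_inv_eq_one.1 h])
  have hQ2 : X * Y⁻¹ ≠ -1 := fun h => hXY (by rw [mul_inv_eq_iff_eq_mul.1 h]; simp)
  set t := tr2 (X * Y) with ht
  have ht' : tr2 (X * Y⁻¹) = 1 - t := by rw [tr2_mul_inv, hXt, hYt, ← ht]; ring
  obtain ⟨p2, p3, -, p5⟩ := pow_eq_of_lin ht.symm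
  obtain ⟨ne1, ne1'⟩ := tr_ne_two hk (K.mul_mem hX hY) hP1 hP2
  obtain ⟨ne2, ne2'⟩ := tr_ne_two hk (K.mul_mem hX (K.inv_mem hY)) hQ1 hQ2
  rw [ht'] at ne2 ne2'
  rw [← ht] at ne1 ne1'
  have good : t = 0 ∨ t = 1 ∨ t * t - t - 1 = 0 := by
    have c1 := trace_cases hexp (K.mul_mem hX hY) hP1 hP2 ht.symm
    have c2 := trace_cases hexp (K.mul_mem hX (K.inv_mem hY)) hQ1 hQ2 ht'
    have d1 : t * t = 2 ∨ t * t + t - 1 = 0 ∨ (t = 0 ∨ t = 1 ∨ t * t - t - 1 = 0) := by
      rcases c1 with h | h | h | h | h | h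
      · exact Or.inr (Or.inr (Or.inl h))
      · exact Or.inr (Or.inr (Or.inr (Or.inl h)))
      · exact absurd (by rw [h]; ring : 1 - t = 2) ne2
      · exact Or.inl h
      · exact Or.inr (Or.inr (Or.inr (Or.inr h)))
      · exact Or.inr (Or.inl h)
    have d2 : (1 - t) * (1 - t) = 2 ∨ (1 - t) * (1 - t) + (1 - t) - 1 = 0 ∨
        (t = 0 ∨ t = 1 ∨ t * t - t - 1 = 0) := by
      rcases c2 with h | h | h | h | h | h
      · exact Or.inr (Or.inr (Or.inr (Or.inl (sub_eq_zero.1 h).symm)))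
      · exact Or.inr (Or.inr (Or.inl (by linear_combination -h)))
      · exact absurd (by linear_combination -h : t = 2) ne1
      · exact Or.inl h
      · exact Or.inr (Or.inr (Or.inr (Or.inr (by linear_combination h))))
      · exact Or.inr (Or.inl h)
    rcases d1 with a | a | a
    · rcases d2 with b | b | b
      · -- only in characteristic seven
        exfalso
        have h2t : 2 * t = 1 := by linear_combination a - b
        have h7 : (7 : k) = 0 := by linear_combination -4 * a + (2 * t + 1) * h2t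
        have ht4 : t = 4 := by linear_combination 4 * h2t - t * h7
        set W := Y * X * Y⁻¹ with hW
        have hWt : tr2 (X * W) = 3 := by
          rw [hW, tr2_commutator X Y hXt hYt, ← ht]; linear_combination -a + ht4
        have hWt1 : tr2 W = -1 := by
          rw [← hXt, hW, tr2, tr2, ← Matrix.trace_fin_two, ← Matrix.trace_fin_two,
            Matrix.SpecialLinearGroup.coe_mul, Matrix.SpecialLinearGroup.coe_mul, Matrix.trace_mul_comm,
            ← mul_assoc, ← Matrix.SpecialLinearGroup.coe_mul Y⁻¹ Y, inv_mul_cancel,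
            Matrix.SpecialLinearGroup.coe_one, one_mul]
        have hWm : tr2 (X * W⁻¹) = -2 := by rw [tr2_mul_inv, hXt, hWt1, hWt]; ring
        have hWK : W ∈ K := K.mul_mem (K.mul_mem hY hX) (K.inv_mem hY)
        by_cases hR1 : X * W⁻¹ = 1
        · rw [hR1] at hWm
          simp [tr2] at hWm
          exact mul_ne_zero h2 h2 (by linear_combination hWm)
        · by_cases hR2 : X * W⁻¹ = -1
          · have hXW : X = -W := by rw [mul_inv_eq_iff_eq_mul.1 hR2]; simp
            have : tr2 X = - tr2 W := by rw [hXW]; simp [tr2]; ring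
            rw [hXt, hWt1] at this
            exact h2 (by linear_combination -this)
          · exact (tr_ne_two hk (K.mul_mem hX (K.inv_mem hWK)) hR1 hR2).2 hWm
      · exfalso
        have h1 : t = 1 := mul_left_cancel₀ h3 (by linear_combination a - b)
        rw [h1, mul_one] at a
        exact one_ne_zero (by linear_combination -a)
      · exact b
    · rcases d2 with b | b | b
      · exfalso
        have h1 : t = 0 := mul_left_cancel₀ h3 (by linear_combination a - b)
        rw [h1] at a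
        exact one_ne_zero (by linear_combination -a)
      · exfalso
        have h2t : 2 * t = 1 := mul_left_cancel₀ h2 (by linear_combination a - b)
        exact (one_ne_zero : (1 : k) ≠ 0) (by linear_combination -4 * a + (2 * t + 3) * h2t)
      · exact b
    · exact a
  rcases good with h | h | h
  · left
    refine Subtype.ext ?_
    rw [Matrix.SpecialLinearGroup.coe_pow, p2, h, Matrix.SpecialLinearGroup.coe_neg,
      Matrix.SpecialLinearGroup.coe_one]
    module
  · right; left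
    refine Subtype.ext ?_
    rw [Matrix.SpecialLinearGroup.coe_pow, p3, h, Matrix.SpecialLinearGroup.coe_neg,
      Matrix.SpecialLinearGroup.coe_one]
    module
  · right; right
    refine Subtype.ext ?_
    rw [Matrix.SpecialLinearGroup.coe_pow, p5, Matrix.SpecialLinearGroup.coe_neg,
      Matrix.SpecialLinearGroup.coe_one,
      show t * t * t * t - 3 * (t * t) + 1 = 0 by linear_combination (t * t + t - 1) * h,
      show t * t * t - 2 * t = 1 by linear_combination (t + 1) * h]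
    module

variable {G : Type*} [Group G] {V : Type*} [AddCommGroup V] [Module k V] {ρ : G →* Module.End k V}

/-- The product of two non-commuting elements of order three has order 4, 6 or 10. -/
theorem prod_pow_eq [Finite G] [FiniteDimensional k V] [Nontrivial V] (hρ : Fpf ρ) {τ : G}
    (hτ : ρ τ = -1) (h2 : (2 : k) ≠ 0) {x y : G} (hx : x ^ 3 = 1) (hy : y ^ 3 = 1)
    (hxy : x * y ≠ y * x) :
    (x * y) ^ 2 = τ ∨ (x * y) ^ 3 = τ ∨ (x * y) ^ 5 = τ := by
  obtain ⟨ι, hι, hxm, hym, htr⟩ := exists_plane hρ hx hy hxy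
  set φ := planeHom ρ hι with hφ
  have hinj : Function.Injective φ := planeHom_injective hρ hι
  have hk : (Nat.card φ.range : k) ≠ 0 := by
    refine hρ.natCast_ne_zero ?_
    rw [← Nat.card_congr (MonoidHom.ofInjective hinj).toEquiv]
    exact Subgroup.card_subgroup_dvd_card _
  have hx1 : x ≠ 1 := by rintro rfl; simp at hxy
  have h3 : (3 : k) ≠ 0 := by
    have h : orderOf x ∣ Nat.card G := orderOf_dvd_natCard x
    rw [orderOf_eq_prime hx hx1] at h
    exact_mod_cast hρ.natCast_ne_zero h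
  have hτm : τ ∈ planeGroup ρ ι := mem_planeGroup_neg hτ
  have hφτ : φ ⟨τ, hτm⟩ = -1 := planeHom_eq hι fun z => by
    rw [show ((⟨τ, hτm⟩ : planeGroup ρ ι) : G) = τ from rfl, hτ, LinearMap.neg_apply,
      Module.End.one_apply, Matrix.SpecialLinearGroup.coe_neg, Matrix.SpecialLinearGroup.coe_one,
      Matrix.neg_mulVec, Matrix.one_mulVec, map_neg]
  let gx : planeGroup ρ ι := ⟨x, hxm⟩
  let gy : planeGroup ρ ι := ⟨y, hym⟩
  have : Finite φ.range := Finite.of_surjective φ.rangeRestrict φ.rangeRestrict_surjective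
  have h := pair_pow hk h2 h3 (K := φ.range) ⟨_, hφτ⟩ ⟨gx, rfl⟩ ⟨gy, rfl⟩
    (by rw [← map_pow, show gx ^ 3 = 1 from Subtype.ext hx, map_one])
    (by rw [← map_pow, show gy ^ 3 = 1 from Subtype.ext hy, map_one])
    (htr gx (Or.inl rfl)) (htr gy (Or.inr rfl))
    (fun h => hxy (congrArg Subtype.val (hinj (by rw [map_mul, map_mul]; exact h) :
      gx * gy = gy * gx)))
  rw [← hφτ, ← map_mul, ← map_pow, ← map_pow, ← map_pow, hinj.eq_iff, hinj.eq_iff, hinj.eq_iff] at h
  rcases h with h | h | h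
  · exact Or.inl (congrArg Subtype.val h)
  · exact Or.inr (Or.inl (congrArg Subtype.val h))
  · exact Or.inr (Or.inr (congrArg Subtype.val h))

end CfsgLib.Perm.Zass
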