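import Mathlib

/-!
For every odd prime `q` other than five, minus one has the form `Y² + 2 A² + 10 B²` in the field of
`q`-th roots of unity (hence it is a sum of two squares over that field with `√5` adjoined).
-/

namespace CfsgLib.Perm.Zass

open Polynomial Finset

theorem two_not_square_mod_five : ∀ s : ZMod 5, ((2 : ℕ) : ZMod 5) ≠ s * s := by decide

theorem exists_cast_sq_eq_neg_five {ℓ : ℕ} [Fact ℓ.Prime] (h4 : ℓ % 4 = 3) (h5 : ℓ % 5 = 2) :
    ∃ t : ZMod ℓ, t ^ 2 = -5 := by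
  have : Fact (Nat.Prime 5) := ⟨by norm_num⟩
  have hne : ℓ ≠ 5 := by omega
  have h5ne : ((5 : ℕ) : ZMod ℓ) ≠ 0 := by
    rw [ne_eq, ZMod.natCast_eq_zero_iff]
    exact fun h => hne ((Nat.prime_dvd_prime_iff_eq (Fact.out : ℓ.Prime) (by norm_num)).1 h)
  have hn5 : ¬ IsSquare ((5 : ℕ) : ZMod ℓ) := by
    rw [← ZMod.exists_sq_eq_prime_iff_of_mod_four_eq_one (p := 5) (q := ℓ) (by norm_num) (by omega)]
    rw [← ZMod.natCast_mod ℓ 5, h5]
    rintro ⟨s, hs⟩
    exact two_not_square_mod_five s hs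
  have hn1 : ¬ IsSquare (-1 : ZMod ℓ) := fun h => by
    have := ZMod.exists_sq_eq_neg_one_iff.1 h
    omega
  have h : IsSquare (-1 * ((5 : ℕ) : ZMod ℓ)) := by
    rw [← quadraticChar_one_iff_isSquare (mul_ne_zero (neg_ne_zero.2 one_ne_zero) h5ne), map_mul,
      quadraticChar_neg_one_iff_not_isSquare.2 hn1, quadraticChar_neg_one_iff_not_isSquare.2 hn5]
    rfl
  obtain ⟨t, ht⟩ := h
  exact ⟨t, by rw [pow_two, ← ht]; simp⟩

/-- Twice such a prime is represented by `n² + 5 m²`. -/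
theorem exists_two_mul_eq {ℓ : ℕ} [hℓ : Fact ℓ.Prime] (h4 : ℓ % 4 = 3) (h5 : ℓ % 5 = 2) :
    ∃ n m : ℤ, 2 * (ℓ : ℤ) = n ^ 2 + 5 * m ^ 2 := by
  classical
  obtain ⟨t, ht⟩ := exists_cast_sq_eq_neg_five h4 h5
  set r := Nat.sqrt ℓ with hr
  have hlt : r * r < ℓ := by
    refine lt_of_le_of_ne (Nat.sqrt_le ℓ) fun h => ?_
    exact hℓ.out.prime.not_isSquare ⟨r, h.symm⟩
  let f : Fin (r + 1) × Fin (r + 1) → ZMod ℓ := fun x => ((x.1 : ℕ) : ZMod ℓ) - t * ((x.2 : ℕ) : ZMod ℓ)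
  have hcard : Fintype.card (ZMod ℓ) < Fintype.card (Fin (r + 1) × Fin (r + 1)) := by
    rw [ZMod.card, Fintype.card_prod, Fintype.card_fin]
    exact Nat.lt_succ_sqrt ℓ
  obtain ⟨x, y, hxy, hf⟩ := Fintype.exists_ne_map_eq_of_card_lt f hcard
  set n : ℤ := (x.1 : ℕ) - (y.1 : ℕ) with hn
  set m : ℤ := (x.2 : ℕ) - (y.2 : ℕ) with hm
  have hbn : n ^ 2 ≤ (r : ℤ) * r := by
    have := x.1.isLt; have := y.1.isLt
    rw [pow_two, ← abs_mul_abs_self n]
    have : |n| ≤ r := abs_le.2 ⟨by omega, by omega⟩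
    exact mul_le_mul this this (abs_nonneg _) (by positivity)
  have hbm : m ^ 2 ≤ (r : ℤ) * r := by
    have := x.2.isLt; have := y.2.isLt
    rw [pow_two, ← abs_mul_abs_self m]
    have : |m| ≤ r := abs_le.2 ⟨by omega, by omega⟩
    exact mul_le_mul this this (abs_nonneg _) (by positivity)
  have hdvd : (ℓ : ℤ) ∣ n ^ 2 + 5 * m ^ 2 := by
    rw [← ZMod.intCast_zmod_eq_zero_iff_dvd]
    have e : (n : ZMod ℓ) = t * (m : ZMod ℓ) := by
      rw [hn, hm]
      push_cast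
      linear_combination hf
    push_cast
    rw [e, mul_pow, ht]
    ring
  have hpos : 0 < n ^ 2 + 5 * m ^ 2 := by
    by_contra hle
    have h0n : n ^ 2 = 0 := by have := sq_nonneg n; have := sq_nonneg m; omega
    have h0m : m ^ 2 = 0 := by have := sq_nonneg n; have := sq_nonneg m; omega
    rw [sq_eq_zero_iff] at h0n h0m
    exact hxy (Prod.ext (Fin.ext (by omega)) (Fin.ext (by omega)))
  obtain ⟨k, hk⟩ := hdvd
  have hk6 : k < 6 := by nlinarith
  have hk0 : 0 < k := by nlinarith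
  have hsq : ∀ z : ZMod 5, z ^ 2 = 0 ∨ z ^ 2 = 1 ∨ z ^ 2 = 4 := by decide
  have hmod : ((k : ZMod 5)) * 2 = (n : ZMod 5) ^ 2 := by
    have h := congrArg (fun z : ℤ => (z : ZMod 5)) hk
    simp only [Int.cast_add, Int.cast_mul, Int.cast_pow, Int.cast_ofNat, Int.cast_natCast] at h
    rw [show (5 : ZMod 5) = 0 from rfl, zero_mul, add_zero, ← ZMod.natCast_mod ℓ 5, h5] at h
    rw [h]; push_cast; ring
  interval_cases k
  · exfalso
    rcases hsq (n : ZMod 5) with h | h | h <;> rw [h] at hmod <;> revert hmod <;> decide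
  · exact ⟨n, m, by linarith⟩
  · -- compose with a norm six element
    have h3 : (n : ZMod 3) ^ 2 + 5 * (m : ZMod 3) ^ 2 = 0 := by
      have h := congrArg (fun z : ℤ => (z : ZMod 3)) hk
      simp only [Int.cast_add, Int.cast_mul, Int.cast_pow, Int.cast_ofNat, Int.cast_natCast] at h
      rw [h, show (3 : ZMod 3) = 0 from rfl, mul_zero]
    have hor : ∀ a b : ZMod 3, a ^ 2 + 5 * b ^ 2 = 0 →
        (a + b = 0 ∧ a - 5 * b * 1 = 0) ∨ (a - b = 0 ∧ a + 5 * b * 1 = 0) := by decide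
    rcases hor _ _ h3 with ⟨e1, e2⟩ | ⟨e1, e2⟩
    · obtain ⟨u, hu⟩ : (3 : ℤ) ∣ n + m := by
        refine (ZMod.intCast_zmod_eq_zero_iff_dvd _ 3).1 ?_; push_cast; exact e1
      obtain ⟨v, hv⟩ : (3 : ℤ) ∣ n - 5 * m := by
        refine (ZMod.intCast_zmod_eq_zero_iff_dvd _ 3).1 ?_; push_cast; linear_combination e2
      exact ⟨v, u, by
        have : 9 * (2 * (ℓ : ℤ)) = 9 * (v ^ 2 + 5 * u ^ 2) := by
          linear_combination -6 * hk + (n + m + 3 * u) * 5 * hu + (n - 5 * m + 3 * v) * hv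
        linarith⟩
    · obtain ⟨u, hu⟩ : (3 : ℤ) ∣ n - m := by
        refine (ZMod.intCast_zmod_eq_zero_iff_dvd _ 3).1 ?_; push_cast; exact e1
      obtain ⟨v, hv⟩ : (3 : ℤ) ∣ n + 5 * m := by
        refine (ZMod.intCast_zmod_eq_zero_iff_dvd _ 3).1 ?_; push_cast; linear_combination e2
      exact ⟨v, u, by
        have : 9 * (2 * (ℓ : ℤ)) = 9 * (v ^ 2 + 5 * u ^ 2) := by
          linear_combination -6 * hk + (n - m + 3 * u) * 5 * hu + (n + 5 * m + 3 * v) * hv
        linarith⟩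
  · exfalso
    rcases hsq (n : ZMod 5) with h | h | h <;> rw [h] at hmod <;> revert hmod <;> decide
  · exfalso
    have h0 : (n : ZMod 5) = 0 := by
      have : Fact (Nat.Prime 5) := ⟨by norm_num⟩
      refine pow_eq_zero_iff (n := 2) (by norm_num) |>.1 ?_
      rw [← hmod]; rfl
    obtain ⟨c, hc⟩ := (ZMod.intCast_zmod_eq_zero_iff_dvd n 5).1 h0
    have hl : (ℓ : ℤ) = 5 * c ^ 2 + m ^ 2 := by
      have : 5 * (ℓ : ℤ) = 5 * (5 * c ^ 2 + m ^ 2) := by linear_combination -hk + (n + 5 * c) * hc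
      linarith
    have h := congrArg (fun z : ℤ => (z : ZMod 5)) hl
    simp only [Int.cast_add, Int.cast_mul, Int.cast_pow, Int.cast_ofNat, Int.cast_natCast] at h
    rw [show (5 : ZMod 5) = 0 from rfl, zero_mul, zero_add, ← ZMod.natCast_mod ℓ 5, h5] at h
    rcases hsq (m : ZMod 5) with h' | h' | h' <;> rw [h'] at h <;> revert h <;> decide

/-- The quadratic form identity for cyclotomic values. -/
theorem exists_gauss_eq {F : Type*} [Field F] [CharZero F] {ℓ : ℕ} [hℓ : Fact ℓ.Prime]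
    (h4 : ℓ % 4 = 3) {η : F} (hη : η ^ ℓ = η⁻¹) (hη0 : η ≠ 0) (hη1 : η ≠ 1) :
    ∃ A B : F, A ^ 2 + (ℓ : F) * B ^ 2 = -4 * η⁻¹ := by
  classical
  have hℓ2 : ringChar (ZMod ℓ) ≠ 2 := by rw [ZMod.ringChar_zmod_n]; omega
  let E := CyclotomicField ℓ F
  have : NeZero (ℓ : F) := ⟨Nat.cast_ne_zero.2 hℓ.out.ne_zero⟩
  have : IsGalois F E := IsCyclotomicExtension.isGalois (S := {ℓ}) (K := F) (L := E)
  have : FiniteDimensional F E := IsCyclotomicExtension.finiteDimensional {ℓ} F E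
  have hζ : IsPrimitiveRoot (IsCyclotomicExtension.zeta ℓ F E) ℓ :=
    IsCyclotomicExtension.zeta_spec ℓ F E
  set ζ := IsCyclotomicExtension.zeta ℓ F E with hζdef
  let ψ : AddChar (ZMod ℓ) E := AddChar.zmodChar ℓ hζ.pow_eq_one
  have hψ : ∀ r : ZMod ℓ, ψ r = ζ ^ r.val := fun r => AddChar.zmodChar_apply _ r
  have hψprim : ψ.IsPrimitive := AddChar.zmodChar_primitive_of_primitive_root ℓ hζ
  let χ : MulChar (ZMod ℓ) E := (quadraticChar (ZMod ℓ)).ringHomComp (Int.castRingHom E)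
  have hχ : ∀ r, χ r = ((quadraticChar (ZMod ℓ) r : ℤ) : E) := fun r => rfl
  set g := gaussSum χ ψ with hg
  have hg2 : g ^ 2 = -(ℓ : E) := by
    rw [hg, gaussSum_sq ?_ ((quadraticChar_isQuadratic (ZMod ℓ)).comp _) hψprim, hχ,
      quadraticChar_neg_one hℓ2, ZMod.card, ZMod.χ₄_nat_three_mod_four h4]
    · push_cast; ring
    · exact MulChar.ringHomComp_ne_one_iff (Int.cast_injective) |>.2 (quadraticChar_ne_one hℓ2)
  let S : ℤ → Finset (ZMod ℓ) := fun e => univ.filter fun r => quadraticChar (ZMod ℓ) r = e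
  let z : ℤ → E := fun e => ∏ r ∈ S e, (algebraMap F E η - ψ r)
  have hzz : z 1 * z (-1) = -(algebraMap F E η)⁻¹ := by
    have hne : algebraMap F E η - 1 ≠ 0 := by
      rw [sub_ne_zero, ← map_one (algebraMap F E)]
      exact fun h => hη1 ((algebraMap F E).injective h)
    have hinj : Set.InjOn (fun r : ZMod ℓ => ψ r) (univ : Finset (ZMod ℓ)) := by
      intro a _ b _ h
      simp only [hψ] at h
      exact ZMod.val_injective ℓ (hζ.pow_inj (ZMod.val_lt a) (ZMod.val_lt b) h)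
    have hall : ∏ r : ZMod ℓ, (algebraMap F E η - ψ r) = (algebraMap F E η)⁻¹ - 1 := by
      have himg : (univ : Finset (ZMod ℓ)).image (fun r => ψ r) = nthRootsFinset ℓ (1 : E) := by
        refine eq_of_subset_of_card_le (fun x hx => ?_) ?_
        · obtain ⟨r, -, rfl⟩ := mem_image.1 hx
          rw [mem_nthRootsFinset hℓ.out.pos, hψ, ← pow_mul, mul_comm, pow_mul, hζ.pow_eq_one, one_pow]
        · rw [hζ.card_nthRootsFinset, card_image_of_injOn hinj, card_univ, ZMod.card]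
      have h := congrArg (Polynomial.eval (algebraMap F E η)) (X_pow_sub_one_eq_prod hℓ.out.pos hζ)
      rw [← himg, eval_prod, prod_image hinj] at h
      simp only [eval_sub, eval_pow, eval_X, eval_C, eval_one] at h
      rw [← h, ← map_pow, hη, map_inv₀]
    have h0 : S 1 ∪ S (-1) = univ.erase 0 := by
      ext r
      simp only [S, mem_union, mem_filter, mem_univ, true_and, mem_erase, and_true]
      constructor
      · rintro h rfl; simp at h
      · exact fun h => quadraticChar_dichotomy h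
    have hdisj : Disjoint (S 1) (S (-1)) := by
      rw [disjoint_left]
      simp only [S, mem_filter, mem_univ, true_and]
      intro r h1 h2
      rw [h1] at h2
      exact absurd h2 (by norm_num)
    have : (algebraMap F E η - 1) * (z 1 * z (-1)) = (algebraMap F E η)⁻¹ - 1 := by
      rw [← hall, ← prod_union hdisj, h0, ← mul_prod_erase univ _ (mem_univ (0 : ZMod ℓ)), hψ,
        ZMod.val_zero, pow_zero]
    have hη0' : algebraMap F E η ≠ 0 := fun h => hη0 ((map_eq_zero _).1 h)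
    refine mul_left_cancel₀ hne (this.trans ?_)
    rw [sub_mul, mul_neg, mul_inv_cancel₀ hη0']
    ring
  have hfix : ∀ σ : E ≃ₐ[F] E, σ (z 1 + z (-1)) = z 1 + z (-1) ∧
      σ ((z 1 - z (-1)) * g) = (z 1 - z (-1)) * g := by
    intro σ
    obtain ⟨i, hi, hcop, hσ⟩ := hζ.isPrimitiveRoot_iff.1
      (hζ.map_of_injective (f := σ) σ.injective)
    obtain ⟨a, ha⟩ : ∃ a : (ZMod ℓ)ˣ, (a : ZMod ℓ) = (i : ZMod ℓ) := ⟨ZMod.unitOfCoprime i hcop, rfl⟩
    have hσψ : ∀ r : ZMod ℓ, σ (ψ r) = ψ (a * r) := by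
      intro r
      rw [hψ, map_pow, ← hσ, ← pow_mul, ha]
      have : ((i * r.val : ℕ) : ZMod ℓ) = (i : ZMod ℓ) * r := by rw [Nat.cast_mul, ZMod.natCast_zmod_val]
      rw [← this, AddChar.zmodChar_apply', ]
    have hz : ∀ e : ℤ, σ (z e) = z (quadraticChar (ZMod ℓ) a * e) := by
      intro e
      simp only [z, map_prod, map_sub, AlgEquiv.commutes, hσψ]
      refine prod_equiv a.mulLeft (fun r => ?_) (fun r _ => rfl)
      simp only [S, mem_filter, mem_univ, true_and, Units.mulLeft_apply, map_mul]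
      constructor
      · intro h; rw [h]
      · intro h
        have hne : quadraticChar (ZMod ℓ) (a : ZMod ℓ) ≠ 0 := fun h0 =>
          a.ne_zero (quadraticChar_eq_zero_iff.1 h0)
        exact mul_left_cancel₀ hne h
    have hσg : σ g = ((quadraticChar (ZMod ℓ) a : ℤ) : E) * g := by
      simp only [hg, gaussSum, map_sum, map_mul, hσψ, mul_sum, hχ, map_intCast]
      refine Fintype.sum_equiv a.mulLeft _ _ fun r => ?_
      simp only [Units.mulLeft_apply, map_mul]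
      erw [map_intCast σ]
      rw [Int.cast_mul]
      rw [← mul_assoc, ← mul_assoc]
      have h1 : ((quadraticChar (ZMod ℓ) (a : ZMod ℓ) : ℤ) : E) *
          ((quadraticChar (ZMod ℓ) (a : ZMod ℓ) : ℤ) : E) = 1 := by
        rw [← Int.cast_mul, ← pow_two, quadraticChar_sq_one a.ne_zero, Int.cast_one]
      rw [h1, one_mul]
    rcases quadraticChar_dichotomy (F := ZMod ℓ) a.ne_zero with h | h
    · simp only [map_add, map_sub, map_mul, hz, hσg, h]; constructor <;> norm_num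
    · simp only [map_add, map_sub, map_mul, hz, hσg, h]
      constructor
      · norm_num [add_comm]
      · norm_num; ring
  obtain ⟨A, hA⟩ := (IsGalois.mem_range_algebraMap_iff_fixed (F := F) _).2 fun σ => (hfix σ).1
  obtain ⟨B, hB⟩ := (IsGalois.mem_range_algebraMap_iff_fixed (F := F) _).2 fun σ => (hfix σ).2
  refine ⟨A, B / ℓ, (algebraMap F E).injective ?_⟩
  have hℓ0 : (ℓ : E) ≠ 0 := by
    rw [← map_natCast (algebraMap F E), ne_eq, map_eq_zero]; exact NeZero.ne _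
  simp only [map_add, map_mul, map_pow, map_div₀, map_natCast, map_neg, map_ofNat, map_inv₀, hA, hB]
  rw [div_pow, mul_pow, hg2, show -4 * (algebraMap F E η)⁻¹ = 4 * (z 1 * z (-1)) by rw [hzz]; ring]
  rw [mul_div_assoc', show (ℓ : E) * ((z 1 - z (-1)) ^ 2 * -(ℓ : E)) = -(z 1 - z (-1)) ^ 2 * (ℓ : E) ^ 2 by ring,
    mul_div_cancel_right₀ _ (pow_ne_zero 2 hℓ0)]
  ring

/-- The main arithmetic fact. -/
theorem exists_level_poly {q : ℕ} [hq : Fact q.Prime] (h2 : q ≠ 2) (h5 : q ≠ 5) :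
    ∃ P A B : ℚ[X], cyclotomic q ℚ ∣ P ^ 2 + 2 * A ^ 2 + 10 * B ^ 2 + 1 := by
  have hcop : Nat.Coprime q 20 := by
    rw [hq.out.coprime_iff_not_dvd]
    intro h
    have h' : q ∣ 2 ^ 2 * 5 := h
    rcases hq.out.dvd_mul.1 h' with h | h
    · exact h2 ((Nat.prime_dvd_prime_iff_eq hq.out Nat.prime_two).1 (hq.out.dvd_of_dvd_pow h))
    · exact h5 ((Nat.prime_dvd_prime_iff_eq hq.out (by norm_num)).1 h)
  let r := Nat.chineseRemainder hcop (q - 1) 7
  have hr1 : (r : ℕ) % q = (q - 1) % q := r.2.1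
  have hr2 : (r : ℕ) % 20 = 7 % 20 := r.2.2
  have hunit : IsUnit ((r : ℕ) : ZMod (q * 20)) := by
    rw [ZMod.isUnit_iff_coprime]
    refine Nat.Coprime.mul_right ?_ ?_
    · rw [Nat.coprime_comm, hq.out.coprime_iff_not_dvd, Nat.dvd_iff_mod_eq_zero, hr1,
        Nat.mod_eq_of_lt (Nat.sub_lt hq.out.pos one_pos)]
      have := hq.out.two_le; omega
    · rw [Nat.coprime_comm, Nat.Coprime, Nat.gcd_rec, hr2]; rfl
  have : NeZero (q * 20) := ⟨Nat.mul_ne_zero hq.out.ne_zero (by norm_num)⟩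
  obtain ⟨ℓ, -, hℓ, he⟩ := Nat.forall_exists_prime_gt_and_eq_mod hunit 0
  rw [ZMod.natCast_eq_natCast_iff] at he
  have := Fact.mk hℓ
  have hℓq : ℓ % q = q - 1 := by
    rw [show ℓ % q = (r : ℕ) % q from he.of_mul_right _, hr1, Nat.mod_eq_of_lt (Nat.sub_lt hq.out.pos one_pos)]
  have hℓ20 : ℓ % 20 = 7 := by rw [show ℓ % 20 = (r : ℕ) % 20 from he.of_mul_left _, hr2]
  obtain ⟨n, m, hnm⟩ := exists_two_mul_eq (ℓ := ℓ) (by omega) (by omega)
  have : NeZero q := ⟨hq.out.ne_zero⟩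
  have : NeZero ((q : ℕ) : ℚ) := ⟨Nat.cast_ne_zero.2 hq.out.ne_zero⟩
  let F := CyclotomicField q ℚ
  have : IsCyclotomicExtension {q} ℚ F := CyclotomicField.isCyclotomicExtension q ℚ
  have hζ : IsPrimitiveRoot (IsCyclotomicExtension.zeta q ℚ F) q := IsCyclotomicExtension.zeta_spec q ℚ F
  set η := IsCyclotomicExtension.zeta q ℚ F with hηdef
  have hη : η ^ ℓ = η⁻¹ := by
    refine eq_inv_of_mul_eq_one_left ?_
    rw [← pow_succ, ← Nat.div_add_mod ℓ q, hℓq, add_assoc, Nat.sub_add_cancel hq.out.pos, pow_add,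
      pow_mul, hζ.pow_eq_one, one_pow, one_mul]
  obtain ⟨a, b, hab⟩ := exists_gauss_eq (ℓ := ℓ) (by omega) hη (hζ.ne_zero hq.out.ne_zero) (hζ.ne_one hq.out.one_lt)
  obtain ⟨h, hh⟩ : ∃ h : F, h ^ 2 = η := by
    obtain ⟨c, hc⟩ := hq.out.odd_of_ne_two h2
    refine ⟨η ^ (c + 1), ?_⟩
    rw [← pow_mul, show (c + 1) * 2 = q + 1 by omega, pow_succ, hζ.pow_eq_one, one_mul]
  have key : (h * a / 2) ^ 2 + 2 * ((n : F) * (h * b / 2) / 2) ^ 2 + 10 * ((m : F) * (h * b / 2) / 2) ^ 2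
      + 1 = 0 := by
    have hη0 : η ≠ 0 := hζ.ne_zero hq.out.ne_zero
    have e : ((n : F) ^ 2 + 5 * (m : F) ^ 2) = 2 * (ℓ : F) := by
      have h' := congrArg (fun z : ℤ => (z : F)) hnm.symm
      simpa [map_intCast, map_mul, map_pow] using (show (Int.castRingHom F) (n ^ 2 + 5 * m ^ 2) = (Int.castRingHom F) (2 * (ℓ : ℤ)) from h') 
    have hab' : η * (a ^ 2 + (ℓ : F) * b ^ 2) = -4 := by rw [hab, mul_left_comm, mul_inv_cancel₀ hη0, mul_one]
    linear_combination (h ^ 2 * b ^ 2 / 8) * e + (1 / 4 : F) * hab' + ((a ^ 2 + (ℓ : F) * b ^ 2) / 4) * hh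
  have hgen : ∀ x : F, ∃ P : ℚ[X], aeval η P = x := fun x => by
    have hx : x ∈ Algebra.adjoin ℚ {η} := by
      rw [IsCyclotomicExtension.adjoin_primitive_root_eq_top hζ]; exact Algebra.mem_top
    rwa [Algebra.adjoin_singleton_eq_range_aeval, AlgHom.mem_range] at hx
  obtain ⟨P, hP⟩ := hgen (h * a / 2)
  obtain ⟨A, hA⟩ := hgen ((n : F) * (h * b / 2) / 2)
  obtain ⟨B, hB⟩ := hgen ((m : F) * (h * b / 2) / 2)
  refine ⟨P, A, B, ?_⟩
  rw [cyclotomic_eq_minpoly_rat hζ hq.out.pos]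
  refine minpoly.dvd ℚ η ?_
  simp only [map_add, map_mul, map_pow, map_one, map_ofNat, hP, hA, hB]
  exact key

end CfsgLib.Perm.Zass
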