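import Cfsg.Agent.Lib.Perm.Zass.Complement
import Cfsg.Agent.Lib.Perm.Zass.LevelTwo

/-!
Non-solvable finite subgroups of division rings.
-/

namespace CfsgLib.Perm.Zass

open Polynomial

variable {D : Type*} [DivisionRing D] [CharZero D]

/-- Five-dimensional isotropy: four Clifford generators of type `A₄` do not exist. -/
theorem false_of_clifford {h₁ h₂ h₃ h₄ : D} (s1 : h₁ * h₁ = -1) (s2 : h₂ * h₂ = -1)
    (s3 : h₃ * h₃ = -1) (s4 : h₄ * h₄ = -1) (e12 : h₁ * h₂ + h₂ * h₁ = 1)
    (e23 : h₂ * h₃ + h₃ * h₂ = 1) (e34 : h₃ * h₄ + h₄ * h₃ = 1) (e13 : h₃ * h₁ = -(h₁ * h₃))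
    (e14 : h₄ * h₁ = -(h₁ * h₄)) (e24 : h₄ * h₂ = -(h₂ * h₄)) : False := by
  have r12 : h₂ * h₁ = 1 - h₁ * h₂ := eq_sub_of_add_eq' e12
  have r23 : h₃ * h₂ = 1 - h₂ * h₃ := eq_sub_of_add_eq' e23
  have r34 : h₄ * h₃ = 1 - h₃ * h₄ := eq_sub_of_add_eq' e34
  set c := h₁ + h₂ + h₂ + h₃ with hc
  set d := h₁ + (h₂ + h₂) + (h₃ + h₃ + h₃) + (h₄ + h₄ + h₄ + h₄) with hd
  have cc : c * c = (-2 : ℤ) • (1 : D) := by
    simp only [hc, add_mul, mul_add, s1, s2, s3, r12, r23, e13]; abel
  have dd : d * d = (-10 : ℤ) • (1 : D) := by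
    simp only [hd, add_mul, mul_add, s1, s2, s3, s4, r12, r23, r34, e13, e14, e24]; abel
  have ba : h₃ * h₁ = -(h₁ * h₃) := e13
  have ca : c * h₁ = -(h₁ * c) := by
    simp only [hc, add_mul, mul_add, s1, r12, e13]; abel
  have cb : c * h₃ = -(h₃ * c) := by
    simp only [hc, add_mul, mul_add, s3, r23, e13]; abel
  have da : d * h₁ = -(h₁ * d) := by
    simp only [hd, add_mul, mul_add, s1, r12, e13, e14]; abel
  have db : d * h₃ = -(h₃ * d) := by
    simp only [hd, add_mul, mul_add, s3, r23, r34, e13]; abel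
  have dc : d * c = -(c * d) := by
    simp only [hd, hc, add_mul, mul_add, s1, s2, s3, r12, r23, r34, e13, e14, e24]; abel
  -- normal forms for products
  have s1' : ∀ x, h₁ * (h₁ * x) = -x := fun x => by rw [← mul_assoc, s1, neg_one_mul]
  have s3' : ∀ x, h₃ * (h₃ * x) = -x := fun x => by rw [← mul_assoc, s3, neg_one_mul]
  have cc' : ∀ x, c * (c * x) = (-2 : ℤ) • x := fun x => by rw [← mul_assoc, cc, smul_mul_assoc, one_mul]
  have dd' : ∀ x, d * (d * x) = (-10 : ℤ) • x := fun x => by rw [← mul_assoc, dd, smul_mul_assoc, one_mul]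
  have ba' : ∀ x, h₃ * (h₁ * x) = -(h₁ * (h₃ * x)) := fun x => by rw [← mul_assoc, ba, neg_mul, mul_assoc]
  have ca' : ∀ x, c * (h₁ * x) = -(h₁ * (c * x)) := fun x => by rw [← mul_assoc, ca, neg_mul, mul_assoc]
  have cb' : ∀ x, c * (h₃ * x) = -(h₃ * (c * x)) := fun x => by rw [← mul_assoc, cb, neg_mul, mul_assoc]
  have da' : ∀ x, d * (h₁ * x) = -(h₁ * (d * x)) := fun x => by rw [← mul_assoc, da, neg_mul, mul_assoc]
  have db' : ∀ x, d * (h₃ * x) = -(h₃ * (d * x)) := fun x => by rw [← mul_assoc, db, neg_mul, mul_assoc]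
  have dc' : ∀ x, d * (c * x) = -(c * (d * x)) := fun x => by rw [← mul_assoc, dc, neg_mul, mul_assoc]
  set g := h₁ * (h₃ * (c * d)) with hg
  set x := (3 : ℤ) • h₁ + h₃ + d + g with hx
  have hx0 : x * x = 0 := by
    simp only [hx, hg, add_mul, mul_add, mul_assoc, smul_mul_assoc, mul_smul_comm, mul_neg,
      s1, s3, cc, dd, ba, ca, cb, da, db, dc, s1', s3', cc', dd', ba', ca', cb', da', db', dc',
      smul_neg, smul_add, smul_smul]
    abel
  have hxa : h₁ * x + x * h₁ = (-6 : ℤ) • (1 : D) := by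
    simp only [hx, hg, add_mul, mul_add, mul_assoc, smul_mul_assoc, mul_smul_comm, mul_neg,
      s1, s3, cc, dd, ba, ca, cb, da, db, dc, s1', s3', cc', dd', ba', ca', cb', da', db', dc',
      smul_neg, smul_add, smul_smul]
    abel
  have hx1 : x = 0 := mul_self_eq_zero.1 hx0
  rw [hx1, mul_zero, zero_mul, add_zero] at hxa
  simp at hxa

/-- A quaternion algebra over a field with `-1` a sum of two squares has no division embedding. -/
theorem false_of_three_squares {Y A B v j : D} (hv : v * v = -1) (hj : j * j = -1)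
    (hjv : j * v = -(v * j)) (hY : Commute v Y ∧ Commute j Y) (hA : Commute v A ∧ Commute j A)
    (hB : Commute v B ∧ Commute j B) (hYA : Commute Y A) (hYB : Commute Y B) (hAB : Commute A B)
    (hsum : Y * Y + A * A + B * B + 1 = 0) : False := by
  have vY' : ∀ x, v * (Y * x) = Y * (v * x) := fun x => hY.1.left_comm x
  have jY' : ∀ x, j * (Y * x) = Y * (j * x) := fun x => hY.2.left_comm x
  have vA' : ∀ x, v * (A * x) = A * (v * x) := fun x => hA.1.left_comm x
  have jA' : ∀ x, j * (A * x) = A * (j * x) := fun x => hA.2.left_comm x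
  have vB' : ∀ x, v * (B * x) = B * (v * x) := fun x => hB.1.left_comm x
  have jB' : ∀ x, j * (B * x) = B * (j * x) := fun x => hB.2.left_comm x
  have AY' : ∀ x, A * (Y * x) = Y * (A * x) := fun x => hYA.symm.left_comm x
  have BY' : ∀ x, B * (Y * x) = Y * (B * x) := fun x => hYB.symm.left_comm x
  have BA' : ∀ x, B * (A * x) = A * (B * x) := fun x => hAB.symm.left_comm x
  have vv' : ∀ x, v * (v * x) = -x := fun x => by rw [← mul_assoc, hv, neg_one_mul]
  have jj' : ∀ x, j * (j * x) = -x := fun x => by rw [← mul_assoc, hj, neg_one_mul]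
  have jv' : ∀ x, j * (v * x) = -(v * (j * x)) := fun x => by rw [← mul_assoc, hjv, neg_mul, mul_assoc]
  set p := Y * v + A * j + B * (v * j) with hp
  have hpp : p * p = 1 := by
    have h : p * p = -(Y * Y + A * A + B * B) := by
      simp only [hp, add_mul, mul_add, mul_assoc, mul_neg, mul_one, hv, hj, hjv, vY', jY', vA', jA',
        vB', jB', AY', BY', BA', vv', jj', jv', neg_neg, hY.1.eq, hY.2.eq, hA.1.eq, hA.2.eq, hB.1.eq,
        hB.2.eq, hYA.symm.eq, hYB.symm.eq, hAB.symm.eq]
      abel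
    rw [h, neg_eq_iff_eq_neg, ← add_eq_zero_iff_eq_neg, hsum]
  have hpc : ∀ z : D, p * z = z * p := fun z => by
    rcases mul_self_eq_one_iff.1 hpp with h | h <;> simp [h]
  have h1 := hpc j
  have h2 := hpc v
  have e1 : B * v + B * v = Y * (v * j) + Y * (v * j) := by
    simp only [hp, add_mul, mul_add, mul_assoc, mul_neg, mul_one, hv, hj, hjv, vY', jY', vA', jA',
      vB', jB', vv', jj', jv', neg_neg] at h1
    rw [← sub_eq_zero] at h1 ⊢
    rw [← neg_eq_zero, ← h1]; abel
  have e2 : A * (v * j) + A * (v * j) = B * j + B * j := by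
    simp only [hp, add_mul, mul_add, mul_assoc, mul_neg, mul_one, hv, hj, hjv, vY', jY', vA', jA',
      vB', jB', vv', jj', jv', neg_neg] at h2
    rw [← sub_eq_zero] at h2 ⊢
    rw [← neg_eq_zero, ← h2]; abel
  have h2ne : (2 : D) ≠ 0 := two_ne_zero
  rw [← two_mul, ← two_mul, mul_right_inj' h2ne] at e1 e2
  have hv0 : v ≠ 0 := by rintro rfl; simp at hv
  have hj0 : j ≠ 0 := by rintro rfl; simp at hj
  -- multiplying out
  have hBY : B = Y * j := by
    have h := e1
    rw [← hB.1.eq, ← vY'] at h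
    exact mul_left_cancel₀ hv0 h
  have hY0 : Y = 0 := by
    have h : v * B = B * v := hB.1
    rw [hBY, mul_assoc, hjv, vY', mul_neg, eq_neg_iff_add_eq_zero, ← two_mul, mul_eq_zero] at h
    rcases h with h | h
    · exact absurd h h2ne
    · exact (mul_eq_zero.1 h).resolve_right (mul_ne_zero hv0 hj0)
  have hB0 : B = 0 := by rw [hBY, hY0, zero_mul]
  have hA0 : A = 0 := by
    rw [hB0, zero_mul] at e2
    exact (mul_eq_zero.1 e2).resolve_right (mul_ne_zero hv0 hj0)
  rw [hp, hY0, hA0, hB0] at hpp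
  simp at hpp

/-- No element of odd prime order other than five commutes with a dicyclic group of order twenty. -/
theorem false_of_dicyclic {y j η : D} {q : ℕ} [hq : Fact q.Prime] (h2 : q ≠ 2) (h5 : q ≠ 5)
    (hy : y ^ 5 = 1) (hy1 : y ≠ 1) (hj : j * j = -1) (hjy : j * y = y ^ 4 * j) (hη : η ^ q = 1)
    (hη1 : η ≠ 1) (hyη : Commute y η) (hjη : Commute j η) : False := by
  obtain ⟨P, A, B, hdvd⟩ := exists_level_poly (q := q) h2 h5
  set c := y + y ^ 4 with hc
  set w := y - y ^ 4 with hw
  have hcy : Commute y c := (Commute.refl y).add_right (Commute.pow_right (Commute.refl y) 4)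
  have hgeom : 1 + y + y ^ 2 + y ^ 3 + y ^ 4 = 0 := by
    have h : (y - 1) * (1 + y + y ^ 2 + y ^ 3 + y ^ 4) = y ^ 5 - 1 := by noncomm_ring
    rw [hy, sub_self] at h
    exact (mul_eq_zero.1 h).resolve_left (sub_ne_zero.2 hy1)
  have h8 : y ^ 4 * y ^ 4 = y ^ 3 := by rw [← pow_add, show 4 + 4 = 5 + 3 from rfl, pow_add, hy, one_mul]
  have h55 : y * y ^ 4 = 1 := by rw [← pow_succ', hy]
  have h55' : y ^ 4 * y = 1 := by rw [← pow_succ, hy]
  have hcc : c * c + c = 1 := by
    have : c * c + c - 1 = 1 + y + y ^ 2 + y ^ 3 + y ^ 4 := by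
      simp only [hc, add_mul, mul_add, h8, h55, h55']
      rw [pow_two y]; abel
    rw [hgeom, sub_eq_zero] at this
    exact this
  have hww : w * w = c * c - 4 := by
    have h4 : (4 : D) = 1 + 1 + 1 + 1 := by norm_num
    rw [h4]
    simp only [hc, hw, add_mul, mul_add, sub_mul, mul_sub, h8, h55, h55']; abel
  set φ := c + 1 with hφ
  set δ := φ * φ + 1 with hδ
  have hwδ : w * w = -δ := by
    have h : c * c = 1 - c := eq_sub_of_add_eq hcc
    rw [hww, hδ, hφ]
    simp only [add_mul, mul_add, one_mul, mul_one, h]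
    rw [show (4 : D) = 1 + 1 + 1 + 1 by norm_num]
    abel
  have hw0 : w ≠ 0 := by
    rw [hw, sub_ne_zero]
    intro h
    have h3 : y ^ 3 = 1 := by
      have h' := congrArg (y⁻¹ * ·) h
      have hy0 : y ≠ 0 := by rintro rfl; simp at hy
      simpa [pow_succ', inv_mul_cancel₀ hy0, ← mul_assoc] using h'.symm
    apply hy1
    have : y ^ 2 = 1 := by
      have h' := hy
      rwa [show 5 = 3 + 2 from rfl, pow_add, h3, one_mul] at h'
    have h' := h3
    rwa [pow_succ, this, one_mul] at h'
  have hδ0 : δ ≠ 0 := fun h => hw0 (mul_self_eq_zero.1 (by rw [hwδ, h, neg_zero]))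
  have hjy4 : j * y ^ 4 = y * j := by
    have h := congrArg (fun z => y * z) hjy
    simp only [← mul_assoc, h55, one_mul] at h
    calc j * y ^ 4 = y * j * y * y ^ 4 := by rw [h]
      _ = y * j := by rw [mul_assoc, h55, mul_one]
  have hjc : Commute j c := by
    rw [Commute, SemiconjBy, hc, mul_add, add_mul, hjy, hjy4, add_comm]
  have hjw : j * w = -(w * j) := by
    rw [hw, mul_sub, sub_mul, hjy, hjy4, neg_sub]
  have hwc : Commute w c := hcy.sub_left (hcy.pow_left 4)
  have hjφ : Commute j φ := hjc.add_right (Commute.one_right j)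
  have hwφ : Commute w φ := hwc.add_right (Commute.one_right w)
  have hjδ : Commute j δ := (hjφ.mul_right hjφ).add_right (Commute.one_right j)
  have hwδc : Commute w δ := (hwφ.mul_right hwφ).add_right (Commute.one_right w)
  set u := w + φ * (w * j) with hu
  have huu : u * u = -(δ * δ) := by
    have e1 : ∀ x, w * (φ * x) = φ * (w * x) := fun x => hwφ.left_comm x
    have e2 : ∀ x, j * (φ * x) = φ * (j * x) := fun x => hjφ.left_comm x
    have e3 : ∀ x, j * (w * x) = -(w * (j * x)) := fun x => by rw [← mul_assoc, hjw, neg_mul, mul_assoc]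
    have e4 : ∀ x, w * (w * x) = -(δ * x) := fun x => by rw [← mul_assoc, hwδ, neg_mul]
    have e5 : ∀ x, φ * (δ * x) = δ * (φ * x) := fun x =>
      (((Commute.refl φ).mul_right (Commute.refl φ)).add_right (Commute.one_right φ)).left_comm x
    have h : u * u = -δ - δ * (φ * φ) := by
      simp only [hu, add_mul, mul_add, mul_assoc, mul_neg, mul_one, hj, hjw, hwδ, e1, e2, e3, e4, neg_neg]
      have e6 : φ * δ = δ * φ :=
        (((Commute.refl φ).mul_right (Commute.refl φ)).add_right (Commute.one_right φ)).eq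
      simp only [e5, e6]
      abel
    rw [h, show δ * (φ * φ) = δ * δ - δ by rw [hδ]; noncomm_ring]
    abel
  set v := δ⁻¹ * u with hv
  have huδ : Commute u δ := by
    refine hwδc.add_left (Commute.mul_left ?_ (hwδc.mul_left hjδ))
    exact ((Commute.refl φ).mul_right (Commute.refl φ)).add_right (Commute.one_right φ)
  have hvv : v * v = -1 := by
    rw [hv, mul_assoc, ← mul_assoc u, (huδ.inv_right₀).eq, mul_assoc, huu, ← mul_assoc, mul_neg,
      mul_assoc, inv_mul_cancel_left₀ hδ0, inv_mul_cancel₀ hδ0]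
  have hjv : j * v = -(v * j) := by
    have e3 : j * (φ * (w * j)) = -(φ * (w * j) * j) := by
      rw [hjφ.left_comm, ← mul_assoc j w, hjw, neg_mul, mul_neg, mul_assoc φ]
    have e : j * u = -(u * j) := by rw [hu, mul_add j, hjw, e3, add_mul w, neg_add]
    rw [hv, hjδ.inv_right₀.left_comm, e, mul_neg, mul_assoc]
  -- the polynomial values
  have hwη : Commute w η := hyη.sub_left (hyη.pow_left 4)
  have hcη : Commute c η := hyη.add_left (hyη.pow_left 4)
  have hval : ∀ Q : ℚ[X], ∀ z : D, Commute z η → Commute z (aeval η Q) := by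
    intro Q z hz
    induction Q using Polynomial.induction_on' with
    | add a b ha hb => rw [map_add]; exact ha.add_right hb
    | monomial n a => rw [aeval_monomial]; exact (show Commute z (algebraMap ℚ D a) from (Algebra.commutes a z).symm).mul_right (hz.pow_right n)
  have hηQ : ∀ Q R : ℚ[X], Commute (aeval η Q) (aeval η R) := fun Q R =>
    hval R _ ((hval Q η (Commute.refl η)).symm)
  have hφη : Commute φ η := hcη.add_left (Commute.one_left η)
  have hvη : Commute v η := by
    have hδη : Commute δ η := (hφη.mul_left hφη).add_left (Commute.one_left η)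
    exact hδη.inv_left₀.mul_left (hwη.add_left (hφη.mul_left (hwη.mul_left hjη)))
  have hvc : Commute v c := by
    have hφc : Commute φ c := (Commute.refl c).add_left (Commute.one_left c)
    have hδc : Commute δ c := (hφc.mul_left hφc).add_left (Commute.one_left c)
    exact hδc.inv_left₀.mul_left (hwc.add_left (hφc.mul_left (hwc.mul_left hjc)))
  set s := c + c + 1 with hs
  have hss : s * s = (5 : D) := by
    have : s * s = 4 • (c * c + c) + 1 := by rw [hs]; noncomm_ring
    rw [this, hcc]; norm_num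
  have hsQ : ∀ Q : ℚ[X], Commute s (aeval η Q) := fun Q => hval Q s ((hcη.add_left hcη).add_left (Commute.one_left η))
  have hjs : Commute j s := (hjc.add_right hjc).add_right (Commute.one_right j)
  have hvs : Commute v s := (hvc.add_right hvc).add_right (Commute.one_right v)
  have hroot : aeval η (cyclotomic q ℚ) = 0 := by
    have h := congrArg (aeval η) (cyclotomic_prime_mul_X_sub_one ℚ q)
    rw [map_mul, map_sub, map_sub, map_pow, aeval_X, map_one, hη, sub_self, mul_eq_zero] at h
    exact h.resolve_right (sub_ne_zero.2 hη1)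
  obtain ⟨R, hR⟩ := hdvd
  have hkey := congrArg (aeval η) hR
  simp only [map_add, map_mul, map_one, map_pow, map_ofNat, hroot, zero_mul] at hkey
  set P' := aeval η P
  set A' := aeval η A
  set B' := aeval η B
  have hAB : Commute A' B' := hηQ A B
  refine false_of_three_squares (Y := P') (A := A' + s * B') (B := A' - s * B') hvv hj hjv
    ⟨hval P v hvη, hval P j hjη⟩
    ⟨(hval A v hvη).add_right (hvs.mul_right (hval B v hvη)),
      (hval A j hjη).add_right (hjs.mul_right (hval B j hjη))⟩
    ⟨(hval A v hvη).sub_right (hvs.mul_right (hval B v hvη)),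
      (hval A j hjη).sub_right (hjs.mul_right (hval B j hjη))⟩
    ((hηQ P A).add_right ((hsQ P).symm.mul_right (hηQ P B)))
    ((hηQ P A).sub_right ((hsQ P).symm.mul_right (hηQ P B))) ?_ ?_
  · refine Commute.add_left ?_ ?_
    · exact (Commute.refl A').sub_right ((hsQ A).symm.mul_right hAB)
    · exact ((hsQ A).mul_left hAB.symm).sub_right (Commute.refl _)
  · have e : (s * B') * (s * B') = 5 * (B' * B') := by
      rw [mul_assoc, ← mul_assoc B', ← (hsQ B).eq, mul_assoc, ← mul_assoc, hss]
    calc P' * P' + (A' + s * B') * (A' + s * B') + (A' - s * B') * (A' - s * B') + 1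
        = P' * P' + 2 • (A' * A') + 2 • ((s * B') * (s * B')) + 1 := by noncomm_ring
      _ = P' ^ 2 + 2 * A' ^ 2 + 10 * B' ^ 2 + 1 := by
        rw [e, two_nsmul, two_nsmul, pow_two, pow_two, pow_two, two_mul, ← add_mul (5 : D)]
        norm_num
      _ = 0 := hkey

theorem exists_dicyclic_SL_five : ∃ y j : Matrix.SpecialLinearGroup (Fin 2) (ZMod 5),
    y ^ 5 = 1 ∧ y ≠ 1 ∧ j * j ≠ 1 ∧ (j * j) * (j * j) = 1 ∧ j * y = y ^ 4 * j :=
  ⟨⟨!![1, 1; 0, 1], by decide⟩, ⟨!![2, 0; 0, 3], by decide⟩, by decide,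
    fun h => absurd (congrFun (congrFun (congrArg Subtype.val h) 0) 1) (by decide),
    fun h => absurd (congrFun (congrFun (congrArg Subtype.val h) 0) 0) (by decide), by decide, by decide⟩

omit [CharZero D] in
theorem exists_normalised {a b : D} (hb : b * b = -1) (h : a * b + b * a = 1 ∨ a * b + b * a = -1) :
    ∃ b', (b' = b ∨ b' = -b) ∧ b' * b' = -1 ∧ a * b' + b' * a = 1 := by
  rcases h with h | h
  · exact ⟨b, Or.inl rfl, hb, h⟩
  · exact ⟨-b, Or.inr rfl, by rw [neg_mul_neg, hb], by rw [mul_neg, neg_mul, ← neg_add, h, neg_neg]⟩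

/-- A non-solvable finite subgroup of a division ring of characteristic zero is `SL(2,5)`. -/
theorem mulEquiv_SL_five_of_divisionRing (H : Subgroup Dˣ) [Finite H] (hns : ¬ Group.IsSolvable H)
    (hrep : HasIntFpf H) : Nonempty (H ≃* Matrix.SpecialLinearGroup (Fin 2) (ZMod 5)) := by
  obtain ⟨n, ρ, hρ⟩ := hrep.exists_fpf (AlgebraicClosure ℚ)
  obtain ⟨R, Φ, -, ⟨eR⟩, hker, hmap, hcard⟩ := exists_perm_five hρ hns
  let val : H →* D := (Units.coeHom D).comp H.subtype
  have hval : Function.Injective val := fun a b h => Subtype.ext (Units.ext h)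
  have hneg : ∀ h : H, h * h = 1 → h ≠ 1 → val h = -1 := fun h h1 h2 => by
    refine (mul_self_eq_one_iff.1 (by rw [← map_mul, h1, map_one])).resolve_left fun e => ?_
    exact h2 (hval (e.trans (map_one val).symm))
  obtain ⟨y₀, j₀, hy5, hy1, hjj, hj4, hjy⟩ := exists_dicyclic_SL_five
  let emb : Matrix.SpecialLinearGroup (Fin 2) (ZMod 5) →* H := R.subtype.comp eR.symm.toMonoidHom
  have hemb : Function.Injective emb := R.subtype_injective.comp eR.symm.injective
  set C := Subgroup.centralizer (R : Set H) with hC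
  -- the centraliser has order two
  have hC2 : Nat.card C = 2 := by
    have h2 : 2 ∣ Nat.card C := hcard ▸ Subgroup.card_dvd_of_le inf_le_right
    obtain ⟨k, hk⟩ := h2
    by_contra hne
    have hk1 : k ≠ 1 := fun h => hne (by rw [hk, h])
    obtain ⟨q, hq, hqk⟩ := Nat.exists_prime_and_dvd hk1
    have := Fact.mk hq
    have hq2 : q ≠ 2 := by
      rintro rfl
      obtain ⟨k', rfl⟩ := hqk
      exact centralizer_not_dvd_four hρ eR hcard ⟨k', by rw [hk]; ring⟩
    obtain ⟨η, hη⟩ := exists_prime_orderOf_dvd_card' q (show q ∣ Nat.card C from hk ▸ dvd_mul_of_dvd_right hqk 2)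
    rw [← Subgroup.orderOf_coe] at hη
    have hηq : (η : H) ^ q = 1 := hη ▸ pow_orderOf_eq_one _
    have hη1 : (η : H) ≠ 1 := fun h => hq.one_lt.ne (by rw [← hη, h, orderOf_one])
    have hcomm : ∀ g, Commute (emb g) (η : H) := fun g =>
      (Subgroup.mem_centralizer_iff.1 η.2 _ (eR.symm g).2)
    have hq5 : q ≠ 5 := by
      rintro rfl
      have hy' : emb y₀ ≠ 1 := fun h => hy1 (hemb (h.trans (map_one emb).symm))
      have hmem : emb y₀ ∈ Subgroup.zpowers (η : H) := mem_zpowers_of_commute hρ (p := 5) hηq hη1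
        (by rw [← map_pow, hy5, map_one]) (hcomm y₀)
      have hin : emb y₀ ∈ R ⊓ C := ⟨(eR.symm y₀).2, Subgroup.zpowers_le.2 η.2 hmem⟩
      have hd := Subgroup.orderOf_dvd_natCard _ hin
      rw [orderOf_eq_prime (by rw [← map_pow, hy5, map_one]) hy', hcard] at hd
      norm_num at hd
    refine false_of_dicyclic (y := val (emb y₀)) (j := val (emb j₀)) (η := val η) hq2 hq5 ?_ ?_ ?_ ?_ ?_ ?_
      ((hcomm y₀).map val) ((hcomm j₀).map val)
    · rw [← map_pow, ← map_pow, hy5, map_one, map_one]
    · exact fun h => hy1 (hemb (hval (h.trans (by rw [map_one, map_one]))))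
    · rw [← map_mul, ← map_mul]
      exact hneg _ (by rw [← map_mul, hj4, map_one]) fun h => hjj (hemb (h.trans (map_one emb).symm))
    · rw [← map_pow, ← map_pow, ← map_mul, ← map_mul, ← map_mul, ← map_mul, hjy]
    · rw [← map_pow, hηq, map_one]
    · exact fun h => hη1 (hval (h.trans (map_one val).symm))
  -- lifts of transpositions
  have hC' : ∀ h : H, Φ h = 1 → val h = 1 ∨ val h = -1 := by
    intro h hh
    have hmem : h ∈ C := hker ▸ MonoidHom.mem_ker.2 hh
    rcases eq_or_ne h 1 with rfl | hne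
    · exact Or.inl (map_one val)
    · have hd : orderOf h ∣ 2 := hC2 ▸ C.orderOf_dvd_natCard hmem
      exact Or.inr (hneg h (by rw [← pow_two]; exact orderOf_dvd_iff_pow_eq_one.1 hd) hne)
  have hval' : ∀ h : H, val h = 1 ∨ val h = -1 → Φ h = 1 := by
    intro h hh
    have : h ∈ C := by
      rw [hC, Subgroup.mem_centralizer_iff]
      intro r _
      apply hval
      rcases hh with e | e <;> simp [map_mul, e]
    rw [← MonoidHom.mem_ker, hker]; exact this
  have hsq : ∀ h : H, Φ h * Φ h = 1 → Φ h ≠ 1 → val h * val h = -1 := by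
    intro h h1 h2
    rcases hC' (h * h) (by rw [map_mul, h1]) with e | e
    · exfalso
      rw [map_mul] at e
      exact h2 (hval' h (mul_self_eq_one_iff.1 e))
    · rwa [map_mul] at e
  have hdist : ∀ g h : H, Φ g * Φ g = 1 → Φ g ≠ 1 → Φ h * Φ h = 1 → Φ h ≠ 1 →
      Φ g * Φ h = Φ h * Φ g → Φ g * Φ h ≠ 1 → val h * val g = -(val g * val h) := by
    intro g h g1 g2 h1 h2 hc hne
    have hg := hsq g g1 g2
    have hh := hsq h h1 h2
    rcases hC' (g * h * (h * g)⁻¹) (by rw [map_mul, map_inv, map_mul, map_mul, hc, mul_inv_cancel]) with e | e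
    · exfalso
      have hgh : g * h = h * g := mul_inv_eq_one.1 (hval (e.trans (map_one val).symm))
      refine hne ((map_mul Φ g h).symm.trans (hval' _ (mul_self_eq_one_iff.1 ?_)))
      rw [map_mul]
      have hc' : val h * val g = val g * val h := by rw [← map_mul, ← map_mul, hgh]
      calc val g * val h * (val g * val h) = val g * (val h * val g) * val h := by simp only [mul_assoc]
        _ = val g * val g * (val h * val h) := by rw [hc']; simp only [mul_assoc]
        _ = 1 := by rw [hg, hh, neg_mul_neg, one_mul]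
    · have e' : val (g * h) = val (g * h * (h * g)⁻¹) * val (h * g) := by
        rw [← map_mul, inv_mul_cancel_right]
      rw [e, neg_one_mul, map_mul, map_mul] at e'
      rw [e', neg_neg]
  have hadj : ∀ g h : H, Φ g * Φ g = 1 → Φ g ≠ 1 → Φ h * Φ h = 1 → Φ h ≠ 1 →
      (Φ g * Φ h) ^ 3 = 1 → Φ g * Φ h ≠ 1 →
        val g * val h + val h * val g = 1 ∨ val g * val h + val h * val g = -1 := by
    intro g h g1 g2 h1 h2 h3 hne
    have hg := hsq g g1 g2
    have hh := hsq h h1 h2
    set z := val g * val h with hz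
    have hne1 : z ≠ 1 ∧ z ≠ -1 := ⟨fun e => hne ((map_mul Φ g h).symm.trans
      (hval' _ (Or.inl (by rw [map_mul]; exact e)))), fun e => hne ((map_mul Φ g h).symm.trans
      (hval' _ (Or.inr (by rw [map_mul]; exact e))))⟩
    have hinv : z * (val h * val g) = 1 := by
      rw [hz, mul_assoc, ← mul_assoc (val h), hh, neg_one_mul, mul_neg, hg, neg_neg]
    have hz0 : z ≠ 0 := left_ne_zero_of_mul_eq_one hinv
    rcases hC' ((g * h) ^ 3) (by rw [map_pow, map_mul, h3]) with e | e <;> rw [map_pow, map_mul, ← hz] at e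
    · right
      have hf : (z - 1) * (z * z + z + 1) = 0 := by
        have : (z - 1) * (z * z + z + 1) = z ^ 3 - 1 := by noncomm_ring
        rw [this, e, sub_self]
      have hq : z * z + z + 1 = 0 := (mul_eq_zero.1 hf).resolve_left (sub_ne_zero.2 hne1.1)
      refine mul_left_cancel₀ hz0 ?_
      rw [mul_add, hinv, mul_neg, mul_one, eq_neg_iff_add_eq_zero]
      rw [← hq]; abel
    · left
      have hf : (z + 1) * (z * z - z + 1) = 0 := by
        have : (z + 1) * (z * z - z + 1) = z ^ 3 + 1 := by noncomm_ring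
        rw [this, e, neg_add_cancel]
      have hq : z * z - z + 1 = 0 :=
        (mul_eq_zero.1 hf).resolve_left fun h' => hne1.2 (eq_neg_of_add_eq_zero_left h')
      refine mul_left_cancel₀ hz0 ?_
      rw [mul_add, hinv, mul_one, ← sub_eq_zero]
      rw [← hq]; abel
  rcases eq_or_ne Φ.range ⊤ with htop | htop
  · exfalso
    have hsurj := MonoidHom.range_eq_top.1 htop
    obtain ⟨g₁, k1⟩ := hsurj (Equiv.swap 0 1)
    obtain ⟨g₂, k2⟩ := hsurj (Equiv.swap 1 2)
    obtain ⟨g₃, k3⟩ := hsurj (Equiv.swap 2 3)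
    obtain ⟨g₄, k4⟩ := hsurj (Equiv.swap 3 4)
    have s1 := hsq g₁ (by rw [k1]; decide) (by rw [k1]; decide)
    have s2 := hsq g₂ (by rw [k2]; decide) (by rw [k2]; decide)
    have s3 := hsq g₃ (by rw [k3]; decide) (by rw [k3]; decide)
    have s4 := hsq g₄ (by rw [k4]; decide) (by rw [k4]; decide)
    have e13 := hdist g₁ g₃ (by rw [k1]; decide) (by rw [k1]; decide) (by rw [k3]; decide)
      (by rw [k3]; decide) (by rw [k1, k3]; decide) (by rw [k1, k3]; decide)
    have e14 := hdist g₁ g₄ (by rw [k1]; decide) (by rw [k1]; decide) (by rw [k4]; decide)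
      (by rw [k4]; decide) (by rw [k1, k4]; decide) (by rw [k1, k4]; decide)
    have e24 := hdist g₂ g₄ (by rw [k2]; decide) (by rw [k2]; decide) (by rw [k4]; decide)
      (by rw [k4]; decide) (by rw [k2, k4]; decide) (by rw [k2, k4]; decide)
    obtain ⟨b₂, hb2, q2, a12⟩ := exists_normalised s2 (hadj g₁ g₂ (by rw [k1]; decide) (by rw [k1]; decide)
      (by rw [k2]; decide) (by rw [k2]; decide) (by rw [k1, k2]; decide) (by rw [k1, k2]; decide))
    obtain ⟨b₃, hb3, q3, a23⟩ := exists_normalised (a := b₂) s3 (by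
      have h := hadj g₂ g₃ (by rw [k2]; decide) (by rw [k2]; decide) (by rw [k3]; decide)
        (by rw [k3]; decide) (by rw [k2, k3]; decide) (by rw [k2, k3]; decide)
      rcases hb2 with rfl | rfl
      · exact h
      · rw [neg_mul, mul_neg, ← neg_add, neg_eq_iff_eq_neg, neg_inj]; exact h.symm)
    obtain ⟨b₄, hb4, q4, a34⟩ := exists_normalised (a := b₃) s4 (by
      have h := hadj g₃ g₄ (by rw [k3]; decide) (by rw [k3]; decide) (by rw [k4]; decide)
        (by rw [k4]; decide) (by rw [k3, k4]; decide) (by rw [k3, k4]; decide)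
      rcases hb3 with rfl | rfl
      · exact h
      · rw [neg_mul, mul_neg, ← neg_add, neg_eq_iff_eq_neg, neg_inj]; exact h.symm)
    refine false_of_clifford s1 q2 q3 q4 a12 a23 a34 ?_ ?_ ?_
    · rcases hb3 with rfl | rfl <;> simp [e13]
    · rcases hb4 with rfl | rfl <;> simp [e14]
    · rcases hb2 with rfl | rfl <;> rcases hb4 with rfl | rfl <;> simp [e24]
  · have hrange : Φ.range = alternatingGroup (Fin 5) := by
      have hA : alternatingGroup (Fin 5) ≤ Φ.range := by
        rw [← hmap]; exact Subgroup.map_le_range Φ R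
      have hd := Subgroup.relIndex_mul_index hA
      rw [alternatingGroup.index_eq_two] at hd
      rcases (Nat.dvd_prime Nat.prime_two).1 (Dvd.intro_left _ hd) with h1 | h1
      · exact absurd (Subgroup.index_eq_one.1 h1) htop
      · rw [h1] at hd
        exact le_antisymm (Subgroup.relIndex_eq_one.1 (by omega)) hA
    have hH : Nat.card H = 120 := by
      have h := Subgroup.card_mul_index Φ.ker
      rw [Subgroup.index_ker, hrange, hker, hC2, nat_card_alternatingGroup, Nat.card_fin,
        show Nat.factorial 5 / 2 = 60 from rfl] at h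
      exact h.symm
    have hR : R = ⊤ := Subgroup.eq_top_of_card_eq R (by rw [Nat.card_congr eR.toEquiv, card_SL_five, hH])
    exact ⟨(Subgroup.topEquiv.symm.trans (MulEquiv.subgroupCongr hR.symm)).trans eR⟩

end CfsgLib.Perm.Zass
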