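import Cfsg.Agent.Lib.Perm.Zass.Plane
import Cfsg.Agent.Lib.Perm.Zass.SLFive
import Cfsg.Agent.Lib.Transfer.QuaternionComplement
import Cfsg.Agent.Lib.FgsC.Basic

/-!
Zassenhaus: a perfect fixed-point-free group is `SL(2,5)`.
-/

namespace CfsgLib.Perm.Zass

open Subgroup
open scoped commutatorElement

section general

variable {G : Type*} [Group G]

theorem conj_mem_center_of_perfect (hperf : commutator G = ⊤) {x : G}
    (h : ∀ g : G, g * x * g⁻¹ ∈ zpowers x) : x ∈ center G := by
  have key : commutator G ≤ centralizer ({x} : Set G) := by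
    rw [commutator_eq_closure, Subgroup.closure_le]
    rintro _ ⟨g, g', rfl⟩
    obtain ⟨a, ha⟩ := mem_zpowers_iff.1 (h g⁻¹)
    obtain ⟨b, hb⟩ := mem_zpowers_iff.1 (h g'⁻¹)
    have conj : ∀ (g g' : G) (a b : ℤ), x ^ a = g * x * g⁻¹ → x ^ b = g' * x * g'⁻¹ →
        g * g' * x * (g * g')⁻¹ = x ^ (a * b) := by
      intro g g' a b ha hb
      rw [zpow_mul, ha, conj_zpow, hb]
      group
    have e := (conj _ _ a b ha hb).trans ((mul_comm a b) ▸ (conj _ _ b a hb ha).symm)
    rw [SetLike.mem_coe, mem_centralizer_singleton_iff, commutatorElement_def]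
    calc g * g' * g⁻¹ * g'⁻¹ * x
        = g * g' * (g⁻¹ * g'⁻¹ * x * (g⁻¹ * g'⁻¹)⁻¹) * (g⁻¹ * g'⁻¹) := by group
      _ = g * g' * (g'⁻¹ * g⁻¹ * x * (g'⁻¹ * g⁻¹)⁻¹) * (g⁻¹ * g'⁻¹) := by rw [e]
      _ = x * (g * g' * g⁻¹ * g'⁻¹) := by group
  rw [mem_center_iff]
  intro g
  exact mem_centralizer_singleton_iff.1 (key (hperf ▸ mem_top g))

theorem subsingleton_of_perfect_solvable (hperf : commutator G = ⊤) [Group.IsSolvable G] :
    Subsingleton G := by
  by_contra h
  have : Nontrivial G := not_subsingleton_iff_nontrivial.1 h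
  exact (Group.IsSolvable.commutator_lt_top_of_nontrivial G).ne hperf

theorem eq_one_of_perfect_solvable {H : Type*} [Group H] [Group.IsSolvable H]
    (hperf : commutator G = ⊤) (f : G →* H) : f = 1 := by
  have : Group.IsSolvable f.range := Group.isSolvable_of_isSolvable_injective f.range.subtype_injective
  have hp : commutator f.range = ⊤ := by
    rw [commutator_def, ← map_top_of_surjective f.rangeRestrict f.rangeRestrict_surjective,
      ← map_commutator, ← commutator_def, hperf]
  have := subsingleton_of_perfect_solvable hp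
  ext g
  exact congrArg Subtype.val (Subsingleton.elim (f.rangeRestrict g) 1)

end general

variable {G : Type*} [Group G] [Finite G] {k : Type*} [Field k] [IsAlgClosed k] {V : Type*}
  [AddCommGroup V] [Module k V] [FiniteDimensional k V] [Nontrivial V] {ρ : G →* Module.End k V}

theorem mem_zpowers_of_commute (hρ : Fpf ρ) {p : ℕ} [hp : Fact p.Prime] {y z : G} (hz : z ^ p = 1)
    (hz1 : z ≠ 1) (hy : y ^ p = 1) (hc : y * z = z * y) : y ∈ zpowers z := by
  classical
  obtain ⟨w, -, hw, hws⟩ := exists_common_eigen ({ρ z, ρ y} : Finset (Module.End k V)) (by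
    intro f hf g hg
    simp only [Finset.mem_insert, Finset.mem_singleton] at hf hg
    rcases hf with rfl | rfl <;> rcases hg with rfl | rfl
    · rfl
    · rw [← map_mul, ← map_mul, hc]
    · rw [← map_mul, ← map_mul, hc]
    · rfl) ⊤ top_ne_bot (fun _ _ _ _ => Submodule.mem_top)
  obtain ⟨ζ, hζ⟩ := hws (ρ z) (by simp)
  obtain ⟨η, hη⟩ := hws (ρ y) (by simp)
  have pw : ∀ (g : G) (c : k) (n : ℕ), ρ g w = c • w → ρ (g ^ n) w = c ^ n • w := by
    intro g c n h
    induction n with
    | zero => simp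
    | succ n ih => rw [pow_succ, map_mul, Module.End.mul_apply, h, map_smul, ih, smul_smul, pow_succ']
  have root : ∀ (g : G) (c : k), g ^ p = 1 → ρ g w = c • w → c ^ p = 1 := by
    intro g c hg h
    have h' := pw g c p h
    rw [hg, map_one, Module.End.one_apply] at h'
    exact (smul_left_injective k hw ((one_smul k w).trans h')).symm
  have hζ1 : ζ ≠ 1 := fun h => hz1 (hρ z w hw (by rw [hζ, h, one_smul]))
  have hprim : IsPrimitiveRoot ζ p := by
    rw [IsPrimitiveRoot.iff_orderOf]
    exact orderOf_eq_prime (root z ζ hz hζ) hζ1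
  have : NeZero p := ⟨hp.out.ne_zero⟩
  obtain ⟨j, -, hj⟩ := hprim.eq_pow_of_pow_eq_one (root y η hy hη)
  have hfix : ρ ((z ^ j)⁻¹ * y) w = w := by
    rw [map_mul, Module.End.mul_apply, hη, ← hj, ← pw z ζ j hζ, ← Module.End.mul_apply, ← map_mul,
      inv_mul_cancel, map_one, Module.End.one_apply]
  rw [← inv_mul_eq_one.1 (hρ _ w hw hfix)]
  exact npow_mem_zpowers z j

theorem pgroup_cases (hρ : Fpf ρ) {p : ℕ} [hp : Fact p.Prime] {P : Subgroup G} (hP : IsPGroup p P) :
    IsCyclic P ∨ (p = 2 ∧ ∃ n : ℕ, 1 ≤ n ∧ Nonempty (P ≃* QuaternionGroup (2 ^ n))) := by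
  rcases eq_or_ne P ⊥ with hbot | hne
  · subst hbot; exact Or.inl isCyclic_of_subsingleton
  have : Nontrivial P := (nontrivial_iff_ne_bot P).2 hne
  have hcn := hP.center_nontrivial
  obtain ⟨k', hk'⟩ := IsPGroup.iff_card.1 (hP.to_subgroup (center P))
  have hd : p ∣ Nat.card (center P) := by
    rcases k' with _ | k'
    · have := Finite.one_lt_card (α := center P)
      rw [hk'] at this
      simp at this
    · rw [hk']; exact dvd_pow_self p (Nat.succ_ne_zero _)
  obtain ⟨⟨z, hzc⟩, hz⟩ := exists_prime_orderOf_dvd_card' p hd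
  rw [Subgroup.orderOf_mk] at hz
  have hzp : z ^ p = 1 := hz ▸ pow_orderOf_eq_one z
  have hz1 : (z : G) ≠ 1 := fun h => by
    rw [show z = 1 from Subtype.ext h, orderOf_one] at hz
    exact hp.out.one_lt.ne hz
  refine CfsgLib.PGroups.isCyclic_or_quaternion_of_unique hP hzp fun y hy => ?_
  obtain ⟨m, hm⟩ := mem_zpowers_iff.1 (mem_zpowers_of_commute hρ (p := p)
    (y := (y : G)) (z := (z : G)) (congrArg Subtype.val hzp) hz1 (congrArg Subtype.val hy)
    (congrArg Subtype.val (mem_center_iff.1 hzc y)))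
  exact mem_zpowers_iff.2 ⟨m, Subtype.ext hm⟩

theorem isZGroup_of_odd (hρ : Fpf ρ) (hodd : ¬ 2 ∣ Nat.card G) : IsZGroup G := ⟨fun p hp P => by
  have := Fact.mk hp
  rcases pgroup_cases hρ P.2 with h | ⟨rfl, n, hn, ⟨e⟩⟩
  · exact h
  · exfalso
    apply hodd
    have h4 : Nat.card (P : Subgroup G) = 4 * 2 ^ n := by
      rw [Nat.card_congr e.toEquiv, Nat.card_eq_fintype_card, QuaternionGroup.card]
    exact (dvd_mul_of_dvd_left (by norm_num) _).trans (h4 ▸ card_subgroup_dvd_card _)⟩

theorem order_facts (hρ : Fpf ρ) (hperf : commutator G = ⊤) [Nontrivial G] :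
    3 ∣ Nat.card G ∧ ∃ τ : G, ρ τ = -1 ∧ τ ≠ 1 ∧ τ * τ = 1 ∧ (2 : k) ≠ 0 := by
  have : Fact (Nat.Prime 2) := ⟨Nat.prime_two⟩
  have nz : ¬ IsZGroup G := fun h => by
    have := subsingleton_of_perfect_solvable hperf
    exact not_subsingleton G this
  obtain ⟨P⟩ := (inferInstance : Nonempty (Sylow 2 G))
  rcases pgroup_cases hρ P.2 with hcyc | ⟨-, n, hn, he⟩
  · exfalso
    refine nz ⟨fun p hp Q => ?_⟩
    have := Fact.mk hp
    rcases pgroup_cases hρ Q.2 with h | ⟨rfl, m, hm, -⟩
    · exact h
    · obtain ⟨g, hg⟩ := MulAction.exists_smul_eq G P Q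
      rw [← hg]
      exact isCyclic_of_surjective _ (P.equiv ((g • P))).surjective
  have h2 : 2 ∣ Nat.card G := by
    obtain ⟨e⟩ := he
    have h4 : Nat.card (P : Subgroup G) = 4 * 2 ^ n := by
      rw [Nat.card_congr e.toEquiv, Nat.card_eq_fintype_card, QuaternionGroup.card]
    exact (dvd_mul_of_dvd_left (by norm_num) _).trans (h4 ▸ card_subgroup_dvd_card _)
  constructor
  · rcases CfsgLib.Transfer.hasNormalPComplement_or_slTwoThree P n he with h | ⟨H, K, _, ⟨e⟩⟩
    · exfalso
      obtain ⟨S, N, hN, hcompl⟩ := h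
      have hS : IsPGroup 2 (G ⧸ N) :=
        S.2.of_equiv (Subgroup.IsComplement'.QuotientMulEquiv hcompl.symm).symm
      have : Group.IsNilpotent (G ⧸ N) := hS.isNilpotent
      have hN1 := eq_one_of_perfect_solvable hperf (QuotientGroup.mk' N)
      have hNtop : N = ⊤ := by
        rw [← QuotientGroup.ker_mk' N, hN1, MonoidHom.ker_one]
      have hS1 : Nat.card (S : Subgroup G) = 1 := by
        have := hcompl.card_mul
        rw [hNtop, card_top] at this
        exact Nat.eq_of_mul_eq_mul_left Nat.card_pos (this.trans (mul_one _).symm)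
      have hSne := S.ne_bot_of_dvd_card h2
      exact hSne (eq_bot_of_card_eq _ hS1)
    · have h24 : Nat.card (H ⧸ K.subgroupOf H) = 24 := by
        rw [Nat.card_congr e.toEquiv, CfsgLib.Transfer.card_slTwoThree]
      have hd : 24 ∣ Nat.card H := h24 ▸ card_quotient_dvd_card _
      exact ((by norm_num : 3 ∣ 24).trans hd).trans (card_subgroup_dvd_card H)
  · obtain ⟨τ, hτ⟩ := exists_prime_orderOf_dvd_card' 2 h2
    have hτ2 : τ * τ = 1 := by rw [← pow_two, ← hτ, pow_orderOf_eq_one]
    have hτ1 : τ ≠ 1 := fun h => by rw [h, orderOf_one] at hτ; exact absurd hτ (by norm_num)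
    exact ⟨τ, hρ.map_sq_eq_one hτ2 hτ1, hτ1, hτ2, by exact_mod_cast hρ.natCast_ne_zero h2⟩

theorem exists_pair (hρ : Fpf ρ) (hperf : commutator G = ⊤) (h3 : 3 ∣ Nat.card G) :
    ∃ x y : G, x ^ 3 = 1 ∧ y ^ 3 = 1 ∧ x * y ≠ y * x ∧
      (∀ z : G, z ^ 3 = 1 → z ∈ center G → z = 1) := by
  have : Fact (Nat.Prime 3) := ⟨Nat.prime_three⟩
  have hcent : ∀ z : G, z ^ 3 = 1 → z ∈ center G → z = 1 := by
    intro z hz hzc
    obtain ⟨P⟩ := (inferInstance : Nonempty (Sylow 3 G))
    have hzP : z ∈ (P : Subgroup G) := by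
      have hzp : IsPGroup 3 (zpowers z) := by
        rcases eq_or_ne z 1 with rfl | hz1
        · rw [zpowers_one_eq_bot]; exact IsPGroup.of_bot
        · exact IsPGroup.of_card (p := 3) (n := 1)
            (by rw [Nat.card_zpowers, orderOf_eq_prime hz hz1, pow_one])
      have : (zpowers z).Normal := ⟨fun a ha g => by
        have := (zpowers_le.2 hzc) ha
        rwa [mem_center_iff.1 this g, mul_inv_cancel_right]⟩
      exact (hzp.le_sylow_of_normal P) (mem_zpowers z)
    have hcyc : IsCyclic (P : Subgroup G) := by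
      rcases pgroup_cases hρ P.2 with h | ⟨h, -⟩
      · exact h
      · norm_num at h
    have hab : IsMulCommutative (P : Subgroup G) := inferInstance
    have h := CfsgLib.Transfer.inf_commutator_inf_center_eq_bot (P : Subgroup G) hab P.card_coprime_index
    have hz' : z ∈ (P : Subgroup G) ⊓ commutator G ⊓ center G :=
      ⟨⟨hzP, hperf ▸ mem_top z⟩, hzc⟩
    rw [h, mem_bot] at hz'
    exact hz'
  obtain ⟨x, hx⟩ := exists_prime_orderOf_dvd_card' 3 h3
  have hx3 : x ^ 3 = 1 := hx ▸ pow_orderOf_eq_one x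
  have hx1 : x ≠ 1 := fun h => by rw [h, orderOf_one] at hx; norm_num at hx
  by_contra hno
  apply hx1
  refine hcent x hx3 (conj_mem_center_of_perfect hperf fun g => ?_)
  refine mem_zpowers_of_commute hρ (p := 3) hx3 hx1 (by rw [conj_pow, hx3, mul_one, mul_inv_cancel]) ?_
  by_contra hne
  exact hno ⟨g * x * g⁻¹, x, by rw [conj_pow, hx3, mul_one, mul_inv_cancel], hx3, hne, hcent⟩

/-- The subgroup generated by the elements of order three and a central involution. -/
def coreGroup (τ : G) : Subgroup G := closure ({z | z ^ 3 = 1} ∪ {τ})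

theorem core_data (hρ : Fpf ρ) {τ : G} (hτ : ρ τ = -1) (h2 : (2 : k) ≠ 0) {x y : G} (hx : x ^ 3 = 1)
    (hy : y ^ 3 = 1) (hxy : x * y ≠ y * x) :
    (Nat.card (coreGroup τ) = 24 ∨ Nat.card (coreGroup τ) = 48 ∨ Nat.card (coreGroup τ) = 120) ∧
      ∀ g ∈ coreGroup τ, ∃ e : ℕ, 1 ≤ e ∧ e ≤ 5 ∧ (g ^ e = 1 ∨ g ^ e = τ) := by
  obtain ⟨ι, hι, hall⟩ := exists_plane_all hρ hτ h2 hx hy hxy
  have hle : coreGroup τ ≤ planeGroup ρ ι := by
    rw [coreGroup, Subgroup.closure_le]
    rintro g (hg | rfl)
    · exact hall g hg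
    · exact mem_planeGroup_neg hτ
  let φ := (planeHom ρ hι).comp (inclusion hle)
  have hinj : Function.Injective φ := (planeHom_injective hρ hι).comp (inclusion_injective hle)
  have hcard : Nat.card φ.range = Nat.card (coreGroup τ) :=
    (Nat.card_congr (MonoidHom.ofInjective hinj).toEquiv).symm
  have hτm : τ ∈ coreGroup τ := subset_closure (Or.inr rfl)
  have hφτ : φ ⟨τ, hτm⟩ = -1 := planeHom_eq hι fun z => by
    rw [show ((inclusion hle ⟨τ, hτm⟩ : planeGroup ρ ι) : G) = τ from rfl, hτ, LinearMap.neg_apply,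
      Module.End.one_apply, Matrix.SpecialLinearGroup.coe_neg, Matrix.SpecialLinearGroup.coe_one,
      Matrix.neg_mulVec, Matrix.one_mulVec, map_neg]
  have : Finite φ.range := Finite.of_surjective φ.rangeRestrict φ.rangeRestrict_surjective
  let gx : coreGroup τ := ⟨x, subset_closure (Or.inl hx)⟩
  let gy : coreGroup τ := ⟨y, subset_closure (Or.inl hy)⟩
  obtain ⟨hc, he⟩ := finite_sl_two (K := φ.range)
    (by rw [hcard]; exact hρ.natCast_ne_zero (card_subgroup_dvd_card _)) h2 ⟨_, hφτ⟩
    (x := φ gx) (y := φ gy) ⟨gx, rfl⟩ ⟨gy, rfl⟩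
    (by rw [← map_pow, show gx ^ 3 = 1 from Subtype.ext hx, map_one])
    (by rw [← map_pow, show gy ^ 3 = 1 from Subtype.ext hy, map_one])
    (fun h => hxy (congrArg Subtype.val (hinj (by rw [map_mul, map_mul]; exact h) :
      gx * gy = gy * gx)))
  refine ⟨hcard ▸ hc, fun g hg => ?_⟩
  obtain ⟨e, h1, h5, h⟩ := he (φ ⟨g, hg⟩) ⟨_, rfl⟩
  refine ⟨e, h1, h5, ?_⟩
  rcases h with h | h
  · rw [← map_pow, ← map_one φ] at h
    exact Or.inl (congrArg Subtype.val (hinj h))
  · rw [← map_pow, ← hφτ] at h
    exact Or.inr (congrArg Subtype.val (hinj h))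

theorem card_core (hρ : Fpf ρ) (hperf : commutator G = ⊤) {τ : G} (hτ : ρ τ = -1) (hτ2 : τ * τ = 1)
    (hτ1 : τ ≠ 1) (h2 : (2 : k) ≠ 0) {x y : G} (hx : x ^ 3 = 1) (hy : y ^ 3 = 1) (hxy : x * y ≠ y * x)
    (hcent : ∀ z : G, z ^ 3 = 1 → z ∈ center G → z = 1) : Nat.card (coreGroup τ) = 120 := by
  have : Fact (Nat.Prime 3) := ⟨Nat.prime_three⟩
  obtain ⟨hc, -⟩ := core_data hρ hτ h2 hx hy hxy
  set C := coreGroup τ with hC
  have hτm : τ ∈ C := subset_closure (Or.inr rfl)
  have hτc : ∀ g : G, g * τ = τ * g := fun g =>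
    hρ.injective (by rw [map_mul, map_mul, hτ, mul_neg, neg_mul, mul_one, one_mul])
  by_contra hne
  obtain ⟨a, m, ham, hm3, hm⟩ : ∃ a m, Nat.card C = 3 ^ a * m ∧ ¬ 3 ∣ m ∧ a = 1 ∧ (m = 8 ∨ m = 16) := by
    rcases hc with h | h | h
    · exact ⟨1, 8, by omega, by norm_num, rfl, Or.inl rfl⟩
    · exact ⟨1, 16, by omega, by norm_num, rfl, Or.inr rfl⟩
    · exact absurd h hne
  obtain ⟨rfl, hm⟩ := hm
  have hn3 : Nat.card (Sylow 3 C) ≤ 4 := by
    obtain ⟨P⟩ := (inferInstance : Nonempty (Sylow 3 C))
    have hd := CfsgLib.Small.card_sylow_dvd (p := 3) 1 m ham hm3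
    have hmod : Nat.card (Sylow 3 C) % 3 = 1 := card_sylow_modEq_one 3 C
    have hN := CfsgLib.Small.card_normalizer_mul P
    have hP : Nat.card (P : Subgroup C) = 3 := by
      simpa using CfsgLib.Small.card_sylow_eq (p := 3) 1 m ham hm3 P
    have h6 : 2 ∣ Nat.card (normalizer ((P : Subgroup C) : Set C)) := by
      have hmem : (⟨τ, hτm⟩ : C) ∈ normalizer ((P : Subgroup C) : Set C) := by
        refine mem_normalizer_iff.2 fun n => ?_
        have e : (⟨τ, hτm⟩ : C) * n * (⟨τ, hτm⟩ : C)⁻¹ = n := Subtype.ext (by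
          rw [coe_mul, coe_mul, InvMemClass.coe_inv, ← hτc (n : G), mul_inv_cancel_right])
        rw [e]
      have hord : orderOf (⟨τ, hτm⟩ : C) = 2 :=
        orderOf_eq_prime (Subtype.ext (by simpa [pow_two] using hτ2)) fun h => hτ1 (congrArg Subtype.val h)
      exact hord ▸ Subgroup.orderOf_dvd_natCard _ hmem
    have h3N : 3 ∣ Nat.card (normalizer ((P : Subgroup C) : Set C)) :=
      hP.symm.dvd.trans (card_dvd_of_le le_normalizer)
    have h6' : 6 ≤ Nat.card (normalizer ((P : Subgroup C) : Set C)) := by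
      have := Nat.card_pos (α := normalizer ((P : Subgroup C) : Set C))
      omega
    have hle : 6 * Nat.card (Sylow 3 C) ≤ 3 * m := by
      rw [← pow_one 3, ← ham, ← hN]
      exact Nat.mul_le_mul_right _ h6'
    rcases hm with rfl | rfl
    · omega
    · have hd' := (Nat.mem_divisors.2 ⟨hd, by norm_num⟩)
      rw [show (16 : ℕ).divisors = {1, 2, 4, 8, 16} by decide] at hd'
      simp only [Finset.mem_insert, Finset.mem_singleton] at hd'
      omega
  let Ω := {P : Subgroup G // Nat.card P = 3}
  have hleC : ∀ P : Ω, P.1 ≤ C := fun P g hg => subset_closure (Or.inl (by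
    have h := pow_card_eq_one' (x := (⟨g, hg⟩ : P.1))
    rw [P.2] at h
    exact congrArg Subtype.val h))
  have hfac : (Nat.card C).factorization 3 = 1 := by
    rw [ham, Nat.factorization_mul (by norm_num) (by rcases hm with rfl | rfl <;> norm_num),
      Finsupp.add_apply, Nat.factorization_eq_zero_of_not_dvd hm3, pow_one,
      Nat.Prime.factorization_self Nat.prime_three]
  let toSyl : Ω → Sylow 3 C := fun P => Sylow.ofCard (P.1.subgroupOf C) (by
    rw [Nat.card_congr (subgroupOfEquivOfLe (hleC P)).toEquiv, P.2, hfac, pow_one])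
  have htoSyl : Function.Injective toSyl := by
    intro P Q h
    apply Subtype.ext
    have h' : P.1.subgroupOf C = Q.1.subgroupOf C := congrArg (fun S : Sylow 3 C => (S : Subgroup C)) h
    calc P.1 = (P.1.subgroupOf C).map C.subtype := (map_subgroupOf_eq_of_le (hleC P)).symm
      _ = Q.1 := by rw [h', map_subgroupOf_eq_of_le (hleC Q)]
  have hΩ : Nat.card Ω ≤ 4 := (Nat.card_le_card_of_injective _ htoSyl).trans hn3
  let act : G → Ω → Ω := fun g P => ⟨P.1.map (MulAut.conj g).toMonoidHom, by
    rw [Nat.card_congr (P.1.equivMapOfInjective _ (MulAut.conj g).injective).toEquiv.symm]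
    exact P.2⟩
  let φ : G →* Equiv.Perm Ω :=
    { toFun := fun g =>
        { toFun := act g
          invFun := act g⁻¹
          left_inv := fun P => Subtype.ext (by
            simp only [act, map_map]
            convert P.1.map_id using 2
            ext a; simp [mul_assoc])
          right_inv := fun P => Subtype.ext (by
            simp only [act, map_map]
            convert P.1.map_id using 2
            ext a; simp [mul_assoc]) }
      map_one' := Equiv.ext fun P => Subtype.ext (by
        change P.1.map (MulAut.conj (1 : G)).toMonoidHom = P.1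
        rw [map_one]
        exact P.1.map_id)
      map_mul' := fun g h => Equiv.ext fun P => Subtype.ext (by
        simp only [act, Equiv.coe_fn_mk, Equiv.Perm.mul_apply, map_map]
        congr 1
        ext a; simp [mul_assoc]) }
  have := CfsgLib.FgsC.isSolvable_perm_of_card_le_four Ω hΩ
  have hφ := eq_one_of_perfect_solvable hperf φ
  have hx1 : x ≠ 1 := by rintro rfl; simp at hxy
  apply hx1
  refine hcent x hx (conj_mem_center_of_perfect hperf fun g => ?_)
  have hP : Nat.card (zpowers x) = 3 := by rw [Nat.card_zpowers, orderOf_eq_prime hx hx1]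
  have h := congrArg (fun f : G →* Equiv.Perm Ω => ((f g) ⟨zpowers x, hP⟩).1) hφ
  simp only [φ, act, MonoidHom.coe_mk, OneHom.coe_mk, Equiv.coe_fn_mk, MonoidHom.one_apply,
    Equiv.Perm.coe_one, id_eq] at h
  rw [← h]
  exact ⟨x, mem_zpowers x, rfl⟩

theorem normal_core {τ : G} (hτc : ∀ g : G, g * τ = τ * g) : (coreGroup τ).Normal := by
  refine ⟨fun n hn g => ?_⟩
  induction hn using Subgroup.closure_induction with
  | mem a ha =>
    rcases ha with ha | rfl
    · exact subset_closure (Or.inl (by
        rw [Set.mem_setOf_eq] at ha ⊢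
        rw [conj_pow, ha, mul_one, mul_inv_cancel]))
    · rw [hτc g, mul_inv_cancel_right]; exact subset_closure (Or.inr rfl)
  | one => rw [mul_one, mul_inv_cancel]; exact one_mem _
  | mul a b _ _ ha hb => rw [← conj_mul]; exact mul_mem ha hb
  | inv a _ ha => rw [← conj_inv]; exact inv_mem ha

theorem zmod_five_cube : ∀ a : ZMod 5, a ^ 3 = 1 → a = 1 := by decide

/-- The structure of the subgroup of order 120. -/
theorem core_structure (hρ : Fpf ρ) {τ : G} (hτ : ρ τ = -1) (hτ2 : τ * τ = 1) (hτ1 : τ ≠ 1)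
    (h2 : (2 : k) ≠ 0) {x y : G} (hx : x ^ 3 = 1) (hy : y ^ 3 = 1) (hxy : x * y ≠ y * x)
    (hcard : Nat.card (coreGroup τ) = 120) :
    commutator (coreGroup τ) = ⊤ ∧ ∃ f : coreGroup τ →* alternatingGroup (Fin 5),
      Function.Surjective f ∧ ∀ g : coreGroup τ, f g = 1 → (g : G) = 1 ∨ (g : G) = τ := by
  classical
  obtain ⟨-, hexp⟩ := core_data hρ hτ h2 hx hy hxy
  have hτc : ∀ g : G, g * τ = τ * g := fun g =>
    hρ.injective (by rw [map_mul, map_mul, hτ, mul_neg, neg_mul, mul_one, one_mul])
  have huniq : ∀ g : G, g * g = 1 → g = 1 ∨ g = τ := fun g hg => (em (g = 1)).imp id fun h =>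
    hρ.injective (by rw [hτ, hρ.map_sq_eq_one hg h])
  set C := coreGroup τ with hC
  have hτm : τ ∈ C := subset_closure (Or.inr rfl)
  have h5f : Fact (Nat.Prime 5) := ⟨by norm_num⟩
  have : Fact (Nat.Prime 2) := ⟨Nat.prime_two⟩
  have : Fact (Nat.Prime 3) := ⟨Nat.prime_three⟩
  -- no element of order 15 or 20
  have hno : ∀ (g h : C) (q : ℕ), orderOf g = 5 → (q = 3 ∨ q = 4) → orderOf h = q → ¬ Commute g h := by
    intro g h q hg hq hh hc
    have hco : Nat.Coprime (orderOf g) (orderOf h) := by
      rw [hg, hh]; rcases hq with rfl | rfl <;> norm_num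
    have hord := hc.orderOf_mul_eq_mul_orderOf_of_coprime hco
    rw [hg, hh] at hord
    obtain ⟨e, he1, he5, he⟩ := hexp _ (g * h).2
    have hpow : (g * h) ^ (2 * e) = 1 := Subtype.ext (by
      rw [coe_pow, coe_one, two_mul, pow_add]
      rcases he with he | he <;> rw [he]
      · rw [one_mul]
      · exact hτ2)
    have hd := orderOf_dvd_of_pow_eq_one hpow
    rw [hord] at hd
    have := Nat.le_of_dvd (by omega) hd
    omega
  obtain ⟨g5, hg5⟩ := exists_prime_orderOf_dvd_card' (G := C) 5 (by rw [hcard]; norm_num)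
  let τC : C := ⟨τ, hτm⟩
  have hτC : orderOf τC = 2 :=
    orderOf_eq_prime (Subtype.ext (by simpa [pow_two, τC] using hτ2)) fun h => hτ1 (congrArg Subtype.val h)
  obtain ⟨S2⟩ := (inferInstance : Nonempty (Sylow 2 C))
  have four_of_dvd : ∀ H : Subgroup C, 4 ∣ Nat.card H → ∃ u ∈ H, orderOf u = 4 := by
    intro H h4
    obtain ⟨K, hK⟩ := Sylow.exists_subgroup_card_pow_prime (G := H) 2 (n := 2) (by simpa using h4)
    by_contra hne
    push Not at hne
    have hle : ∀ u : K, u = 1 ∨ ((u : H) : C) = τC := by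
      intro u
      have hd : orderOf u ∣ 2 ^ 2 := hK ▸ orderOf_dvd_natCard u
      obtain ⟨i, hi, hiu⟩ := (Nat.dvd_prime_pow Nat.prime_two).1 hd
      have hi4 : i ≠ 2 := fun h => hne _ (u : H).2 (by
        rw [Subgroup.orderOf_coe, Subgroup.orderOf_coe, hiu, h]; norm_num)
      have hu2 : u ^ 2 = 1 := orderOf_dvd_iff_pow_eq_one.1 (hiu ▸ by
        calc 2 ^ i ∣ 2 ^ 1 := pow_dvd_pow 2 (by omega)
          _ = 2 := pow_one 2)
      rcases huniq (((u : H) : C) : G) (by
        rw [← pow_two]; exact congrArg (fun t : K => (((t : H) : C) : G)) hu2) with h | h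
      · exact Or.inl (Subtype.ext (Subtype.ext (Subtype.ext h)))
      · exact Or.inr (Subtype.ext h)
    have : Nat.card K ≤ 2 := by
      refine (Nat.card_le_card_of_injective (fun u : K => decide (u = 1)) fun u v huv => ?_).trans
        (by simp)
      simp only [decide_eq_decide] at huv
      rcases hle u with h | h
      · exact h.trans (huv.1 h).symm
      · rcases hle v with h' | h'
        · exact (huv.2 h').trans h'.symm
        · exact Subtype.ext (Subtype.ext (h.trans h'.symm))
    omega
  -- an element of order three never normalises a subgroup of order five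
  have hnn : ∀ g h : C, orderOf g = 5 → orderOf h = 3 → h * g * h⁻¹ ∉ zpowers g := by
    intro g h hg hh hmem
    refine hno g h 3 hg (Or.inl rfl) hh ?_
    obtain ⟨a, -, ha⟩ := (mem_zpowers_iff_mem_range_orderOf.1 hmem |> Finset.mem_image.1)
    have it : ∀ i : ℕ, h ^ i * g * (h ^ i)⁻¹ = g ^ a ^ i := by
      intro i
      induction i with
      | zero => simp
      | succ i ih =>
        calc h ^ (i + 1) * g * (h ^ (i + 1))⁻¹ = h ^ i * (h * g * h⁻¹) * (h ^ i)⁻¹ := by
              rw [pow_succ]; group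
          _ = h ^ i * g ^ a * (h ^ i)⁻¹ := by rw [← ha]
          _ = (h ^ i * g * (h ^ i)⁻¹) ^ a := conj_pow.symm
          _ = g ^ a ^ (i + 1) := by rw [ih, ← pow_mul, ← pow_succ]
    have h3 := it 3
    rw [show h ^ 3 = 1 from hh ▸ pow_orderOf_eq_one h, one_mul, inv_one, mul_one] at h3
    have hmod : a ^ 3 ≡ 1 [MOD 5] := hg ▸ pow_eq_pow_iff_modEq.1 (h3.symm.trans (pow_one g).symm)
    rw [← ZMod.natCast_eq_natCast_iff, Nat.cast_pow, Nat.cast_one] at hmod
    have ha1 := zmod_five_cube _ hmod
    rw [← Nat.cast_one, ZMod.natCast_eq_natCast_iff, ← hg] at ha1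
    have hga : g ^ a = g := (pow_eq_pow_iff_modEq.2 ha1).trans (pow_one g)
    have e : h * g * h⁻¹ = g := ha ▸ hga
    exact (mul_inv_eq_iff_eq_mul.1 e).symm
  obtain ⟨x3, hx3⟩ : ∃ x3 : C, orderOf x3 = 3 :=
    exists_prime_orderOf_dvd_card' 3 (by rw [hcard]; norm_num)
  -- the six subgroups of order five
  have six : ∀ N : Subgroup C, N.Normal → 5 ∣ Nat.card N → 30 ∣ Nat.card N ∧ Nat.card (Sylow 5 N) = 6 := by
    intro N hN h5
    obtain ⟨q, hq⟩ := h5
    have h120 : Nat.card N ∣ 120 := hcard ▸ card_subgroup_dvd_card N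
    have hq24 : q ∣ 24 := by
      rw [hq] at h120
      exact Nat.dvd_of_mul_dvd_mul_left (k := 5) (by norm_num) (by simpa using h120)
    have hnd : ¬ 5 ∣ q := fun h => by
      have := h.trans hq24
      norm_num at this
    have hd := CfsgLib.Small.card_sylow_dvd (G := N) (p := 5) 1 q (by simpa using hq) hnd
    have hmod : Nat.card (Sylow 5 N) % 5 = 1 := card_sylow_modEq_one 5 N
    have hne1 : Nat.card (Sylow 5 N) ≠ 1 := by
      intro h1
      obtain ⟨P⟩ := (inferInstance : Nonempty (Sylow 5 N))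
      have : Subsingleton (Sylow 5 N) := (Nat.card_eq_one_iff_unique.1 h1).1
      have : (P : Subgroup N).Characteristic := P.characteristic_of_subsingleton
      have hPn : ((P : Subgroup N).map N.subtype).Normal :=
        ConjAct.normal_of_characteristic_of_normal
      have hP5 : Nat.card ((P : Subgroup N).map N.subtype) = 5 := by
        rw [← Nat.card_congr ((P : Subgroup N).equivMapOfInjective _ N.subtype_injective).toEquiv]
        simpa using CfsgLib.Small.card_sylow_eq (p := 5) 1 q (by simpa using hq) hnd P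
      obtain ⟨⟨g, hgP⟩, hg⟩ := exists_prime_orderOf_dvd_card'
        (G := ((P : Subgroup N).map N.subtype)) 5 (by rw [hP5])
      rw [Subgroup.orderOf_mk] at hg
      have heq : zpowers g = (P : Subgroup N).map N.subtype :=
        eq_of_le_of_card_ge (zpowers_le.2 hgP) (by rw [hP5, Nat.card_zpowers, hg])
      exact hnn g x3 hg hx3 (heq ▸ hPn.conj_mem g hgP x3)
    have hd24 := Nat.mem_divisors.2 ⟨hd.trans hq24, (by norm_num : (24 : ℕ) ≠ 0)⟩
    rw [show (24 : ℕ).divisors = {1, 2, 3, 4, 6, 8, 12, 24} by decide] at hd24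
    simp only [Finset.mem_insert, Finset.mem_singleton] at hd24
    have h6 : Nat.card (Sylow 5 N) = 6 := by omega
    exact ⟨by rw [hq, show 30 = 5 * 6 by norm_num]; exact Nat.mul_dvd_mul_left 5 (h6 ▸ hd), h6⟩
  have τ_mem : ∀ N : Subgroup C, 2 ∣ Nat.card N → τC ∈ N := by
    intro N hN
    obtain ⟨⟨u, hu⟩, hord⟩ := exists_prime_orderOf_dvd_card' (G := N) 2 hN
    rw [Subgroup.orderOf_mk] at hord
    rcases huniq (u : G) (by
      rw [← pow_two, ← coe_pow, ← hord, pow_orderOf_eq_one, coe_one]) with h | h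
    · rw [show u = 1 from Subtype.ext h, orderOf_one] at hord; norm_num at hord
    · rwa [show τC = u from Subtype.ext h.symm]
  have three_mem : ∀ N : Subgroup C, N.Normal → 3 ∣ Nat.card N → ∀ h : C, h ^ 3 = 1 → h ∈ N := by
    intro N hN h3 h hh
    have h1 := N.pow_index_mem h
    obtain ⟨q, hq⟩ := h3
    have hmul := N.card_mul_index
    rw [hq, hcard, mul_assoc] at hmul
    have hmod : N.index % 3 ≠ 0 := by
      intro h0
      obtain ⟨r, hr⟩ := Nat.dvd_of_mod_eq_zero h0
      rw [hr] at hmul
      have : 9 ∣ 120 := ⟨q * r, by rw [← hmul]; ring⟩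
      norm_num at this
    have e := pow_eq_pow_mod N.index hh
    rcases (by omega : N.index % 3 = 1 ∨ N.index % 3 = 2) with h' | h'
    · rwa [e, h', pow_one] at h1
    · rw [e, h'] at h1
      have hinv : h ^ 2 = h⁻¹ := eq_inv_of_mul_eq_one_left (by rw [← pow_succ, hh])
      rw [hinv] at h1
      exact inv_mem_iff.1 h1
  have gen : ∀ N : Subgroup C, τC ∈ N → (∀ h : C, h ^ 3 = 1 → h ∈ N) → N = ⊤ := by
    intro N hτN h3
    rw [eq_top_iff]
    rintro ⟨g, hg⟩ -
    have hle : C ≤ N.map C.subtype := by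
      change coreGroup τ ≤ N.map C.subtype
      nth_rewrite 1 [coreGroup]
      rw [Subgroup.closure_le]
      rintro z (hz | rfl)
      · exact ⟨⟨z, subset_closure (Or.inl hz)⟩, h3 _ (Subtype.ext hz), rfl⟩
      · exact ⟨τC, hτN, rfl⟩
    obtain ⟨n, hn, hng⟩ := hle hg
    rwa [show (⟨g, hg⟩ : C) = n from Subtype.ext hng.symm]
  have big : ∀ N : Subgroup C, N.Normal → 5 ∣ Nat.card N → N = ⊤ := fun N hN h5 => by
    obtain ⟨h30, -⟩ := six N hN h5
    exact gen N (τ_mem N ((by norm_num : 2 ∣ 30).trans h30))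
      (three_mem N hN ((by norm_num : 3 ∣ 30).trans h30))
  have hperfC : commutator C = ⊤ := by
    refine big _ inferInstance ?_
    obtain ⟨P⟩ := (inferInstance : Nonempty (Sylow 5 C))
    have hP5 : Nat.card (P : Subgroup C) = 5 := by
      simpa using CfsgLib.Small.card_sylow_eq (p := 5) 1 24 (by rw [hcard]; norm_num) (by norm_num) P
    obtain ⟨⟨g, hgP⟩, hg⟩ := exists_prime_orderOf_dvd_card' (G := (P : Subgroup C)) 5 (by rw [hP5])
    rw [Subgroup.orderOf_mk] at hg
    have hn6 : Nat.card (Sylow 5 C) = 6 := by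
      have hd := CfsgLib.Small.card_sylow_dvd (G := C) (p := 5) 1 24 (by rw [hcard]; norm_num) (by norm_num)
      have hmod : Nat.card (Sylow 5 C) % 5 = 1 := card_sylow_modEq_one 5 C
      have hne1 : Nat.card (Sylow 5 C) ≠ 1 := by
        intro h1
        have : Subsingleton (Sylow 5 C) := (Nat.card_eq_one_iff_unique.1 h1).1
        have hPn : (P : Subgroup C).Normal := P.normal_of_subsingleton
        have heq : zpowers g = (P : Subgroup C) :=
          eq_of_le_of_card_ge (zpowers_le.2 hgP) (by rw [hP5, Nat.card_zpowers, hg])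
        exact hnn g x3 hg hx3 (heq ▸ hPn.conj_mem g hgP x3)
      have hd24 := Nat.mem_divisors.2 ⟨hd, (by norm_num : (24 : ℕ) ≠ 0)⟩
      rw [show (24 : ℕ).divisors = {1, 2, 3, 4, 6, 8, 12, 24} by decide] at hd24
      simp only [Finset.mem_insert, Finset.mem_singleton] at hd24
      omega
    have hN := CfsgLib.Small.card_normalizer_mul P
    rw [hn6, hcard] at hN
    have hN20 : Nat.card (normalizer ((P : Subgroup C) : Set C)) = 20 := by omega
    obtain ⟨u, hu, hu4⟩ := four_of_dvd (normalizer ((P : Subgroup C) : Set C)) (by rw [hN20]; norm_num)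
    have hcm : ⁅u, g⁆ ∈ (P : Subgroup C) := by
      rw [commutatorElement_def]
      exact mul_mem ((mem_normalizer_iff.1 hu g).1 hgP) (inv_mem hgP)
    have hne : ⁅u, g⁆ ≠ 1 := fun h =>
      hno g u 4 hg (Or.inr rfl) hu4 (commutatorElement_eq_one_iff_mul_comm.1 h).symm
    have hord : orderOf (⁅u, g⁆) = 5 := by
      refine orderOf_eq_prime ?_ hne
      have h := pow_card_eq_one' (x := (⟨_, hcm⟩ : (P : Subgroup C)))
      rw [hP5] at h
      exact congrArg Subtype.val h
    exact hord ▸ Subgroup.orderOf_dvd_natCard _ (commutator_mem_commutator (mem_top u) (mem_top g))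
  have dich : ∀ N : Subgroup C, N.Normal → N = ⊤ ∨ N ≤ zpowers τC := by
    intro N hN
    by_cases h5 : 5 ∣ Nat.card N
    · exact Or.inl (big N hN h5)
    have h120 : Nat.card N ∣ 120 := hcard ▸ card_subgroup_dvd_card N
    have h24 : Nat.card N ∣ 24 :=
      (Nat.Coprime.dvd_of_dvd_mul_left ((((by norm_num : Nat.Prime 5).coprime_iff_not_dvd).2 h5)).symm
        (by simpa using h120 : Nat.card N ∣ 5 * 24))
    right
    by_cases h3 : 3 ∣ Nat.card N
    · exfalso
      by_cases hev : 2 ∣ Nat.card N
      · have := gen N (τ_mem N hev) (three_mem N hN h3)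
        rw [this, card_top, hcard] at h5
        norm_num at h5
      · have hc3 : Nat.card N = 3 := by
          have hm := Nat.mem_divisors.2 ⟨h24, (by norm_num : (24 : ℕ) ≠ 0)⟩
          rw [show (24 : ℕ).divisors = {1, 2, 3, 4, 6, 8, 12, 24} by decide] at hm
          simp only [Finset.mem_insert, Finset.mem_singleton] at hm
          omega
        have : IsCyclic N := isCyclic_of_prime_card hc3
        apply hxy
        have hxm := three_mem N hN h3 ⟨x, subset_closure (Or.inl hx)⟩ (Subtype.ext hx)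
        have hym := three_mem N hN h3 ⟨y, subset_closure (Or.inl hy)⟩ (Subtype.ext hy)
        have hcomm : IsMulCommutative N := inferInstance
        exact congrArg (fun t : N => ((t : C) : G)) (hcomm.is_comm.comm ⟨_, hxm⟩ ⟨_, hym⟩)
    have h8 : Nat.card N ∣ 8 :=
      (Nat.Coprime.dvd_of_dvd_mul_left (((Nat.prime_three.coprime_iff_not_dvd).2 h3)).symm
        (by simpa using h24 : Nat.card N ∣ 3 * 8))
    have hm := Nat.mem_divisors.2 ⟨h8, (by norm_num : (8 : ℕ) ≠ 0)⟩
    rw [show (8 : ℕ).divisors = {1, 2, 4, 8} by decide] at hm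
    simp only [Finset.mem_insert, Finset.mem_singleton] at hm
    rcases hm with h | h | h | h
    · rw [eq_bot_of_card_eq N h]; exact bot_le
    · have := τ_mem N (by rw [h])
      rw [eq_of_le_of_card_ge (zpowers_le.2 this) (by rw [h, Nat.card_zpowers, hτC])]
    · exfalso
      obtain ⟨u, hu, hu4⟩ := four_of_dvd N (by rw [h])
      have heq : zpowers u = N := eq_of_le_of_card_ge (zpowers_le.2 hu) (by rw [h, Nat.card_zpowers, hu4])
      have hcz := conj_mem_center_of_perfect hperfC (x := u) fun g => heq.symm ▸ hN.conj_mem u hu g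
      exact hno g5 u 4 hg5 (Or.inr rfl) hu4 (mem_center_iff.1 hcz g5)
    · exfalso
      have hidx : N.index = 15 := by
        have := N.card_mul_index
        rw [h, hcard] at this
        omega
      have : IsZGroup (C ⧸ N) := IsZGroup.of_squarefree (by
        rw [← index_eq_card, hidx, show (15 : ℕ) = 3 * 5 by norm_num, Nat.squarefree_mul (by norm_num)]
        exact ⟨Nat.prime_three.squarefree, (by norm_num : Nat.Prime 5).squarefree⟩)
      have hf := eq_one_of_perfect_solvable hperfC (QuotientGroup.mk' N)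
      have hNt : N = ⊤ := by rw [← QuotientGroup.ker_mk' N, hf, MonoidHom.ker_one]
      rw [hNt, index_top] at hidx
      norm_num at hidx
  refine ⟨hperfC, ?_⟩
  have hZn : (zpowers τC).Normal := ⟨fun a ha g => by
    obtain ⟨i, rfl⟩ := mem_zpowers_iff.1 ha
    have hc : Commute g τC := Subtype.ext (hτc g)
    rw [(hc.zpow_right i).eq, mul_inv_cancel_right]
    exact zpow_mem (mem_zpowers τC) i⟩
  have hQ : Nat.card (C ⧸ zpowers τC) = 60 := by
    have := card_eq_card_quotient_mul_card_subgroup (zpowers τC)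
    rw [hcard, Nat.card_zpowers, hτC] at this
    omega
  have : Nontrivial (C ⧸ zpowers τC) := Finite.one_lt_card_iff_nontrivial.1 (by rw [hQ]; norm_num)
  have : IsSimpleGroup (C ⧸ zpowers τC) := ⟨fun M hM => by
    rcases dich (M.comap (QuotientGroup.mk' _)) inferInstance with h | h
    · right
      rw [← map_comap_eq_self_of_surjective (QuotientGroup.mk'_surjective (zpowers τC)) M, h,
        map_top_of_surjective _ (QuotientGroup.mk'_surjective _)]
    · left
      rw [← map_comap_eq_self_of_surjective (QuotientGroup.mk'_surjective (zpowers τC)) M,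
        Subgroup.map_eq_bot_iff, QuotientGroup.ker_mk']
      exact h⟩
  obtain ⟨e⟩ := CfsgLib.Small.equiv_alternating_five hQ
  refine ⟨e.toMonoidHom.comp (QuotientGroup.mk' _), e.surjective.comp (QuotientGroup.mk'_surjective _),
    fun g hg => ?_⟩
  have hmem : g ∈ zpowers τC := by
    rw [← QuotientGroup.ker_mk' (zpowers τC), MonoidHom.mem_ker]
    exact e.injective (hg.trans (map_one e).symm)
  obtain ⟨i, rfl⟩ := mem_zpowers_iff.1 hmem
  rw [← zpow_mod_orderOf, hτC]
  rcases Int.emod_two_eq i with h | h <;> rw [show ((2 : ℕ) : ℤ) = 2 from rfl, h]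
  · exact Or.inl (by rw [zpow_zero]; rfl)
  · exact Or.inr (by rw [zpow_one])

/-- **Zassenhaus**: a non-trivial perfect group with a fixed-point-free representation is `SL(2,5)`. -/
theorem mulEquiv_SL_five_of_perfect (hρ : Fpf ρ) (hperf : commutator G = ⊤) [Nontrivial G] :
    Nonempty (G ≃* Matrix.SpecialLinearGroup (Fin 2) (ZMod 5)) := by
  classical
  obtain ⟨h3, τ, hτ, hτ1, hτ2, h2⟩ := order_facts hρ hperf
  set C := coreGroup τ with hC
  obtain ⟨x, y, hx, hy, hxy, hcent⟩ := exists_pair hρ hperf h3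
  have hcard := card_core hρ hperf hτ hτ2 hτ1 h2 hx hy hxy hcent
  obtain ⟨hperfC, f, hf, hker⟩ := core_structure hρ hτ hτ2 hτ1 h2 hx hy hxy hcard
  have hτc : ∀ g : G, g * τ = τ * g := fun g =>
    hρ.injective (by rw [map_mul, map_mul, hτ, mul_neg, neg_mul, mul_one, one_mul])
  have huniq : ∀ g : G, g * g = 1 → g = 1 ∨ g = τ := fun g hg => (em (g = 1)).imp id fun h =>
    hρ.injective (by rw [hτ, hρ.map_sq_eq_one hg h])
  have hCn : C.Normal := normal_core hτc
  have hτm : τ ∈ C := subset_closure (Or.inr rfl)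
  have : Fact (Nat.Prime 2) := ⟨Nat.prime_two⟩
  -- the whole group is the core
  have hfτ : f ⟨τ, hτm⟩ = 1 := by
    have hsimple : IsSimpleGroup (alternatingGroup (Fin 5)) := alternatingGroup.isSimpleGroup (by simp)
    have hcen : f ⟨τ, hτm⟩ ∈ center (alternatingGroup (Fin 5)) := by
      rw [mem_center_iff]
      intro a
      obtain ⟨c, rfl⟩ := hf a
      rw [← map_mul, ← map_mul]
      exact congrArg f (Subtype.ext (hτc c))
    rw [CfsgLib.Small.center_eq_bot (G := alternatingGroup (Fin 5))
      (CfsgLib.Small.not_isMulCommutative_of_card (by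
        rw [nat_card_alternatingGroup, Nat.card_fin]; norm_num)), mem_bot] at hcen
    exact hcen
  have hkerf : f.ker.map C.subtype ≤ zpowers τ := by
    rintro _ ⟨g, hg, rfl⟩
    change (g : G) ∈ zpowers τ
    rcases hker g hg with h | h
    · exact h ▸ one_mem _
    · exact h ▸ mem_zpowers τ
  let eQ : C ⧸ f.ker ≃* alternatingGroup (Fin 5) := QuotientGroup.quotientKerEquivOfSurjective f hf
  have hcongr : ∀ (g : G) (a : C), f a = 1 → f (MulAut.conjNormal g a) = 1 := by
    intro g a ha
    rcases hker a ha with h | h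
    · rw [show a = 1 from Subtype.ext h, map_one, map_one]
    · rw [show MulAut.conjNormal g a = ⟨τ, hτm⟩ from Subtype.ext (by
        rw [MulAut.conjNormal_apply, h, hτc g, mul_inv_cancel_right]), hfτ]
  have hmap : ∀ g : G, f.ker.map (MulAut.conjNormal g : C ≃* C).toMonoidHom = f.ker := by
    intro g
    refine le_antisymm ?_ fun a ha => ⟨MulAut.conjNormal g⁻¹ a, hcongr g⁻¹ a ha, ?_⟩
    · rintro _ ⟨a, ha, rfl⟩
      exact hcongr g a ha
    · change MulAut.conjNormal g (MulAut.conjNormal g⁻¹ a) = a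
      rw [← MulAut.mul_apply, ← map_mul, mul_inv_cancel, map_one, MulAut.one_apply]
  let aut : G →* MulAut (alternatingGroup (Fin 5)) :=
    { toFun := fun g => (eQ.symm.trans (QuotientGroup.congr f.ker f.ker (MulAut.conjNormal g) (hmap g))).trans eQ
      map_one' := by
        ext a : 1
        obtain ⟨c, rfl⟩ := hf a
        change eQ (QuotientGroup.congr f.ker f.ker (MulAut.conjNormal 1) (hmap 1)
          (eQ.symm (eQ (QuotientGroup.mk c)))) = _
        rw [MulEquiv.symm_apply_apply]
        change eQ (QuotientGroup.mk (MulAut.conjNormal (1 : G) c)) = eQ (QuotientGroup.mk c)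
        rw [map_one, MulAut.one_apply]
      map_mul' := fun g h => by
        ext a : 1
        obtain ⟨c, rfl⟩ := hf a
        change eQ (QuotientGroup.congr f.ker f.ker (MulAut.conjNormal (g * h)) (hmap _)
          (eQ.symm (eQ (QuotientGroup.mk c)))) = eQ (QuotientGroup.congr f.ker f.ker (MulAut.conjNormal g)
          (hmap g) (eQ.symm (eQ (QuotientGroup.congr f.ker f.ker (MulAut.conjNormal h) (hmap h)
          (eQ.symm (eQ (QuotientGroup.mk c)))))))
        rw [MulEquiv.symm_apply_apply, MulEquiv.symm_apply_apply]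
        change eQ (QuotientGroup.mk (MulAut.conjNormal (g * h) c)) =
          eQ (QuotientGroup.mk (MulAut.conjNormal g (MulAut.conjNormal h c)))
        rw [map_mul, MulAut.mul_apply] }
  have haut : ∀ (g : G) (c : C), aut g (f c) = f (MulAut.conjNormal g c) := by
    intro g c
    change eQ (QuotientGroup.congr f.ker f.ker (MulAut.conjNormal g) (hmap g)
      (eQ.symm (eQ (QuotientGroup.mk c)))) = _
    rw [MulEquiv.symm_apply_apply]
    rfl
  have hinn : ∀ c : C, aut (c : G) = MulAut.conj (f c) := by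
    intro c
    ext a : 1
    obtain ⟨d, rfl⟩ := hf a
    rw [haut, MulAut.conj_apply, ← map_inv, ← map_mul, ← map_mul]
    exact congrArg f (Subtype.ext (by simp))
  -- the image consists of inner automorphisms
  let I : Subgroup (MulAut (alternatingGroup (Fin 5))) := MulAut.conj.range
  have hIn : I.Normal := ⟨fun n hn σ => by
    obtain ⟨a, rfl⟩ := hn
    refine ⟨σ a, ?_⟩
    ext b : 1
    simp [MulAut.conj_apply]⟩
  have himg : ∀ g : G, aut g ∈ I := by
    have h60 : Nat.card (alternatingGroup (Fin 5)) = 60 := by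
      rw [nat_card_alternatingGroup, Nat.card_fin]; rfl
    have hI60 : Nat.card I = 60 := by
      rw [← h60]
      refine (Nat.card_congr (MonoidHom.ofInjective ?_).toEquiv).symm
      refine (injective_iff_map_eq_one _).2 fun a ha => ?_
      have hsimple : IsSimpleGroup (alternatingGroup (Fin 5)) := alternatingGroup.isSimpleGroup (by simp)
      have hac : a ∈ center (alternatingGroup (Fin 5)) := by
        rw [mem_center_iff]
        intro b
        have := congrArg (fun σ : MulAut (alternatingGroup (Fin 5)) => σ b) ha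
        simp only [MulAut.conj_apply, MulAut.one_apply] at this
        exact (mul_inv_eq_iff_eq_mul.1 this).symm
      rwa [CfsgLib.Small.center_eq_bot (CfsgLib.Small.not_isMulCommutative_of_card (by rw [h60]; norm_num)),
        mem_bot] at hac
    have hidx : I.index ≤ 2 := by
      have h := I.card_mul_index
      rw [hI60] at h
      have := card_mulAut_alternating_five
      omega
    have : Group.IsSolvable (MulAut (alternatingGroup (Fin 5)) ⧸ I) :=
      CfsgLib.FgsC.isSolvable_of_injective_perm (α := MulAut (alternatingGroup (Fin 5)) ⧸ I)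
        (by rw [← index_eq_card]; omega) (MulAction.toPermHom _ _)
        (MulAction.toPerm_injective (α := MulAut (alternatingGroup (Fin 5)) ⧸ I))
    intro g
    have h := DFunLike.congr_fun (eq_one_of_perfect_solvable hperf ((QuotientGroup.mk' I).comp aut)) g
    rwa [MonoidHom.comp_apply, MonoidHom.one_apply, QuotientGroup.mk'_apply, QuotientGroup.eq_one_iff] at h
  set Z := centralizer (C : Set G) with hZ
  have hsplit : ∀ g : G, ∃ c ∈ C, c⁻¹ * g ∈ Z := by
    intro g
    obtain ⟨a, ha⟩ := himg g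
    obtain ⟨c, rfl⟩ := hf a
    refine ⟨c, c.2, ?_⟩
    have h1 : aut ((c : G)⁻¹ * g) = 1 := by
      rw [map_mul, map_inv, hinn, ha, inv_mul_cancel]
    have h3' : ∀ d : C, f (MulAut.conjNormal ((c : G)⁻¹ * g) d) = f d := fun d => by
      rw [← haut, h1, MulAut.one_apply]
    set h := (c : G)⁻¹ * g
    have hgen : ∀ z : G, z ^ 3 = 1 → h * z * h⁻¹ = z := by
      intro z hz
      let zc : C := ⟨z, subset_closure (Or.inl hz)⟩
      have h4 : f (MulAut.conjNormal h zc * zc⁻¹) = 1 := by
        rw [map_mul, map_inv, h3', mul_inv_cancel]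
      rcases hker _ h4 with e | e
      · rw [coe_mul, coe_inv, MulAut.conjNormal_apply, mul_inv_eq_one] at e
        exact e
      · exfalso
        rw [coe_mul, coe_inv, MulAut.conjNormal_apply, mul_inv_eq_iff_eq_mul] at e
        have h6 := congrArg (· ^ 3) e
        rw [conj_pow, hz, mul_one, mul_inv_cancel, (show Commute τ z from (hτc z).symm).mul_pow, hz,
          mul_one, pow_succ, pow_two, hτ2, one_mul] at h6
        exact hτ1 h6.symm
    rw [hZ, hC, coreGroup, centralizer_closure, mem_centralizer_iff]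
    rintro z (hz | rfl)
    · have := hgen z hz
      rw [mul_inv_eq_iff_eq_mul] at this
      exact this.symm
    · exact (hτc h).symm
  have hZZ : IsZGroup Z := by
    refine ⟨fun p hp P => ?_⟩
    have := Fact.mk hp
    have hPG : IsPGroup p ((P : Subgroup Z).map Z.subtype) := P.2.map _
    rcases pgroup_cases hρ hPG with h | ⟨rfl, n, hn, ⟨e⟩⟩
    · exact isCyclic_of_surjective _
        ((P : Subgroup Z).equivMapOfInjective _ Z.subtype_injective).symm.surjective
    · exfalso
      -- an element of order four of the centraliser and one of the core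
      obtain ⟨u, hu⟩ : ∃ u : ((P : Subgroup Z).map Z.subtype), orderOf u = 4 :=
        ⟨e.symm (QuaternionGroup.xa 0), by rw [MulEquiv.orderOf_eq, QuaternionGroup.orderOf_xa]⟩
      obtain ⟨w, hw⟩ : ∃ w : C, orderOf w = 4 := by
        have : Fact (Nat.Prime 2) := ⟨Nat.prime_two⟩
        obtain ⟨Q⟩ := (inferInstance : Nonempty (Sylow 2 C))
        have hQ : Nat.card (Q : Subgroup C) = 8 := by
          simpa using CfsgLib.Small.card_sylow_eq (p := 2) 3 15 (by rw [hcard]; norm_num) (by norm_num) Q
        by_contra hne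
        push Not at hne
        have hle : ∀ q : (Q : Subgroup C), q = 1 ∨ ((q : C) : G) = τ := by
          intro q
          have hd : orderOf q ∣ 2 ^ 3 := by
            have := orderOf_dvd_natCard q; rwa [hQ] at this
          obtain ⟨i, hi, hiq⟩ := (Nat.dvd_prime_pow Nat.prime_two).1 hd
          have hi1 : i ≤ 1 := by
            by_contra hgt
            refine hne ((q : C) ^ 2 ^ (i - 2)) ?_
            rw [orderOf_pow' _ (pow_ne_zero _ two_ne_zero), Subgroup.orderOf_coe, hiq,
              Nat.gcd_eq_right (pow_dvd_pow 2 (by omega)), Nat.pow_div (by omega) two_pos,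
              show i - (i - 2) = 2 by omega]
            norm_num
          have hq2 : q ^ 2 = 1 :=
            orderOf_dvd_iff_pow_eq_one.1 (hiq ▸ (pow_dvd_pow 2 hi1).trans (by norm_num))
          exact (huniq _ (by rw [← pow_two]; exact congrArg (fun t : (Q : Subgroup C) => ((t : C) : G)) hq2)).imp
            (fun h => Subtype.ext (Subtype.ext h)) id
        have : Nat.card (Q : Subgroup C) ≤ 2 := by
          refine (Nat.card_le_card_of_injective (fun u : (Q : Subgroup C) => decide (u = 1))
            fun a b hab => ?_).trans (by simp)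
          simp only [decide_eq_decide] at hab
          rcases hle a with h | h
          · exact h.trans (hab.1 h).symm
          · rcases hle b with h' | h'
            · exact (hab.2 h').trans h'.symm
            · exact Subtype.ext (Subtype.ext (h.trans h'.symm))
        omega
      have sqτ : ∀ g : G, orderOf g = 4 → g * g = τ := by
        intro g hg
        rcases huniq (g * g) (by
          rw [← pow_two, ← pow_two, ← pow_mul, show 2 * 2 = orderOf g by omega, pow_orderOf_eq_one]) with h | h
        · rw [← pow_two, ← orderOf_dvd_iff_pow_eq_one, hg] at h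
          norm_num at h
        · exact h
      obtain ⟨uz, -, huz⟩ := u.2
      have huZ : (u : G) ∈ Z := huz ▸ uz.2
      have e1 := sqτ (u : G) (by rw [Subgroup.orderOf_coe, hu])
      have e2 := sqτ (w : G) (by rw [Subgroup.orderOf_coe, hw])
      have hcomm : Commute (u : G) (w : G) := (mem_centralizer_iff.1 huZ _ w.2).symm
      have hq : ((u : G) * (w : G)⁻¹) * ((u : G) * (w : G)⁻¹) = 1 := by
        rw [(hcomm.inv_right).symm.mul_mul_mul_comm, ← _root_.mul_inv_rev, e1, e2, mul_inv_cancel]
      have huC : (u : G) ∈ C := by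
        have e3 : (u : G) = ((u : G) * (w : G)⁻¹) * w := by group
        rcases huniq _ hq with h | h <;> rw [e3, h]
        · rw [one_mul]; exact w.2
        · exact mul_mem hτm w.2
      have hfu : f ⟨u, huC⟩ ∈ center (alternatingGroup (Fin 5)) := by
        rw [mem_center_iff]
        intro a
        obtain ⟨c, rfl⟩ := hf a
        rw [← map_mul, ← map_mul]
        exact congrArg f (Subtype.ext (mem_centralizer_iff.1 huZ _ c.2))
      rw [CfsgLib.Small.center_eq_bot (CfsgLib.Small.not_isMulCommutative_of_card (by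
          rw [nat_card_alternatingGroup, Nat.card_fin]; norm_num)), mem_bot] at hfu
      have h4 : orderOf (u : G) = 4 := by rw [Subgroup.orderOf_coe, hu]
      rcases hker _ hfu with h | h
      · rw [show (u : G) = 1 from h, orderOf_one] at h4; norm_num at h4
      · rw [show (u : G) = τ from h] at h4
        have := orderOf_dvd_of_pow_eq_one (show τ ^ 2 = 1 by rw [pow_two, hτ2])
        rw [h4] at this
        norm_num at this
  have hCtop : C = ⊤ := by
    have hsurj : Function.Surjective ((QuotientGroup.mk' C).comp Z.subtype) := by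
      intro q
      obtain ⟨g, rfl⟩ := QuotientGroup.mk_surjective q
      obtain ⟨c, hc, hcg⟩ := hsplit g
      exact ⟨⟨_, hcg⟩, (QuotientGroup.eq.2 (by simpa [mul_assoc] using hCn.conj_mem c hc g⁻¹) :
        ((c⁻¹ * g : G) : G ⧸ C) = g)⟩
    have : Group.IsSolvable (G ⧸ C) := Group.isSolvable_of_surjective hsurj
    have h := eq_one_of_perfect_solvable hperf (QuotientGroup.mk' C)
    rw [← QuotientGroup.ker_mk' C, h, MonoidHom.ker_one]
  obtain ⟨e⟩ := mulEquiv_SL_five hperfC hcard f hf
  exact ⟨(Subgroup.topEquiv.symm.trans (MulEquiv.subgroupCongr hCtop.symm)).trans e⟩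

end CfsgLib.Perm.Zass
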