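import Mathlib

/-!
Identities in an algebra with two anticommuting elements of squares `-1`, `-2`.
-/

namespace CfsgLib.Perm.Zass

variable {k : Type*} [Field k] {E : Type*} [Ring E] [Algebra k E]

theorem assoc' {p q r : E} (h : p * q = r) (e : E) : p * (q * e) = r * e := by rw [← mul_assoc, h]

/-- The anticommutator. -/
def ac (p q : E) : E := p * q + q * p

theorem ac_comm (p q : E) : ac p q = ac q p := add_comm _ _

theorem smul_inj {c : k} (hc : c ≠ 0) {p q : E} (h : c • p = c • q) : p = q :=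
  (smul_right_inj hc).1 h

theorem smul_eq_zero' {c : k} (hc : c ≠ 0) {p : E} (h : c • p = 0) : p = 0 :=
  (smul_eq_zero.1 h).resolve_left hc

/-- If the square of `w` is scalar, `w` commutes with every anticommutator with it. -/
theorem ac_commute {w p : E} {c : k} (h : w * w = c • (1 : E)) : ac p w * w = w * ac p w := by
  simp only [ac, add_mul, mul_add, mul_assoc, h, assoc' h, mul_smul_comm, smul_mul_assoc, mul_one,
    one_mul]
  abel

variable {I S : E} (hII : I * I = (-1 : k) • 1) (hSS : S * S = (-2 : k) • 1) (hSI : S * I = -(I * S))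

include hII hSS hSI

theorem rsq_eq : (I * S) * (I * S) = (-2 : k) • 1 := by
  simp only [ac, add_mul, mul_add, sub_mul, mul_sub, neg_mul, mul_neg, mul_assoc, smul_mul_assoc,
      mul_smul_comm, smul_add, smul_sub, smul_neg, neg_neg, smul_smul, mul_one, one_mul,
      hII, assoc' hII, hSS, assoc' hSS, hSI, assoc' hSI]
  module

/-- Conjugation by the element of order three belonging to `I + S`. -/
theorem conj_first {X X' : E} (hX : (2 : k) • X = I + S - 1) (hX' : (2 : k) • X' = -I - S - 1) :
    (4 : k) • (X * (I - S) * X') = (4 : k) • (-I + I * S) ∧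
      (4 : k) • (X' * (I - S) * X) = (4 : k) • (-I - I * S) := by
  have h : ∀ e f g : E, (4 : k) • (e * f * g) = ((2 : k) • e) * f * ((2 : k) • g) := by
    intro e f g
    rw [smul_mul_assoc, smul_mul_assoc, mul_smul_comm, smul_smul]
    norm_num
  rw [h, h, hX, hX']
  constructor <;>
  · simp only [ac, add_mul, mul_add, sub_mul, mul_sub, neg_mul, mul_neg, mul_assoc, smul_mul_assoc,
      mul_smul_comm, smul_add, smul_sub, smul_neg, neg_neg, smul_smul, mul_one, one_mul,
      hII, assoc' hII, hSS, assoc' hSS, hSI, assoc' hSI]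
    module

section near

variable {u a : E} (huu : u * u = (-3 : k) • 1) (hIu : I * u = a - u * I)
  (hSu : S * u = (2 : k) • 1 - a - u * S) (hua : u * a = a * u) (hIa : I * a = a * I)
  (hSa : S * a = a * S)

include huu hIu hSu hua hIa hSa

theorem d_sq : ac u (I * S) * ac u (I * S) = (20 : k) • 1 + (4 : k) • a - (3 : k) • (a * a) := by
  simp only [ac, add_mul, mul_add, sub_mul, mul_sub, neg_mul, mul_neg, mul_assoc, smul_mul_assoc,
      mul_smul_comm, smul_add, smul_sub, smul_neg, neg_neg, smul_smul, mul_one, one_mul,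
      hII, assoc' hII, hSS, assoc' hSS, hSI, assoc' hSI, huu, assoc' huu, hIu, assoc' hIu, hSu,
    assoc' hSu, hua, assoc' hua, hIa, assoc' hIa, hSa, assoc' hSa]
  module

theorem d_comm : ac u (I * S) * a = a * ac u (I * S) := by
  simp only [ac, add_mul, mul_add, sub_mul, mul_sub, neg_mul, mul_neg, mul_assoc, smul_mul_assoc,
      mul_smul_comm, smul_add, smul_sub, smul_neg, neg_neg, smul_smul, mul_one, one_mul,
      hII, assoc' hII, hSS, assoc' hSS, hSI, assoc' hSI, huu, assoc' huu, hIu, assoc' hIu, hSu,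
    assoc' hSu, hua, assoc' hua, hIa, assoc' hIa, hSa, assoc' hSa]

theorem near_sum : (ac u I - ac u S) * (ac u I - ac u S) +
    (ac u (I * S) - ac u I) * (ac u (I * S) - ac u I) +
    (-ac u (I * S) - ac u I) * (-ac u (I * S) - ac u I) = (44 : k) • (1 : E) := by
  have e1 : ac u I = a := by simp only [ac, hIu]; abel
  have e2 : ac u S = (2 : k) • 1 - a := by simp only [ac, hSu]; abel
  have hd := d_sq hII hSS hSI huu hIu hSu hua hIa hSa
  rw [e1, e2]
  generalize ac u (I * S) = d at hd ⊢
  simp only [ac, add_mul, mul_add, sub_mul, mul_sub, neg_mul, mul_neg, mul_assoc, smul_mul_assoc,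
      mul_smul_comm, smul_add, smul_sub, smul_neg, neg_neg, smul_smul, mul_one, one_mul,
      hd]
  module

end near

section family

variable {u : E} (huu : u * u = (-3 : k) • 1) (hIu : I * u = -(u * I))
  (hSu : S * u = (2 : k) • 1 - u * S)

include huu hIu hSu

theorem fam_comm : (-(u * (I * S) + I)) * I = I * (-(u * (I * S) + I)) ∧
    (-(u * (I * S) + I)) * S = S * (-(u * (I * S) + I)) := by
  constructor <;>
  · simp only [ac, add_mul, mul_add, sub_mul, mul_sub, neg_mul, mul_neg, mul_assoc, smul_mul_assoc,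
      mul_smul_comm, smul_add, smul_sub, smul_neg, neg_neg, smul_smul, mul_one, one_mul,
      hII, assoc' hII, hSS, assoc' hSS, hSI, assoc' hSI, huu, assoc' huu, hIu, assoc' hIu, hSu,
      assoc' hSu]
    try module

theorem fam_sq : (-(u * (I * S) + I)) * (-(u * (I * S) + I)) = (5 : k) • 1 := by
  simp only [ac, add_mul, mul_add, sub_mul, mul_sub, neg_mul, mul_neg, mul_assoc, smul_mul_assoc,
      mul_smul_comm, smul_add, smul_sub, smul_neg, neg_neg, smul_smul, mul_one, one_mul,
      hII, assoc' hII, hSS, assoc' hSS, hSI, assoc' hSI, huu, assoc' huu, hIu, assoc' hIu, hSu,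
    assoc' hSu]
  module

theorem fam_eq : (2 : k) • u = (-(u * (I * S) + I)) * (I * S) - S := by
  simp only [ac, add_mul, mul_add, sub_mul, mul_sub, neg_mul, mul_neg, mul_assoc, smul_mul_assoc,
      mul_smul_comm, smul_add, smul_sub, smul_neg, neg_neg, smul_smul, mul_one, one_mul,
      hII, assoc' hII, hSS, assoc' hSS, hSI, assoc' hSI, huu, assoc' huu, hIu, assoc' hIu, hSu,
    assoc' hSu]
  module

end family

section pair

variable {J L : E} (hJI : J * I = I * J) (hJS : J * S = S * J) (hLI : L * I = I * L)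
  (hLS : L * S = S * L) (hJJ : J * J = (5 : k) • 1) (hLL : L * L = (5 : k) • 1)

include hJI hJS hLI hLS hJJ hLL

/-- The doubled pair. -/
theorem pair_one : ac (J * (I * S) - S) (L * (I * S) - S) =
    (-4 : k) • 1 + (-2 : k) • (J * L + L * J) := by
  simp only [ac, add_mul, mul_add, sub_mul, mul_sub, neg_mul, mul_neg, mul_assoc, smul_mul_assoc,
      mul_smul_comm, smul_add, smul_sub, smul_neg, neg_neg, smul_smul, mul_one, one_mul,
      hII, assoc' hII, hSS, assoc' hSS, hSI, assoc' hSI, hJI, assoc' hJI, hJS, assoc' hJS, hLI,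
    assoc' hLI, hLS, assoc' hLS, hJJ, assoc' hJJ, hLL, assoc' hLL]
  module

theorem conj_second : -((S - I * S) * (L * (I * S) - S) * (S - I * S)) = (4 : k) • (I * S - L * S) := by
  simp only [ac, add_mul, mul_add, sub_mul, mul_sub, neg_mul, mul_neg, mul_assoc, smul_mul_assoc,
      mul_smul_comm, smul_add, smul_sub, smul_neg, neg_neg, smul_smul, mul_one, one_mul,
      hII, assoc' hII, hSS, assoc' hSS, hSI, assoc' hSI, hLI, assoc' hLI, hLS, assoc' hLS]
  module

theorem pair_two : ac (J * (I * S) - S) (I * S - L * S) =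
    (-4 : k) • (J + L) + (2 : k) • ((J * L - L * J) * I) := by
  simp only [ac, add_mul, mul_add, sub_mul, mul_sub, neg_mul, mul_neg, mul_assoc, smul_mul_assoc,
      mul_smul_comm, smul_add, smul_sub, smul_neg, neg_neg, smul_smul, mul_one, one_mul,
      hII, assoc' hII, hSS, assoc' hSS, hSI, assoc' hSI, hJI, assoc' hJI, hJS, assoc' hJS, hLI,
    assoc' hLI, hLS, assoc' hLS, hJJ, assoc' hJJ, hLL, assoc' hLL]
  module

theorem pair_two_sq : ac (J * (I * S) - S) (I * S - L * S) * ac (J * (I * S) - S) (I * S - L * S) =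
    (560 : k) • 1 + (16 : k) • (J * L + L * J) - (4 : k) • ((J * L + L * J) * (J * L + L * J)) := by
  rw [pair_two hII hSS hSI hJI hJS hLI hLS hJJ hLL]
  simp only [ac, add_mul, mul_add, sub_mul, mul_sub, neg_mul, mul_neg, mul_assoc, smul_mul_assoc,
      mul_smul_comm, smul_add, smul_sub, smul_neg, neg_neg, smul_smul, mul_one, one_mul,
      hII, assoc' hII, hSS, assoc' hSS, hSI, assoc' hSI, hJI, assoc' hJI, hJS, assoc' hJS, hLI,
    assoc' hLI, hLS, assoc' hLS, hJJ, assoc' hJJ, hLL, assoc' hLL]
  module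

theorem pair_two_comm : ac (J * (I * S) - S) (I * S - L * S) * S - S * ac (J * (I * S) - S) (I * S - L * S)
    = (4 : k) • ((J * L - L * J) * (I * S)) := by
  rw [pair_two hII hSS hSI hJI hJS hLI hLS hJJ hLL]
  simp only [ac, add_mul, mul_add, sub_mul, mul_sub, neg_mul, mul_neg, mul_assoc, smul_mul_assoc,
      mul_smul_comm, smul_add, smul_sub, smul_neg, neg_neg, smul_smul, mul_one, one_mul,
      hII, assoc' hII, hSS, assoc' hSS, hSI, assoc' hSI, hJI, assoc' hJI, hJS, assoc' hJS, hLI,
    assoc' hLI, hLS, assoc' hLS, hJJ, assoc' hJJ, hLL, assoc' hLL]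
  module

theorem conj_third : (I + S - 1) * (L * (I * S) - S) * (-I - S - 1) =
    (-4 : k) • I + (-2 : k) • (S - I * S) + L * ((2 : k) • (S - I * S) + (-4 : k) • I) := by
  simp only [ac, add_mul, mul_add, sub_mul, mul_sub, neg_mul, mul_neg, mul_assoc, smul_mul_assoc,
      mul_smul_comm, smul_add, smul_sub, smul_neg, neg_neg, smul_smul, mul_one, one_mul,
      hII, assoc' hII, hSS, assoc' hSS, hSI, assoc' hSI, hLI, assoc' hLI, hLS, assoc' hLS]
  module

theorem pair_three : ac (J * (I * S) - S)
      ((-4 : k) • I + (-2 : k) • (S - I * S) + L * ((2 : k) • (S - I * S) + (-4 : k) • I)) =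
    (4 : k) • ((-2 : k) • 1 + (J * L + L * J) +
      ((2 : k) • L + (-2 : k) • J - (J * L - L * J) * (I + S))) := by
  simp only [ac, add_mul, mul_add, sub_mul, mul_sub, neg_mul, mul_neg, mul_assoc, smul_mul_assoc,
      mul_smul_comm, smul_add, smul_sub, smul_neg, neg_neg, smul_smul, mul_one, one_mul,
      hII, assoc' hII, hSS, assoc' hSS, hSI, assoc' hSI, hJI, assoc' hJI, hJS, assoc' hJS, hLI,
    assoc' hLI, hLS, assoc' hLS, hJJ, assoc' hJJ, hLL, assoc' hLL]
  module

theorem pair_three_sq :
    ((2 : k) • L + (-2 : k) • J - (J * L - L * J) * (I + S)) *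
      ((2 : k) • L + (-2 : k) • J - (J * L - L * J) * (I + S)) =
    (340 : k) • 1 + (-4 : k) • (J * L + L * J) + (-3 : k) • ((J * L + L * J) * (J * L + L * J)) := by
  simp only [ac, add_mul, mul_add, sub_mul, mul_sub, neg_mul, mul_neg, mul_assoc, smul_mul_assoc,
      mul_smul_comm, smul_add, smul_sub, smul_neg, neg_neg, smul_smul, mul_one, one_mul,
      hII, assoc' hII, hSS, assoc' hSS, hSI, assoc' hSI, hJI, assoc' hJI, hJS, assoc' hJS, hLI,
    assoc' hLI, hLS, assoc' hLS, hJJ, assoc' hJJ, hLL, assoc' hLL]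
  module

theorem pair_three_comm :
    ((-2 : k) • 1 + (J * L + L * J) + ((2 : k) • L + (-2 : k) • J - (J * L - L * J) * (I + S))) * S -
      S * ((-2 : k) • 1 + (J * L + L * J) + ((2 : k) • L + (-2 : k) • J - (J * L - L * J) * (I + S))) =
    (-2 : k) • ((J * L - L * J) * (I * S)) := by
  simp only [ac, add_mul, mul_add, sub_mul, mul_sub, neg_mul, mul_neg, mul_assoc, smul_mul_assoc,
      mul_smul_comm, smul_add, smul_sub, smul_neg, neg_neg, smul_smul, mul_one, one_mul,
      hII, assoc' hII, hSS, assoc' hSS, hSI, assoc' hSI, hJI, assoc' hJI, hJS, assoc' hJS, hLI,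
    assoc' hLI, hLS, assoc' hLS, hJJ, assoc' hJJ, hLL, assoc' hLL]
  module

end pair

end CfsgLib.Perm.Zass
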