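import Cfsg.Agent.Lib.Perm.Zass.Dichotomy
import Cfsg.Agent.Lib.Perm.Zass.Quat

/-!
The elements of order three of a fixed-point-free group with two non-commuting ones leave a plane
invariant.
-/

namespace CfsgLib.Perm.Zass

open Matrix

variable {G : Type*} [Group G] [Finite G] {k : Type*} [Field k] [IsAlgClosed k] {V : Type*}
  [AddCommGroup V] [Module k V] [FiniteDimensional k V] [Nontrivial V] {ρ : G →* Module.End k V}

/-- Twice an element plus one. -/
def uu (ρ : G →* Module.End k V) (x : G) : Module.End k V := (2 : k) • ρ x + 1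

theorem two_smul_map (x : G) : (2 : k) • ρ x = uu ρ x - 1 := by rw [uu, add_sub_cancel_right]

theorem map_inv_cube (hρ : Fpf ρ) {x : G} (hx : x ^ 3 = 1) (h1 : x ≠ 1) : ρ x⁻¹ = -ρ x - 1 := by
  have e : x⁻¹ = x * x := by
    rw [inv_eq_iff_mul_eq_one, ← pow_three, hx]
  rw [e, map_mul, ← add_zero (-ρ x - 1), ← hρ.map_cube hx h1]
  abel

theorem two_smul_map_inv (hρ : Fpf ρ) {x : G} (hx : x ^ 3 = 1) (h1 : x ≠ 1) :
    (2 : k) • ρ x⁻¹ = -uu ρ x - 1 := by
  rw [map_inv_cube hρ hx h1, uu]; module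

theorem uu_sq (hρ : Fpf ρ) {x : G} (hx : x ^ 3 = 1) (h1 : x ≠ 1) :
    uu ρ x * uu ρ x = (-3 : k) • 1 := by
  have h : uu ρ x * uu ρ x = (4 : k) • (ρ x * ρ x + ρ x + 1) + (-3 : k) • 1 := by
    simp only [uu, add_mul, mul_add, smul_mul_assoc, mul_smul_comm, smul_smul, mul_one, one_mul]
    module
  rw [h, hρ.map_cube hx h1, smul_zero, zero_add]

theorem uu_inv (hρ : Fpf ρ) {x : G} (hx : x ^ 3 = 1) (h1 : x ≠ 1) : uu ρ x⁻¹ = -uu ρ x := by
  rw [uu, two_smul_map_inv hρ hx h1]; abel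

theorem uu_conj (g x : G) : uu ρ (g * x * g⁻¹) = ρ g * uu ρ x * ρ g⁻¹ := by
  simp only [uu, mul_add, add_mul, mul_smul_comm, smul_mul_assoc, mul_one, map_mul]
  rw [← map_mul ρ g g⁻¹, mul_inv_cancel, map_one]

theorem conj_inv_pow (g z : G) (n : ℕ) : (g⁻¹ * z * g) ^ n = g⁻¹ * z ^ n * g := by
  simpa using conj_pow (i := n) (a := g⁻¹) (b := z)

theorem scalar_inj {c d : k} (h : c • (1 : Module.End k V) = d • 1) : c = d := by
  by_contra hne
  have h' : (c - d) • (1 : Module.End k V) = 0 := by rw [sub_smul, h, sub_self]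
  exact one_ne_zero ((smul_eq_zero.1 h').resolve_left (sub_ne_zero.2 hne))

theorem scalar_contra {c d e : k} (h : c • (1 : Module.End k V) = d • 1) (he : c - d = e) (h0 : e ≠ 0) :
    False := h0 (by rw [← he, scalar_inj h, sub_self])

/-- Commuting elements of order three generate the same subgroup. -/
theorem commute_cases (hρ : Fpf ρ) {x y : G} (hx : x ^ 3 = 1) (hx1 : x ≠ 1) (hy : y ^ 3 = 1)
    (hy1 : y ≠ 1) (hc : x * y = y * x) : y = x ∨ y = x⁻¹ := by
  obtain ⟨v, hv⟩ := exists_ne (0 : V)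
  by_cases hyx : y = x⁻¹
  · exact Or.inr hyx
  left
  set w := ρ y v - ρ x⁻¹ v with hw
  have hne : w ≠ 0 := by
    intro h0
    apply hyx
    have hfix : ρ (x * y) v = v := by
      rw [map_mul, Module.End.mul_apply, sub_eq_zero.1 h0, ← Module.End.mul_apply, ← map_mul,
        mul_inv_cancel, map_one, Module.End.one_apply]
    exact eq_inv_of_mul_eq_one_right (hρ _ v hv hfix)
  have h1 := congrArg (fun f : Module.End k V => f v) (hρ.map_cube hy hy1)
  have h2' := congrArg (fun f : Module.End k V => f v) (hρ.map_cube hx hx1)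
  simp only [LinearMap.add_apply, Module.End.mul_apply, Module.End.one_apply,
    LinearMap.zero_apply] at h1 h2'
  have hcv : ρ x (ρ y v) = ρ y (ρ x v) := by
    rw [← Module.End.mul_apply, ← map_mul, hc, map_mul, Module.End.mul_apply]
  have hfix : ρ y w = ρ x w := by
    simp only [hw, map_inv_cube hρ hx hx1, map_sub, map_add, map_neg, LinearMap.sub_apply,
      LinearMap.neg_apply, Module.End.one_apply, hcv]
    linear_combination (norm := module) h1 - h2'
  have hfix' : ρ (x⁻¹ * y) w = w := by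
    rw [map_mul, Module.End.mul_apply, hfix, ← Module.End.mul_apply, ← map_mul, inv_mul_cancel,
      map_one, Module.End.one_apply]
  exact (inv_mul_eq_one.1 (hρ _ w hne hfix')).symm

/-- The five relations between two elements of order three. -/
theorem pair_cases (hρ : Fpf ρ) {τ : G} (hτ : ρ τ = -1) (h2 : (2 : k) ≠ 0) {x y : G}
    (hx : x ^ 3 = 1) (hx1 : x ≠ 1) (hy : y ^ 3 = 1) (hy1 : y ≠ 1) :
    y = x ∨ y = x⁻¹ ∨ ac (uu ρ x) (uu ρ y) = (-2 : k) • 1 ∨ ac (uu ρ x) (uu ρ y) = (2 : k) • 1 ∨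
      ac (uu ρ x) (uu ρ y) * ac (uu ρ x) (uu ρ y) = (20 : k) • 1 := by
  have hinj := hρ.injective
  by_cases hc : x * y = y * x
  · rcases commute_cases hρ hx hx1 hy hy1 hc with h | h
    · exact Or.inl h
    · exact Or.inr (Or.inl h)
  right; right
  set P := ρ (x * y) with hP
  set Q := ρ (x * y)⁻¹ with hQ
  have hPQ : P * Q = 1 := by rw [hP, hQ, ← map_mul, mul_inv_cancel, map_one]
  have hA : ac (uu ρ x) (uu ρ y) = (4 : k) • (P + Q) - (2 : k) • 1 := by
    rw [hP, hQ, _root_.mul_inv_rev, map_mul, map_mul, map_inv_cube hρ hx hx1, map_inv_cube hρ hy hy1]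
    simp only [ac, uu, add_mul, mul_add, sub_mul, mul_sub, neg_mul, mul_neg, neg_neg, smul_mul_assoc,
      mul_smul_comm, smul_smul, mul_one, one_mul]
    module
  rw [hA]
  have hτc : ρ τ⁻¹ = -1 := by
    have h : ρ τ * ρ τ⁻¹ = 1 := by rw [← map_mul, mul_inv_cancel, map_one]
    rw [hτ, neg_one_mul] at h
    rw [← h, neg_neg]
  have hne : x * y ≠ τ := by
    intro h
    apply hc
    apply hinj
    rw [map_mul, map_mul]
    have e : ρ x * ρ y = -1 := by rw [← map_mul, h, hτ]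
    have e2 : ρ y = -ρ x⁻¹ := by
      calc ρ y = ρ x⁻¹ * (ρ x * ρ y) := by
            rw [← mul_assoc, ← map_mul ρ x⁻¹ x, inv_mul_cancel, map_one, one_mul]
        _ = -ρ x⁻¹ := by rw [e, mul_neg, mul_one]
    rw [e, e2, neg_mul, ← map_mul, inv_mul_cancel, map_one]
  have hfree : ∀ M : Module.End k V, (P + 1) * M = 0 → M = 0 := by
    intro M hM
    refine LinearMap.ext fun v => ?_
    by_contra hv
    apply hne
    have h : P (M v) + M v = 0 := by
      simpa [add_mul] using congrArg (fun f : Module.End k V => f v) hM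
    have hfix : ρ (τ⁻¹ * (x * y)) (M v) = M v := by
      rw [map_mul, hτc, Module.End.mul_apply, ← hP, eq_neg_of_add_eq_zero_left h, map_neg]
      simp
    exact (inv_mul_eq_one.1 (hρ _ _ hv hfix)).symm
  rcases prod_pow_eq hρ hτ h2 hx hy hc with h | h | h
  · left
    have hQP : Q = -P := by
      have e : (x * y)⁻¹ = x * y * τ⁻¹ := by rw [← h]; group
      rw [hQ, e, map_mul, hτc, mul_neg, mul_one]
    rw [hQP]; module
  · right; left
    have h3 : P * P * P = -1 := by
      rw [hP, ← map_mul, ← map_mul, ← hτ, ← h, pow_three, mul_assoc]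
    have h2' : P * P - P + 1 = 0 := hfree _ (by
      rw [← neg_add_cancel (1 : Module.End k V), ← h3]; noncomm_ring)
    have hs : P + Q = 1 := by
      have hQP : Q * P = 1 := by rw [hP, hQ, ← map_mul, inv_mul_cancel, map_one]
      have e : Q * (P * P - P + 1) = P - 1 + Q := by
        rw [mul_add, mul_sub, ← mul_assoc, hQP, one_mul, mul_one]
      rw [h2', mul_zero] at e
      rw [← sub_eq_zero, e]; abel
    rw [hs]; module
  · right; right
    have h5 : P * P * P * P * P = -1 := by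
      rw [hP, ← map_mul, ← map_mul, ← map_mul, ← map_mul, ← hτ, ← h]
      simp only [pow_succ, pow_zero, one_mul]
    have h4 : P * P * P * P - P * P * P + P * P - P + 1 = 0 := hfree _ (by
      rw [← neg_add_cancel (1 : Module.End k V), ← h5]; noncomm_ring)
    have hQP : Q * P = 1 := by rw [hP, hQ, ← map_mul, inv_mul_cancel, map_one]
    have e : Q * (Q * (P * P * P * P - P * P * P + P * P - P + 1)) = P * P - P + 1 - Q + Q * Q := by
      simp only [mul_add, mul_sub, mul_assoc, hQP, assoc' hQP, one_mul, mul_one]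
    rw [h4, mul_zero, mul_zero] at e
    have hT : (P + Q) * (P + Q) = (P + Q) + 1 := by
      rw [← sub_eq_zero, e]
      simp only [add_mul, mul_add, hPQ, hQP]
      abel
    simp only [sub_mul, mul_sub, smul_mul_assoc, mul_smul_comm, smul_smul, mul_one, one_mul, hT]
    module

/-- Either scalar, or of square twenty. -/
theorem pair_scalar (hρ : Fpf ρ) {τ : G} (hτ : ρ τ = -1) (h2 : (2 : k) ≠ 0) {x y : G}
    (hx : x ^ 3 = 1) (hx1 : x ≠ 1) (hy : y ^ 3 = 1) (hy1 : y ≠ 1) :
    (∃ c : k, ac (uu ρ x) (uu ρ y) = c • 1) ∨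
      ac (uu ρ x) (uu ρ y) * ac (uu ρ x) (uu ρ y) = (20 : k) • 1 := by
  rcases pair_cases hρ hτ h2 hx hx1 hy hy1 with rfl | rfl | h | h | h
  · exact Or.inl ⟨-6, by rw [ac, uu_sq hρ hx hx1]; module⟩
  · exact Or.inl ⟨6, by rw [ac, uu_inv hρ hx hx1, mul_neg, neg_mul, uu_sq hρ hx hx1]; module⟩
  · exact Or.inl ⟨_, h⟩
  · exact Or.inl ⟨_, h⟩
  · exact Or.inr h

/-- A frame: two elements of order three with anticommutator two, in coordinates. -/
structure Frame (ρ : G →* Module.End k V) where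
  x : G
  y : G
  hx : x ^ 3 = 1
  hx1 : x ≠ 1
  hy : y ^ 3 = 1
  hy1 : y ≠ 1
  I : Module.End k V
  S : Module.End k V
  hII : I * I = (-1 : k) • 1
  hSS : S * S = (-2 : k) • 1
  hSI : S * I = -(I * S)
  hux : uu ρ x = I + S
  huy : uu ρ y = I - S

theorem exists_frame (hρ : Fpf ρ) (h2 : (2 : k) ≠ 0) {x y : G} (hx : x ^ 3 = 1) (hx1 : x ≠ 1)
    (hy : y ^ 3 = 1) (hy1 : y ≠ 1) (h : ac (uu ρ x) (uu ρ y) = (2 : k) • 1) :
    ∃ F : Frame ρ, F.x = x ∧ F.y = y := by
  have h4 : (4 : k) ≠ 0 := fun h0 => mul_ne_zero h2 h2 (by linear_combination h0)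
  set u := uu ρ x with hu
  set v := uu ρ y with hv
  have huu := uu_sq hρ hx hx1
  have hvv := uu_sq hρ hy hy1
  rw [← hu] at huu
  rw [← hv] at hvv
  have hh : v * u = (2 : k) • 1 - u * v := by rw [← h, ac]; abel
  have half : ∀ p q r s : Module.End k V, (4 : k) • ((2⁻¹ : k) • p * ((2⁻¹ : k) • q)) = r →
      r = (4 : k) • s → (2⁻¹ : k) • p * ((2⁻¹ : k) • q) = s := by
    intro p q r s e1 e2
    exact smul_inj h4 (e1.trans e2)
  have quad : ∀ p q : Module.End k V, (4 : k) • ((2⁻¹ : k) • p * ((2⁻¹ : k) • q)) = p * q := by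
    intro p q
    rw [smul_mul_assoc, mul_smul_comm, smul_smul, smul_smul]
    rw [show (4 : k) * 2⁻¹ * 2⁻¹ = 1 by field_simp; norm_num, one_smul]
  refine ⟨⟨x, y, hx, hx1, hy, hy1, (2⁻¹ : k) • (u + v), (2⁻¹ : k) • (u - v), ?_, ?_, ?_, ?_, ?_⟩,
    rfl, rfl⟩
  · refine half _ _ _ _ (quad _ _) ?_
    simp only [add_mul, mul_add, huu, hvv, hh]; module
  · refine half _ _ _ _ (quad _ _) ?_
    simp only [sub_mul, mul_sub, huu, hvv, hh]; module
  · refine smul_inj h4 ?_
    rw [smul_neg, quad, quad]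
    simp only [add_mul, mul_add, sub_mul, mul_sub, huu, hvv, hh]; module
  · rw [← hu, ← smul_add, show u + v + (u - v) = (2 : k) • u by module, smul_smul,
      inv_mul_cancel₀ h2, one_smul]
  · rw [← hv, ← smul_sub, show u + v - (u - v) = (2 : k) • v by module, smul_smul,
      inv_mul_cancel₀ h2, one_smul]

namespace Frame

variable (F : Frame ρ)

/-- The subgroup generated by the frame. -/
def grp : Subgroup G := Subgroup.closure {F.x, F.y}

theorem x_mem : F.x ∈ F.grp := Subgroup.subset_closure (Set.mem_insert _ _)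

theorem y_mem : F.y ∈ F.grp := Subgroup.subset_closure (Set.mem_insert_of_mem _ rfl)

/-- The normalised elements near both elements of the frame. -/
def Fam (z : G) : Prop :=
  z ^ 3 = 1 ∧ z ≠ 1 ∧ F.I * uu ρ z = -(uu ρ z * F.I) ∧ F.S * uu ρ z = (2 : k) • 1 - uu ρ z * F.S

/-- The central coordinate of a normalised element. -/
def jj (z : G) : Module.End k V := -(uu ρ z * (F.I * F.S) + F.I)

theorem uu_conj_y (hρ : Fpf ρ) (h2 : (2 : k) ≠ 0) :
    uu ρ (F.x * F.y * F.x⁻¹) = -F.I + F.I * F.S ∧ uu ρ (F.x⁻¹ * F.y * F.x) = -F.I - F.I * F.S := by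
  have h4 : (4 : k) ≠ 0 := fun h0 => mul_ne_zero h2 h2 (by linear_combination h0)
  obtain ⟨e1, e2⟩ := conj_first F.hII F.hSS F.hSI (X := ρ F.x) (X' := ρ F.x⁻¹)
    (by rw [two_smul_map, F.hux]) (by rw [two_smul_map_inv hρ F.hx F.hx1, F.hux]; abel)
  constructor
  · rw [uu_conj, F.huy]; exact smul_inj h4 e1
  · have h := uu_conj (ρ := ρ) F.x⁻¹ F.y
    rw [inv_inv] at h
    rw [h, F.huy]; exact smul_inj h4 e2

theorem near_cases (hρ : Fpf ρ) {τ : G} (hτ : ρ τ = -1) (h2 : (2 : k) ≠ 0) {z : G} (hz : z ^ 3 = 1)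
    (hz1 : z ≠ 1) (hn : ac (uu ρ z) (uu ρ F.x) = (2 : k) • 1) :
    z ∈ F.grp ∨ ∃ h ∈ F.grp, F.Fam (h * z * h⁻¹) := by
  have h4 : (4 : k) ≠ 0 := fun h0 => mul_ne_zero h2 h2 (by linear_combination h0)
  have h16 : (16 : k) ≠ 0 := fun h0 => mul_ne_zero h4 h4 (by linear_combination h0)
  obtain ⟨hy2, hy3⟩ := F.uu_conj_y hρ h2
  have hmem2 : F.x * F.y * F.x⁻¹ ∈ F.grp := mul_mem (mul_mem F.x_mem F.y_mem) (inv_mem F.x_mem)
  have hmem3 : F.x⁻¹ * F.y * F.x ∈ F.grp := mul_mem (mul_mem (inv_mem F.x_mem) F.y_mem) F.x_mem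
  have hconj3 : ∀ g : G, (g * F.y * g⁻¹) ^ 3 = 1 ∧ g * F.y * g⁻¹ ≠ 1 := fun g =>
    ⟨by rw [conj_pow, F.hy, mul_one, mul_inv_cancel], by rw [ne_eq, conj_eq_one_iff]; exact F.hy1⟩
  -- the core case
  have core : ∀ z : G, z ^ 3 = 1 → z ≠ 1 → ac (uu ρ z) (uu ρ F.x) = (2 : k) • 1 →
      (ac (uu ρ z) (uu ρ F.y) = (-2 : k) • 1 ∨ ac (uu ρ z) (uu ρ F.y) = (2 : k) • 1) →
      z ∈ F.grp ∨ F.Fam z := by
    intro z hz hz1 hn hy'
    set u := uu ρ z with hu
    have huu := uu_sq hρ hz hz1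
    rw [← hu] at huu
    set a := ac u F.I with ha
    have hIu : F.I * u = a - u * F.I := by rw [ha, ac]; abel
    have hb : ac u F.S = (2 : k) • 1 - a := by
      rw [← hn, F.hux, ha]; simp only [ac, mul_add, add_mul]; abel
    have hSu : F.S * u = (2 : k) • 1 - a - u * F.S := by rw [← hb, ac]; abel
    have hua : u * a = a * u := by rw [ha, ac_comm, ac_commute huu]
    have hIa : F.I * a = a * F.I := by rw [ha, ac_commute F.hII]
    have hSa : F.S * a = a * F.S := by
      have h := ac_commute (p := u) F.hSS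
      rw [hb] at h
      simp only [sub_mul, mul_sub, smul_mul_assoc, mul_smul_comm, one_mul, mul_one] at h
      exact (sub_right_inj.1 h).symm
    have hA1 : ac u (uu ρ F.y) = (2 : k) • a - (2 : k) • 1 := by
      have e : ac u (uu ρ F.y) = a - ac u F.S := by
        rw [ha, F.huy]; simp only [ac, mul_sub, sub_mul]; abel
      rw [e, hb]; module
    rcases hy' with hy' | hy'
    · right
      have ha0 : a = 0 := smul_eq_zero' h2 (by
        rw [hy'] at hA1; linear_combination (norm := module) -hA1)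
      refine ⟨hz, hz1, ?_, ?_⟩
      · rw [← hu, hIu, ha0, zero_sub]
      · rw [← hu, hSu, ha0, sub_zero]
    · left
      have ha2 : a = (2 : k) • 1 := smul_inj h2 (by
        rw [hy'] at hA1; linear_combination (norm := module) -hA1)
      have hd := d_sq F.hII F.hSS F.hSI huu hIu hSu hua hIa hSa
      set d := ac u (F.I * F.S) with hdd
      have hd16 : d * d = (16 : k) • 1 := by
        rw [hd, ha2]
        simp only [smul_mul_assoc, mul_smul_comm, smul_smul, mul_one]
        module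
      have hA2 : ac u (uu ρ (F.x * F.y * F.x⁻¹)) = d - a := by
        rw [hy2, hdd, ha]; simp only [ac, mul_add, add_mul, mul_neg, neg_mul]; abel
      have hA3 : ac u (uu ρ (F.x⁻¹ * F.y * F.x)) = -d - a := by
        rw [hy3, hdd, ha]; simp only [ac, mul_sub, sub_mul, mul_neg, neg_mul]; abel
      rcases pair_cases hρ hτ h2 hz hz1 (hconj3 F.x).1 (hconj3 F.x).2 with h | h | h | h | h
      · exact h ▸ hmem2
      · exact inv_mem_iff.1 (h ▸ hmem2)
      · rw [← hu, hA2, ha2] at h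
        have hd0 : d = (0 : k) • 1 := by linear_combination (norm := module) h
        rw [hd0, zero_smul, mul_zero] at hd16
        exact absurd ((smul_eq_zero.1 hd16.symm).resolve_right (one_ne_zero : (1 : Module.End k V) ≠ 0)) h16
      · rw [← hu, hA2, ha2] at h
        have hd4 : d = (4 : k) • 1 := by linear_combination (norm := module) h
        have h' := pair_cases hρ hτ h2 hz hz1 (by simpa using (hconj3 F.x⁻¹).1)
          (by simpa using (hconj3 F.x⁻¹).2)
        rw [← hu, hA3, ha2, hd4] at h'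
        rcases h' with h | h | h | h | h
        · exact h ▸ hmem3
        · exact inv_mem_iff.1 (h ▸ hmem3)
        · refine (scalar_contra (V := V) (c := (-6 : k)) (d := -2) (e := -4) ?_ (by ring) (neg_ne_zero.2 h4)).elim
          rw [← h]; module
        · refine (scalar_contra (V := V) (c := (-6 : k)) (d := 2) (e := -(4 * 2)) ?_ (by ring)
            (neg_ne_zero.2 (mul_ne_zero h4 h2))).elim
          rw [← h]; module
        · refine (scalar_contra (V := V) (c := (36 : k)) (d := 20) (e := 16) ?_ (by ring) h16).elim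
          rw [← h]
          simp only [sub_mul, mul_sub, neg_mul, mul_neg, smul_mul_assoc, mul_smul_comm, smul_smul, mul_one]
          module
      · rw [← hu, hA2, ha2] at h
        simp only [sub_mul, mul_sub, smul_mul_assoc, mul_smul_comm, smul_smul, mul_one, one_mul, hd16]
          at h
        have hd0 : d = 0 := smul_eq_zero' h4 (by linear_combination (norm := module) -h)
        rw [hd0, mul_zero] at hd16
        exact absurd ((smul_eq_zero.1 hd16.symm).resolve_right (one_ne_zero : (1 : Module.End k V) ≠ 0)) h16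
  -- move the scalar to the second element of the frame
  have move : ∀ g ∈ F.grp, ρ g⁻¹ * uu ρ F.x * ρ g = uu ρ F.x →
      ∀ c : k, ac (uu ρ z) (uu ρ (g * F.y * g⁻¹)) = c • 1 → (c = -2 ∨ c = 2) →
      z ∈ F.grp ∨ ∃ h ∈ F.grp, F.Fam (h * z * h⁻¹) := by
    intro g hg hgx c hc hc2
    have hgg : ρ g⁻¹ * ρ g = 1 := by rw [← map_mul, inv_mul_cancel, map_one]
    have hgg' : ρ g * ρ g⁻¹ = 1 := by rw [← map_mul, mul_inv_cancel, map_one]
    have hz' : uu ρ (g⁻¹ * z * g) = ρ g⁻¹ * uu ρ z * ρ g := by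
      have h := uu_conj (ρ := ρ) g⁻¹ z
      rwa [inv_inv] at h
    have hacc : ∀ p q : Module.End k V, ac (ρ g⁻¹ * p * ρ g) (ρ g⁻¹ * q * ρ g) =
        ρ g⁻¹ * ac p q * ρ g := by
      intro p q
      simp only [ac, mul_assoc, assoc' hgg', one_mul, mul_add, add_mul]
    have e1 : ac (uu ρ (g⁻¹ * z * g)) (uu ρ F.x) = (2 : k) • 1 := by
      rw [hz', ← hgx, hacc, hn, mul_smul_comm, smul_mul_assoc, mul_one, hgg]
    have e2 : ac (uu ρ (g⁻¹ * z * g)) (uu ρ F.y) = c • 1 := by
      have hy' : uu ρ F.y = ρ g⁻¹ * uu ρ (g * F.y * g⁻¹) * ρ g := by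
        rw [uu_conj]; simp only [mul_assoc, hgg, mul_one, assoc' hgg, one_mul]
      rw [hz', hy', hacc, hc, mul_smul_comm, smul_mul_assoc, mul_one, hgg]
    have hmem : g⁻¹ * z * g ∈ F.grp → z ∈ F.grp := fun h => by
      have := mul_mem (mul_mem hg h) (inv_mem hg)
      rwa [show g * (g⁻¹ * z * g) * g⁻¹ = z by group] at this
    rcases core (g⁻¹ * z * g) (by
        rw [conj_inv_pow, hz, mul_one, inv_mul_cancel])
      (fun h => hz1 (by
        have e : z = g * (g⁻¹ * z * g) * g⁻¹ := by group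
        rw [e, h, mul_one, mul_inv_cancel]))
      e1 (hc2.imp (fun e => by rw [e2, e]) (fun e => by rw [e2, e])) with h | h
    · exact Or.inl (hmem h)
    · exact Or.inr ⟨g⁻¹, inv_mem hg, by rwa [inv_inv]⟩
  have hxx : ρ F.x⁻¹ * uu ρ F.x * ρ F.x = uu ρ F.x ∧ ρ F.x * uu ρ F.x * ρ F.x⁻¹ = uu ρ F.x := by
    constructor
    · have h := uu_conj (ρ := ρ) F.x⁻¹ F.x
      rw [inv_inv] at h
      rw [← h]; congr 1; group
    · rw [← uu_conj]; congr 1; group
  have c1 := pair_cases hρ hτ h2 hz hz1 F.hy F.hy1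
  have c2 := pair_cases hρ hτ h2 hz hz1 (hconj3 F.x).1 (hconj3 F.x).2
  have c3 := pair_cases hρ hτ h2 hz hz1 (by simpa using (hconj3 F.x⁻¹).1)
    (by simpa using (hconj3 F.x⁻¹).2) (y := F.x⁻¹ * F.y * F.x)
  have m1 := fun c (h : ac (uu ρ z) (uu ρ F.y) = c • 1) => move 1 (one_mem _)
    (by simp) c (by simpa using h)
  have m2 := move F.x F.x_mem hxx.1
  have m3 := fun c (h : ac (uu ρ z) (uu ρ (F.x⁻¹ * F.y * F.x)) = c • 1) =>
    move F.x⁻¹ (inv_mem F.x_mem) (by rw [inv_inv]; exact hxx.2) c (by rw [inv_inv]; exact h)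
  rcases c1 with h | h | h | h | h
  · exact Or.inl (h ▸ F.y_mem)
  · exact Or.inl (inv_mem_iff.1 (h ▸ F.y_mem))
  · exact m1 _ h (Or.inl rfl)
  · exact m1 _ h (Or.inr rfl)
  rcases c2 with h' | h' | h' | h' | h'
  · exact Or.inl (h' ▸ hmem2)
  · exact Or.inl (inv_mem_iff.1 (h' ▸ hmem2))
  · exact m2 _ h' (Or.inl rfl)
  · exact m2 _ h' (Or.inr rfl)
  rcases c3 with h'' | h'' | h'' | h'' | h''
  · exact Or.inl (h'' ▸ hmem3)
  · exact Or.inl (inv_mem_iff.1 (h'' ▸ hmem3))
  · exact m3 _ h'' (Or.inl rfl)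
  · exact m3 _ h'' (Or.inr rfl)
  exfalso
  set u := uu ρ z with hu
  have huu := uu_sq hρ hz hz1
  rw [← hu] at huu
  set a := ac u F.I with ha
  have hb : ac u F.S = (2 : k) • 1 - a := by
    rw [← hn, F.hux, ha]; simp only [ac, mul_add, add_mul]; abel
  have hua : u * a = a * u := by rw [ha, ac_comm, ac_commute huu]
  have hIa : F.I * a = a * F.I := by rw [ha, ac_commute F.hII]
  have hSa : F.S * a = a * F.S := by
    have h := ac_commute (p := u) F.hSS
    rw [hb] at h
    simp only [sub_mul, mul_sub, smul_mul_assoc, mul_smul_comm, one_mul, mul_one] at h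
    exact (sub_right_inj.1 h).symm
  have hs := near_sum F.hII F.hSS F.hSI huu
    (show F.I * u = a - u * F.I by rw [ha, ac]; abel)
    (show F.S * u = (2 : k) • 1 - a - u * F.S by rw [← hb, ac]; abel) hua hIa hSa
  have e1 : ac u (uu ρ F.y) = ac u F.I - ac u F.S := by
    rw [F.huy]; simp only [ac, mul_sub, sub_mul]; abel
  have e2 : ac u (uu ρ (F.x * F.y * F.x⁻¹)) = ac u (F.I * F.S) - ac u F.I := by
    rw [hy2]; simp only [ac, mul_add, add_mul, mul_neg, neg_mul]; abel
  have e3 : ac u (uu ρ (F.x⁻¹ * F.y * F.x)) = -ac u (F.I * F.S) - ac u F.I := by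
    rw [hy3]; simp only [ac, mul_sub, sub_mul, mul_neg, neg_mul]; abel
  rw [← e1, ← e2, ← e3, h, h', h''] at hs
  refine scalar_contra (V := V) (c := (60 : k)) (d := 44) (e := 16) ?_ (by ring) h16
  rw [← hs]; module

theorem fam_props (hρ : Fpf ρ) {z : G} (hz : F.Fam z) :
    F.jj z * F.I = F.I * F.jj z ∧ F.jj z * F.S = F.S * F.jj z ∧ F.jj z * F.jj z = (5 : k) • 1 ∧
      (2 : k) • uu ρ z = F.jj z * (F.I * F.S) - F.S := by
  obtain ⟨hz3, hz1, hI, hS⟩ := hz
  obtain ⟨e1, e2⟩ := fam_comm F.hII F.hSS F.hSI (uu_sq hρ hz3 hz1) hI hS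
  exact ⟨e1, e2, fam_sq F.hII F.hSS F.hSI (uu_sq hρ hz3 hz1) hI hS,
    fam_eq F.hII F.hSS F.hSI (uu_sq hρ hz3 hz1) hI hS⟩

theorem fam_commute (hρ : Fpf ρ) {τ : G} (hτ : ρ τ = -1) (h2 : (2 : k) ≠ 0) {z w : G} (hz : F.Fam z)
    (hw : F.Fam w) : F.jj z * F.jj w = F.jj w * F.jj z := by
  obtain ⟨hJI, hJS, hJJ, hu⟩ := F.fam_props hρ hz
  obtain ⟨hLI, hLS, hLL, hv⟩ := F.fam_props hρ hw
  have h4 : (4 : k) ≠ 0 := fun h0 => mul_ne_zero h2 h2 (by linear_combination h0)
  have h16 : (16 : k) ≠ 0 := fun h0 => mul_ne_zero h4 h4 (by linear_combination h0)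
  set J := F.jj z with hJ
  set L := F.jj w with hL
  set P := J * L + L * J with hP
  -- killing the commutator
  have kill : ∀ c : k, c ≠ 0 → c • ((J * L - L * J) * (F.I * F.S)) = 0 → J * L = L * J := by
    intro c hc h
    have h' := congrArg (· * (F.I * F.S)) (smul_eq_zero' hc h)
    simp only [mul_assoc (J * L - L * J), zero_mul, rsq_eq F.hII F.hSS F.hSI, mul_smul_comm,
      mul_one] at h'
    exact sub_eq_zero.1 (smul_eq_zero' (neg_ne_zero.2 h2) h')
  have acsmul : ∀ (c d : k) (p q : Module.End k V), ac (c • p) (d • q) = (c * d) • ac p q := by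
    intro c d p q
    simp only [ac, smul_mul_assoc, mul_smul_comm, smul_smul, smul_add, mul_comm d c]
  -- the second conjugate
  have hg : (2 : k) • ρ (F.y * F.x⁻¹) = F.S - F.I * F.S ∧
      (2 : k) • ρ (F.y * F.x⁻¹)⁻¹ = -(F.S - F.I * F.S) := by
    constructor <;> refine smul_inj h2 ?_
    · rw [smul_smul, map_mul, ← smul_mul_smul_comm, two_smul_map, two_smul_map_inv hρ F.hx F.hx1,
        F.hux, F.huy]
      simp only [add_mul, mul_add, sub_mul, mul_sub, neg_mul, mul_neg, mul_one, one_mul, F.hII, F.hSS,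
        F.hSI]
      module
    · rw [smul_smul, _root_.mul_inv_rev, inv_inv, map_mul, ← smul_mul_smul_comm, two_smul_map,
        two_smul_map_inv hρ F.hy F.hy1, F.hux, F.huy]
      simp only [add_mul, mul_add, sub_mul, mul_sub, neg_mul, mul_neg, mul_one, one_mul, F.hII, F.hSS,
        F.hSI]
      module
  set w' := F.y * F.x⁻¹ * w * (F.y * F.x⁻¹)⁻¹ with hw'
  have hv' : (2 : k) • uu ρ w' = F.I * F.S - L * F.S := by
    refine smul_inj h4 ?_
    rw [← conj_second F.hII F.hSS F.hSI hJI hJS hLI hLS hJJ hLL, ← hv, ← mul_neg, ← hg.2, ← hg.1,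
      hw', uu_conj]
    simp only [smul_mul_assoc, mul_smul_comm, smul_smul]
    module
  have hw'3 : w' ^ 3 = 1 ∧ w' ≠ 1 :=
    ⟨by rw [hw', conj_pow, hw.1, mul_one, mul_inv_cancel],
      by rw [hw', ne_eq, conj_eq_one_iff]; exact hw.2.1⟩
  have e2 : ac (J * (F.I * F.S) - F.S) (F.I * F.S - L * F.S) = (4 : k) • ac (uu ρ z) (uu ρ w') := by
    rw [← hu, ← hv', acsmul]; norm_num
  rcases pair_scalar hρ hτ h2 hz.1 hz.2.1 hw'3.1 hw'3.2 with ⟨c, hc⟩ | hsq
  · refine kill 4 h4 ?_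
    rw [← pair_two_comm F.hII F.hSS F.hSI hJI hJS hLI hLS hJJ hLL, e2, hc]
    simp only [smul_mul_assoc, mul_smul_comm, one_mul, mul_one, sub_self]
  have hE1 : P * P = (4 : k) • P + (60 : k) • 1 := by
    have h := pair_two_sq F.hII F.hSS F.hSI hJI hJS hLI hLS hJJ hLL
    rw [e2, smul_mul_smul_comm, hsq, smul_smul, ← hP] at h
    refine smul_inj h4 ?_
    linear_combination (norm := module) h
  -- the pair itself
  have e1 : (4 : k) • ac (uu ρ z) (uu ρ w) = (-4 : k) • 1 + (-2 : k) • P := by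
    rw [hP, ← pair_one F.hII F.hSS F.hSI hJI hJS hLI hLS hJJ hLL, ← hu, ← hv, acsmul]; norm_num
  have hPc : ∀ c : k, P = c • 1 → c * c - 4 * c - 60 = 0 := by
    intro c hc
    rw [hc] at hE1
    simp only [smul_mul_assoc, mul_smul_comm, smul_smul, mul_one] at hE1
    have h := scalar_inj (c := c * c) (d := 4 * c + 60) (hE1.trans (by module))
    linear_combination h
  have hP2 : P ≠ (2 : k) • 1 := fun h => mul_ne_zero h4 h16 (by linear_combination -(hPc 2 h))
  rcases pair_cases hρ hτ h2 hz.1 hz.2.1 hw.1 hw.2.1 with h | h | h | h | h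
  · rw [hJ, hL, h]
  · exfalso
    obtain ⟨-, -, -, hS'⟩ := hw
    rw [h, uu_inv hρ hz.1 hz.2.1, mul_neg, neg_mul, hz.2.2.2] at hS'
    refine scalar_contra (V := V) (c := (2 : k)) (d := -2) (e := 4) ?_ (by ring) h4
    linear_combination (norm := module) -hS'
  · exfalso
    rw [h, smul_smul] at e1
    exact hP2 (smul_inj h2 (by linear_combination (norm := module) e1))
  · -- the third conjugate
    have hP6 : P = (-6 : k) • 1 := by
      rw [h, smul_smul] at e1
      exact smul_inj h2 (by linear_combination (norm := module) e1)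
    set w'' := F.x * w * F.x⁻¹ with hw''
    have hw''3 : w'' ^ 3 = 1 ∧ w'' ≠ 1 :=
      ⟨by rw [hw'', conj_pow, hw.1, mul_one, mul_inv_cancel],
        by rw [hw'', ne_eq, conj_eq_one_iff]; exact hw.2.1⟩
    have hv'' : (8 : k) • uu ρ w'' = (-4 : k) • F.I + (-2 : k) • (F.S - F.I * F.S) +
        L * ((2 : k) • (F.S - F.I * F.S) + (-4 : k) • F.I) := by
      rw [← conj_third F.hII F.hSS F.hSI hJI hJS hLI hLS hJJ hLL, ← hv,
        show F.I + F.S - 1 = (2 : k) • ρ F.x by rw [two_smul_map, F.hux],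
        show -F.I - F.S - 1 = (2 : k) • ρ F.x⁻¹ by
          rw [two_smul_map_inv hρ F.hx F.hx1, F.hux]; abel,
        hw'', uu_conj]
      simp only [smul_mul_assoc, mul_smul_comm, smul_smul]
      norm_num
    set N := (2 : k) • L + (-2 : k) • J - (J * L - L * J) * (F.I + F.S) with hN
    have e3 : (4 : k) • ac (uu ρ z) (uu ρ w'') = (-2 : k) • 1 + P + N := by
      refine smul_inj h4 ?_
      rw [hP, hN, ← pair_three F.hII F.hSS F.hSI hJI hJS hLI hLS hJJ hLL, ← hu, ← hv'', acsmul,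
        smul_smul]
      norm_num
    rcases pair_scalar hρ hτ h2 hz.1 hz.2.1 hw''3.1 hw''3.2 with ⟨c, hc⟩ | hsq'
    · refine kill (-2) (neg_ne_zero.2 h2) ?_
      rw [← pair_three_comm F.hII F.hSS F.hSI hJI hJS hLI hLS hJJ hLL, ← hP, ← hN, ← e3, hc]
      simp only [smul_mul_assoc, mul_smul_comm, one_mul, mul_one, sub_self]
    · exfalso
      have h' := congrArg (fun t => t * t) e3
      simp only [smul_mul_smul_comm, hsq', smul_smul, hP6] at h'
      have hN2 := pair_three_sq F.hII F.hSS F.hSI hJI hJS hLI hLS hJJ hLL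
      rw [← hN, ← hP, hP6] at hN2
      simp only [smul_mul_smul_comm, mul_one, smul_smul] at hN2
      simp only [add_mul, mul_add, smul_mul_assoc, mul_smul_comm, smul_smul, mul_one, one_mul, hN2] at h'
      have hN0 : N = 0 := smul_eq_zero' h16 (by linear_combination (norm := module) h')
      rw [hN0, mul_zero] at hN2
      refine scalar_contra (V := V) (c := (256 : k)) (d := 0) (e := 16 * 16) ?_ (by ring) (mul_ne_zero h16 h16)
      rw [zero_smul, hN2]; module
  · exfalso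
    have h' := congrArg (fun t => t * t) e1
    simp only [smul_mul_smul_comm, h, smul_smul] at h'
    simp only [add_mul, mul_add, smul_mul_assoc, mul_smul_comm, smul_smul, smul_add, mul_one, one_mul,
      hE1] at h'
    refine hP2 (smul_inj (c := (32 : k)) ?_ (by linear_combination (norm := module) -h'))
    exact fun h0 => mul_ne_zero h16 h2 (by linear_combination h0)

end Frame

/-- A commuting family of endomorphisms has a common eigenvector. -/
theorem exists_common_eigen (s : Finset (Module.End k V))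
    (hs : ∀ f ∈ s, ∀ g ∈ s, f * g = g * f) :
    ∀ p : Submodule k V, p ≠ ⊥ → (∀ f ∈ s, ∀ v ∈ p, f v ∈ p) →
      ∃ v ∈ p, v ≠ 0 ∧ ∀ f ∈ s, ∃ c : k, f v = c • v := by
  classical
  induction s using Finset.induction_on with
  | empty =>
    intro p hp _
    obtain ⟨v, hv, hv0⟩ := (Submodule.ne_bot_iff p).1 hp
    exact ⟨v, hv, hv0, by simp⟩
  | insert f s _ ih =>
    intro p hp hinv
    have hf : ∀ v ∈ p, f v ∈ p := hinv f (Finset.mem_insert_self _ _)
    have : Nontrivial p := Submodule.nontrivial_iff_ne_bot.2 hp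
    obtain ⟨c, hc⟩ := Module.End.exists_eigenvalue (f.restrict hf)
    obtain ⟨⟨v, hv⟩, hev⟩ := hc.exists_hasEigenvector
    have hfv : f v = c • v := congrArg Subtype.val hev.apply_eq_smul
    have hv0 : v ≠ 0 := fun h => hev.2 (Subtype.ext h)
    obtain ⟨w, hw, hw0, hws⟩ := ih (fun a ha b hb => hs a (Finset.mem_insert_of_mem ha) b
        (Finset.mem_insert_of_mem hb)) (p ⊓ f.eigenspace c)
      ((Submodule.ne_bot_iff _).2 ⟨v, ⟨hv, Module.End.mem_eigenspace_iff.2 hfv⟩, hv0⟩)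
      (fun g hg x hx => ⟨hinv g (Finset.mem_insert_of_mem hg) x hx.1, Module.End.mem_eigenspace_iff.2 (by
        rw [← Module.End.mul_apply, hs f (Finset.mem_insert_self _ _) g (Finset.mem_insert_of_mem hg),
          Module.End.mul_apply, Module.End.mem_eigenspace_iff.1 hx.2, map_smul])⟩)
    refine ⟨w, hw.1, hw0, fun g hg => ?_⟩
    rcases Finset.mem_insert.1 hg with rfl | hg
    · exact ⟨c, Module.End.mem_eigenspace_iff.1 hw.2⟩
    · exact hws g hg

/-- The endomorphisms leaving a subspace invariant. -/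
def stabAlg (W : Submodule k V) : Subalgebra k (Module.End k V) where
  carrier := {f | ∀ v ∈ W, f v ∈ W}
  mul_mem' hf hg v hv := hf _ (hg v hv)
  add_mem' hf hg v hv := W.add_mem (hf v hv) (hg v hv)
  algebraMap_mem' c v hv := by simpa [Algebra.algebraMap_eq_smul_one] using W.smul_mem c hv

theorem far_identities {u v A : Module.End k V} (huu : u * u = (-3 : k) • 1)
    (hvv : v * v = (-3 : k) • 1) (huv : u * v = A - v * u) (huA : u * A = A * u)
    (hvA : v * A = A * v) (hAA : A * A = (20 : k) • 1) :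
    ac v ((u - 1) * v * (-u - 1)) = (-8 : k) • 1 ∧ ac v ((-u - 1) * v * (u - 1)) = (-8 : k) • 1 ∧
    (-2 : k) • ((u - 1) * v * (-u - 1) + (-u - 1) * v * (u - 1)) + (-8 : k) • v = (4 : k) • (A * u) ∧
    (u - 1) * v * (-u - 1) - (-u - 1) * v * (u - 1) = (2 : k) • (v * u - u * v) ∧
    A * (v * (v * u - u * v)) = (-6 : k) • (A * u) + (-20 : k) • v ∧
    A * (v * (v * u - u * v)) * (v * (v * u - u * v)) = (-48 : k) • A ∧
    (-6 : k) • u = v * (v * u - u * v) + A * v := by
  refine ⟨?_, ?_, ?_, ?_, ?_, ?_, ?_⟩ <;>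
  · simp only [ac, add_mul, mul_add, sub_mul, mul_sub, neg_mul, mul_neg, mul_assoc, smul_mul_assoc,
      mul_smul_comm, smul_add, smul_sub, smul_neg, neg_neg, smul_smul, mul_one, one_mul,
      huu, assoc' huu, hvv, assoc' hvv, huv, assoc' huv, huA, assoc' huA, hvA, assoc' hvA, hAA,
      assoc' hAA]
    try module

/-- Conjugates in the far case are near. -/
theorem far_near (hρ : Fpf ρ) (h2 : (2 : k) ≠ 0) {x z : G} (hx : x ^ 3 = 1) (hx1 : x ≠ 1)
    (hz : z ^ 3 = 1) (hz1 : z ≠ 1)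
    (hA : ac (uu ρ z) (uu ρ x) * ac (uu ρ z) (uu ρ x) = (20 : k) • 1) :
    ac (uu ρ x) (uu ρ (z * x * z⁻¹)) = (-2 : k) • 1 ∧ ac (uu ρ x) (uu ρ (z⁻¹ * x * z)) = (-2 : k) • 1 ∧
    ∀ W : Subalgebra k (Module.End k V), uu ρ x ∈ W → uu ρ (z * x * z⁻¹) ∈ W →
      uu ρ (z⁻¹ * x * z) ∈ W → uu ρ z ∈ W := by
  have h4 : (4 : k) ≠ 0 := fun h0 => mul_ne_zero h2 h2 (by linear_combination h0)
  set u := uu ρ z with hu
  set v := uu ρ x with hv
  have huu : u * u = (-3 : k) • 1 := uu_sq hρ hz hz1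
  have hvv : v * v = (-3 : k) • 1 := uu_sq hρ hx hx1
  set A := ac u v with hA'
  have huA : u * A = A * u := by rw [hA', ac_comm, ac_commute huu]
  have hvA : v * A = A * v := by rw [hA', ac_commute hvv]
  obtain ⟨f1, f2, f3, f4, f5, f6, f7⟩ := far_identities huu hvv
    (show u * v = A - v * u by rw [hA', ac]; abel) huA hvA hA
  have c1 : (4 : k) • uu ρ (z * x * z⁻¹) = (u - 1) * v * (-u - 1) := by
    rw [uu_conj, ← hv, hu, ← two_smul_map, ← two_smul_map_inv hρ hz hz1]
    simp only [smul_mul_assoc, mul_smul_comm, smul_smul]; norm_num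
  have c2 : (4 : k) • uu ρ (z⁻¹ * x * z) = (-u - 1) * v * (u - 1) := by
    have h := uu_conj (ρ := ρ) z⁻¹ x
    rw [inv_inv] at h
    rw [h, ← hv, hu, ← two_smul_map, ← two_smul_map_inv hρ hz hz1]
    simp only [smul_mul_assoc, mul_smul_comm, smul_smul]; norm_num
  rw [← c1] at f1
  rw [← c2] at f2
  rw [← c1, ← c2] at f3 f4
  refine ⟨smul_inj h4 ?_, smul_inj h4 ?_, fun W hvW h1 h2' => ?_⟩
  · simp only [ac, mul_smul_comm, smul_mul_assoc, ← smul_add] at f1 ⊢
    rw [f1, smul_smul]; norm_num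
  · simp only [ac, mul_smul_comm, smul_mul_assoc, ← smul_add] at f2 ⊢
    rw [f2, smul_smul]; norm_num
  have hAu : A * u ∈ W := by
    have h := W.smul_mem (W.add_mem (W.smul_mem (W.add_mem (W.smul_mem h1 (4 : k))
      (W.smul_mem h2' (4 : k))) (-2 : k)) (W.smul_mem hvW (-8 : k))) ((4 : k)⁻¹)
    rwa [f3, smul_smul, inv_mul_cancel₀ h4, one_smul] at h
  have hC : v * u - u * v ∈ W := by
    have h := W.smul_mem (W.sub_mem (W.smul_mem h1 (4 : k)) (W.smul_mem h2' (4 : k))) ((2 : k)⁻¹)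
    rwa [f4, smul_smul, inv_mul_cancel₀ h2, one_smul] at h
  have hM : v * (v * u - u * v) ∈ W := W.mul_mem hvW hC
  have h3 : (3 : k) ≠ 0 := by
    have h : orderOf x ∣ Nat.card G := orderOf_dvd_natCard x
    rw [orderOf_eq_prime hx hx1] at h
    exact_mod_cast hρ.natCast_ne_zero h
  have h48 : (-48 : k) ≠ 0 := fun h0 =>
    mul_ne_zero (mul_ne_zero h4 h4) h3 (by linear_combination -h0)
  have hAW : A ∈ W := by
    have h := W.mul_mem (f5 ▸ W.add_mem (W.smul_mem hAu (-6 : k)) (W.smul_mem hvW (-20 : k))) hM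
    rw [f6] at h
    have h' := W.smul_mem h (-48 : k)⁻¹
    rwa [smul_smul, inv_mul_cancel₀ h48, one_smul] at h'
  have h := W.smul_mem (W.add_mem hM (W.mul_mem hAW hvW)) ((-6 : k)⁻¹)
  have h6 : (-6 : k) ≠ 0 := fun h0 => mul_ne_zero h2 h3 (by linear_combination -h0)
  rwa [← f7, smul_smul, inv_mul_cancel₀ h6, one_smul] at h

theorem plane_of_frame (hρ : Fpf ρ) {τ : G} (hτ : ρ τ = -1) (h2 : (2 : k) ≠ 0) (F : Frame ρ) :
    ∃ ι : (Fin 2 → k) →ₗ[k] V, Function.Injective ι ∧
      ∀ z : G, z ^ 3 = 1 → z ∈ planeGroup ρ ι := by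
  classical
  let _ : Fintype G := Fintype.ofFinite G
  let fam : Finset G := Finset.univ.filter fun z => F.Fam z
  -- a common eigenvector
  obtain ⟨ξ, -, hξ, hξs⟩ := exists_common_eigen (insert F.I (fam.image F.jj)) (by
    intro f hf g hg
    simp only [Finset.mem_insert, Finset.mem_image, fam, Finset.mem_filter, Finset.mem_univ,
      true_and] at hf hg
    rcases hf with rfl | ⟨z, hz, rfl⟩ <;> rcases hg with rfl | ⟨w, hw, rfl⟩
    · rfl
    · exact (F.fam_props hρ hw).1.symm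
    · exact (F.fam_props hρ hz).1
    · exact F.fam_commute hρ hτ h2 hz hw) ⊤ top_ne_bot (fun _ _ _ _ => Submodule.mem_top)
  obtain ⟨i, hi⟩ := hξs F.I (Finset.mem_insert_self _ _)
  have hii : i * i = -1 := by
    have h := congrArg (fun f : Module.End k V => f ξ) F.hII
    simp only [Module.End.mul_apply, hi, map_smul, smul_smul, LinearMap.smul_apply,
      Module.End.one_apply] at h
    exact smul_left_injective k hξ h
  have hS2 : F.S (F.S ξ) = (-2 : k) • ξ := by
    have h := congrArg (fun f : Module.End k V => f ξ) F.hSS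
    simpa using h
  have hIS : F.I (F.S ξ) = (-i) • F.S ξ := by
    have h := congrArg (fun f : Module.End k V => f ξ) F.hSI
    simp only [Module.End.mul_apply, LinearMap.neg_apply, hi, map_smul] at h
    rw [neg_smul, h, neg_neg]
  let ι : (Fin 2 → k) →ₗ[k] V :=
    (LinearMap.proj 0).smulRight ξ + (LinearMap.proj 1).smulRight (F.S ξ)
  have hι : Function.Injective ι := by
    rw [← LinearMap.ker_eq_bot, LinearMap.ker_eq_bot']
    intro z hz
    simp only [ι, LinearMap.add_apply, LinearMap.smulRight_apply, LinearMap.proj_apply] at hz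
    have h1 : z 1 = 0 := by
      by_contra h
      have hc : F.S ξ = (-(z 1)⁻¹ * z 0) • ξ := by
        have := congrArg (fun t => (z 1)⁻¹ • t) hz
        simp only [smul_add, smul_smul, inv_mul_cancel₀ h, one_smul, smul_zero] at this
        linear_combination (norm := module) this
      generalize -(z 1)⁻¹ * z 0 = c at hc
      rw [hc, map_smul, hi] at hIS
      rw [hc, map_smul, hc] at hS2
      simp only [smul_smul] at hIS hS2
      have e1 : c * i = -i * c := smul_left_injective k hξ hIS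
      have e2 : c * c = -2 := smul_left_injective k hξ hS2
      exact mul_ne_zero h2 h2 (by linear_combination (c * i) * e1 - 2 * (i * i) * e2 + 4 * hii)
    rw [h1, zero_smul, add_zero, smul_eq_zero] at hz
    ext j
    fin_cases j
    exacts [hz.resolve_right hξ, h1]
  set W := LinearMap.range ι with hW
  have hξW : ξ ∈ W := ⟨![1, 0], by simp [ι]⟩
  have hSξW : F.S ξ ∈ W := ⟨![0, 1], by simp [ι]⟩
  have mk : ∀ f : Module.End k V, f ξ ∈ W → f (F.S ξ) ∈ W → f ∈ stabAlg W := by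
    rintro f h0 h1 v ⟨z, rfl⟩
    simp only [ι, LinearMap.add_apply, LinearMap.smulRight_apply, LinearMap.proj_apply, map_add,
      map_smul]
    exact W.add_mem (W.smul_mem _ h0) (W.smul_mem _ h1)
  have hIW : F.I ∈ stabAlg W :=
    mk _ (hi ▸ W.smul_mem _ hξW) (hIS ▸ W.smul_mem _ hSξW)
  have hSW : F.S ∈ stabAlg W := mk _ hSξW (hS2 ▸ W.smul_mem _ hξW)
  have grpW : ∀ g, uu ρ g ∈ stabAlg W → ρ g ∈ stabAlg W := by
    intro g hg
    have h := (stabAlg W).smul_mem ((stabAlg W).sub_mem hg (one_mem _)) (2 : k)⁻¹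
    rwa [← two_smul_map, smul_smul, inv_mul_cancel₀ h2, one_smul] at h
  have uuW : ∀ g, ρ g ∈ stabAlg W → uu ρ g ∈ stabAlg W := fun g hg =>
    (stabAlg W).add_mem ((stabAlg W).smul_mem hg _) (one_mem _)
  let P : Subgroup G :=
    { carrier := {g | ρ g ∈ stabAlg W}
      one_mem' := by change ρ 1 ∈ stabAlg W; rw [map_one]; exact one_mem _
      mul_mem' := fun {a b} ha hb => by
        change ρ (a * b) ∈ stabAlg W; rw [map_mul]; exact (stabAlg W).mul_mem ha hb
      inv_mem' := fun {a} ha => by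
        change ρ a⁻¹ ∈ stabAlg W
        rw [show a⁻¹ = a ^ (orderOf a - 1) by
          rw [inv_eq_iff_mul_eq_one, ← pow_succ', Nat.sub_add_cancel (orderOf_pos a), pow_orderOf_eq_one],
          map_pow]
        exact pow_mem ha _ }
  have hgrp : F.grp ≤ P := by
    rw [Frame.grp, Subgroup.closure_le, Set.insert_subset_iff, Set.singleton_subset_iff]
    exact ⟨grpW _ (F.hux ▸ (stabAlg W).add_mem hIW hSW), grpW _ (F.huy ▸ (stabAlg W).sub_mem hIW hSW)⟩
  have hfam : ∀ z, F.Fam z → z ∈ P := by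
    intro z hz
    refine grpW z ?_
    obtain ⟨-, hJS, -, hu⟩ := F.fam_props hρ hz
    obtain ⟨c, hc⟩ := hξs (F.jj z) (Finset.mem_insert_of_mem (Finset.mem_image_of_mem _
      (Finset.mem_filter.2 ⟨Finset.mem_univ _, hz⟩)))
    have hJW : F.jj z ∈ stabAlg W := by
      refine mk _ (hc ▸ W.smul_mem _ hξW) ?_
      rw [← Module.End.mul_apply, hJS, Module.End.mul_apply, hc, map_smul]
      exact W.smul_mem _ hSξW
    have h := (stabAlg W).smul_mem ((stabAlg W).sub_mem
      ((stabAlg W).mul_mem hJW ((stabAlg W).mul_mem hIW hSW)) hSW) (2 : k)⁻¹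
    rwa [← hu, smul_smul, inv_mul_cancel₀ h2, one_smul] at h
  have hnear : ∀ z, z ^ 3 = 1 → z ≠ 1 → ac (uu ρ z) (uu ρ F.x) = (2 : k) • 1 → z ∈ P := by
    intro z hz hz1 hn
    rcases F.near_cases hρ hτ h2 hz hz1 hn with h | ⟨g, hg, h⟩
    · exact hgrp h
    · have h' := P.mul_mem (P.mul_mem (P.inv_mem (hgrp hg)) (hfam _ h)) (hgrp hg)
      rwa [show g⁻¹ * (g * z * g⁻¹) * g = z by group] at h'
  have hnear' : ∀ z, z ^ 3 = 1 → z ≠ 1 → ac (uu ρ F.x) (uu ρ z) = (-2 : k) • 1 → z ∈ P := by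
    intro z hz hz1 hn
    have hi3 : z⁻¹ ^ 3 = 1 := by rw [inv_pow, hz, inv_one]
    have h := hnear z⁻¹ hi3 (inv_ne_one.2 hz1) (by
      rw [ac_comm, uu_inv hρ hz hz1]
      simp only [ac, mul_neg, neg_mul] at hn ⊢
      linear_combination (norm := module) -hn)
    exact P.inv_mem_iff.1 h
  have hall : ∀ z : G, z ^ 3 = 1 → z ∈ P := by
    intro z hz
    by_cases hz1 : z = 1
    · exact hz1 ▸ P.one_mem
    rcases pair_cases hρ hτ h2 F.hx F.hx1 hz hz1 with h | h | h | h | h
    · exact h ▸ hgrp F.x_mem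
    · exact h ▸ P.inv_mem (hgrp F.x_mem)
    · exact hnear' z hz hz1 h
    · exact hnear z hz hz1 (by rw [ac_comm]; exact h)
    · rw [ac_comm] at h
      obtain ⟨e1, e2, e3⟩ := far_near hρ h2 F.hx F.hx1 hz hz1 h
      have q1 : (z * F.x * z⁻¹) ^ 3 = 1 ∧ z * F.x * z⁻¹ ≠ 1 :=
        ⟨by rw [conj_pow, F.hx, mul_one, mul_inv_cancel], by rw [ne_eq, conj_eq_one_iff]; exact F.hx1⟩
      have q2 : (z⁻¹ * F.x * z) ^ 3 = 1 ∧ z⁻¹ * F.x * z ≠ 1 := by
        constructor
        · rw [conj_inv_pow, F.hx, mul_one, inv_mul_cancel]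
        · intro e
          have e' : F.x = z * (z⁻¹ * F.x * z) * z⁻¹ := by group
          rw [e, mul_one, mul_inv_cancel] at e'
          exact F.hx1 e'
      exact grpW z (e3 (stabAlg W) (uuW _ (hgrp F.x_mem)) (uuW _ (hnear' _ q1.1 q1.2 e1))
        (uuW _ (hnear' _ q2.1 q2.2 e2)))
  refine ⟨ι, hι, fun z hz => ?_⟩
  by_cases hz1 : z = 1
  · exact hz1 ▸ one_mem _
  obtain ⟨π, hπ⟩ := LinearMap.exists_leftInverse_of_injective ι (LinearMap.ker_eq_bot.2 hι)
  have hM : ∀ v, ρ z (ι v) = ι (LinearMap.toMatrix' (π ∘ₗ ρ z ∘ₗ ι) *ᵥ v) := by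
    intro v
    rw [LinearMap.toMatrix'_mulVec]
    obtain ⟨v', hv'⟩ := hall z hz (ι v) ⟨v, rfl⟩
    rw [LinearMap.comp_apply, LinearMap.comp_apply, ← hv', ← LinearMap.comp_apply π ι, hπ,
      LinearMap.id_apply]
  refine (mem_planeGroup_of_cube hρ hι hz hz1 hM fun c hc => ?_).1
  have hscal : ∀ v ∈ W, ρ z v = c • v := by
    rintro _ ⟨v, rfl⟩
    rw [hM, hc, Matrix.smul_mulVec, Matrix.one_mulVec, map_smul]
  have hcomm : ∀ g ∈ P, z * g = g * z := by
    intro g hg
    refine mul_inv_eq_one.1 (hρ _ (ρ (g * z) ξ) ?_ ?_)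
    · intro h0
      have h1 := congrArg (ρ (g * z)⁻¹) h0
      rw [← Module.End.mul_apply, ← map_mul, inv_mul_cancel, map_one, Module.End.one_apply,
        map_zero] at h1
      exact hξ h1
    · rw [← Module.End.mul_apply, ← map_mul, inv_mul_cancel_right, map_mul, map_mul,
        Module.End.mul_apply, Module.End.mul_apply, hscal _ (hg ξ hξW), hscal ξ hξW, map_smul]
  have ne : uu ρ F.x ≠ uu ρ F.y ∧ uu ρ F.x ≠ -uu ρ F.y := by
    rw [F.hux, F.huy]
    constructor <;> intro h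
    · have hS0 : F.S = 0 := smul_eq_zero' h2 (by linear_combination (norm := module) h)
      have h' := F.hSS
      rw [hS0, mul_zero] at h'
      exact neg_ne_zero.2 h2 ((smul_eq_zero.1 h'.symm).resolve_right (one_ne_zero : (1 : Module.End k V) ≠ 0))
    · have hI0 : F.I = 0 := smul_eq_zero' h2 (by linear_combination (norm := module) h)
      have h' := F.hII
      rw [hI0, mul_zero] at h'
      exact neg_ne_zero.2 (one_ne_zero) ((smul_eq_zero.1 h'.symm).resolve_right (one_ne_zero : (1 : Module.End k V) ≠ 0))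
  rcases commute_cases hρ F.hx F.hx1 hz hz1 (hcomm _ (hgrp F.x_mem)).symm with e | e <;>
    rcases commute_cases hρ F.hy F.hy1 hz hz1 (hcomm _ (hgrp F.y_mem)).symm with e' | e'
  · exact ne.1 (congrArg (uu ρ) (e.symm.trans e'))
  · refine ne.2 ?_
    rw [e.symm.trans e', uu_inv hρ F.hy F.hy1]
  · refine ne.2 ?_
    rw [← e'.symm.trans e |>.symm, uu_inv hρ F.hx F.hx1, neg_neg]
  · exact ne.1 (congrArg (uu ρ) (inv_injective (e.symm.trans e')))

theorem exists_plane_all (hρ : Fpf ρ) {τ : G} (hτ : ρ τ = -1) (h2 : (2 : k) ≠ 0) {x y : G}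
    (hx : x ^ 3 = 1) (hy : y ^ 3 = 1) (hxy : x * y ≠ y * x) :
    ∃ ι : (Fin 2 → k) →ₗ[k] V, Function.Injective ι ∧
      ∀ z : G, z ^ 3 = 1 → z ∈ planeGroup ρ ι := by
  have hx1 : x ≠ 1 := by rintro rfl; simp at hxy
  have hy1 : y ≠ 1 := by rintro rfl; simp at hxy
  have near : ∀ y : G, y ^ 3 = 1 → y ≠ 1 → ac (uu ρ x) (uu ρ y) = (-2 : k) • 1 →
      ∃ ι : (Fin 2 → k) →ₗ[k] V, Function.Injective ι ∧
        ∀ z : G, z ^ 3 = 1 → z ∈ planeGroup ρ ι := by
    intro y hy hy1 h
    obtain ⟨F, -, -⟩ := exists_frame hρ h2 hx hx1 (y := y⁻¹) (by rw [inv_pow, hy, inv_one])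
      (inv_ne_one.2 hy1) (by
        rw [uu_inv hρ hy hy1]
        simp only [ac, mul_neg, neg_mul] at h ⊢
        linear_combination (norm := module) -h)
    exact plane_of_frame hρ hτ h2 F
  rcases pair_cases hρ hτ h2 hx hx1 hy hy1 with h | h | h | h | h
  · exact absurd (by rw [h]) hxy
  · exact absurd (by rw [h]; group) hxy
  · exact near y hy hy1 h
  · obtain ⟨F, -, -⟩ := exists_frame hρ h2 hx hx1 hy hy1 h
    exact plane_of_frame hρ hτ h2 F
  · rw [ac_comm] at h
    refine near (y * x * y⁻¹) (by rw [conj_pow, hx, mul_one, mul_inv_cancel])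
      (by rw [ne_eq, conj_eq_one_iff]; exact hx1) (far_near hρ h2 hx hx1 hy hy1 h).1

end CfsgLib.Perm.Zass
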