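import Mathlib

/-!
Finite subgroups of `SL(2)` of coprime order containing two non-commuting elements of order three:
the class equation on fixed lines.
-/

namespace CfsgLib.Perm.Zass

open Matrix

theorem three_orbits {N a b c : ℕ} (ha : 2 ≤ a) (hb : 2 ≤ b) (hc : 2 ≤ c) (hab : a ≤ b) (hbc : b ≤ c)
    {A B C : ℕ} (hA : a * A = N) (hB : b * B = N) (hC : c * C = N) (h : A + B + C = N + 2) :
    (a = 2 ∧ b = 2 ∧ C = 2) ∨ (a = 2 ∧ b = 3 ∧ ((c = 3 ∧ N = 12) ∨ (c = 4 ∧ N = 24) ∨ (c = 5 ∧ N = 60))) := by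
  have hN : 0 < N := by
    rcases Nat.eq_zero_or_pos N with h0 | h0
    · subst h0
      have : A = 0 := by nlinarith
      have : B = 0 := by nlinarith
      have : C = 0 := by nlinarith
      omega
    · exact h0
  have hAB : B ≤ A := by
    by_contra hh
    push Not at hh
    nlinarith
  have hBC : C ≤ B := by
    by_contra hh
    push Not at hh
    nlinarith
  have ha2 : a = 2 := by
    by_contra hh
    have : 3 * A ≤ N := by rw [← hA]; exact Nat.mul_le_mul_right A (by omega)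
    omega
  subst ha2
  have hb3 : b ≤ 3 := by
    by_contra hh
    have : 4 * B ≤ N := by rw [← hB]; exact Nat.mul_le_mul_right B (by omega)
    omega
  interval_cases b
  · left; exact ⟨rfl, rfl, by omega⟩
  · right
    refine ⟨rfl, rfl, ?_⟩
    have hc5 : c ≤ 5 := by
      by_contra hh
      have : 6 * C ≤ N := by rw [← hC]; exact Nat.mul_le_mul_right C (by omega)
      omega
    interval_cases c <;> omega

theorem three_orbits_sym {N a b c A B C : ℕ} (ha : 2 ≤ a) (hb : 2 ≤ b) (hc : 2 ≤ c)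
    (hA : a * A = N) (hB : b * B = N) (hC : c * C = N) (h : A + B + C = N + 2) :
    ((a = 2 ∧ b = 2 ∧ C = 2) ∨ (a = 2 ∧ c = 2 ∧ B = 2) ∨ (b = 2 ∧ c = 2 ∧ A = 2)) ∨
      ((N = 12 ∨ N = 24 ∨ N = 60) ∧ a ≤ 5 ∧ b ≤ 5 ∧ c ≤ 5) := by
  rcases le_total a b with hab | hab <;> rcases le_total b c with hbc | hbc
  · rcases three_orbits ha hb hc hab hbc hA hB hC h with h' | h' <;> [left; right] <;> omega
  · rcases le_total a c with hac | hac
    · rcases three_orbits ha hc hb hac hbc hA hC hB (by omega) with h' | h' <;> [left; right] <;> omega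
    · rcases three_orbits hc ha hb hac hab hC hA hB (by omega) with h' | h' <;> [left; right] <;> omega
  · rcases le_total a c with hac | hac
    · rcases three_orbits hb ha hc hab hac hB hA hC (by omega) with h' | h' <;> [left; right] <;> omega
    · rcases three_orbits hb hc ha hbc hac hB hC hA (by omega) with h' | h' <;> [left; right] <;> omega
  · rcases three_orbits hc hb ha hbc hab hC hB hA (by omega) with h' | h' <;> [left; right] <;> omega

variable {k : Type*} [Field k] [IsAlgClosed k]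

local notation "SL₂" => Matrix.SpecialLinearGroup (Fin 2) k

/-- Eigenvector. -/
def IsEig (g : SL₂) (v : Fin 2 → k) : Prop := v ≠ 0 ∧ ∃ c : k, g.1 *ᵥ v = c • v

theorem sl_sq_eq (g : SL₂) : g.1 * g.1 = (g.1 0 0 + g.1 1 1) • g.1 - 1 := by
  have hd : g.1 0 0 * g.1 1 1 - g.1 0 1 * g.1 1 0 = 1 := by
    rw [← Matrix.det_fin_two]; exact g.2
  ext i j
  fin_cases i <;> fin_cases j <;> simp [Matrix.mul_apply, Fin.sum_univ_two] <;>
    first | ring1 | linear_combination hd | linear_combination -hd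

/-- The characteristic equation at an eigenvalue. -/
theorem eig_eq {g : SL₂} {v : Fin 2 → k} {c : k} (hv : v ≠ 0) (h : g.1 *ᵥ v = c • v) :
    c * c - (g.1 0 0 + g.1 1 1) * c + 1 = 0 := by
  have h1 := congrArg (fun M => M *ᵥ v) (sl_sq_eq g)
  simp only [← Matrix.mulVec_mulVec, Matrix.sub_mulVec, Matrix.smul_mulVec, Matrix.one_mulVec, h,
    Matrix.mulVec_smul, smul_smul] at h1
  obtain ⟨i, hi⟩ := Function.ne_iff.1 hv
  have h2 := congrFun h1 i
  simp only [Pi.smul_apply, Pi.sub_apply, smul_eq_mul] at h2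
  have h3 : (c * c - (g.1 0 0 + g.1 1 1) * c + 1) * v i = 0 := by linear_combination h2
  exact (mul_eq_zero.1 h3).resolve_right hi

theorem exists_eig_of_root (g : SL₂) {c : k} (hc : c * c - (g.1 0 0 + g.1 1 1) * c + 1 = 0) :
    ∃ v : Fin 2 → k, v ≠ 0 ∧ g.1 *ᵥ v = c • v := by
  have hd : g.1 0 0 * g.1 1 1 - g.1 0 1 * g.1 1 0 = 1 := by
    rw [← Matrix.det_fin_two]; exact g.2
  have hdet : (g.1 - c • (1 : Matrix (Fin 2) (Fin 2) k)).det = 0 := by
    rw [Matrix.det_fin_two]
    simp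
    linear_combination hd + hc
  obtain ⟨v, hv, hv0⟩ := Matrix.exists_mulVec_eq_zero_iff.2 hdet
  refine ⟨v, hv, ?_⟩
  rw [Matrix.sub_mulVec, Matrix.smul_mulVec, Matrix.one_mulVec, sub_eq_zero] at hv0
  exact hv0

/-- A non-scalar element of finite order prime to the characteristic has two distinct eigenvalues. -/
theorem exists_two_eigen (g : SL₂) {n : ℕ} (hn : g ^ n = 1) (hk : (n : k) ≠ 0) (hg1 : g.1 ≠ 1)
    (hg2 : g.1 ≠ -1) : ∃ (a b : k) (v w : Fin 2 → k), a ≠ b ∧ v ≠ 0 ∧ w ≠ 0 ∧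
      g.1 *ᵥ v = a • v ∧ g.1 *ᵥ w = b • w ∧ a * b = 1 := by
  set t := g.1 0 0 + g.1 1 1 with ht
  obtain ⟨a, ha⟩ : ∃ a : k, a * a - t * a + 1 = 0 := by
    obtain ⟨a, ha⟩ := IsAlgClosed.exists_root
      (Polynomial.X ^ 2 - Polynomial.C t * Polynomial.X + 1 : Polynomial k) (by
        have : (Polynomial.X ^ 2 - Polynomial.C t * Polynomial.X + 1 : Polynomial k).degree = 2 := by
          compute_degree!
        rw [this]; decide)
    exact ⟨a, by simpa [pow_two] using ha⟩
  have hb : (t - a) * (t - a) - t * (t - a) + 1 = 0 := by linear_combination ha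
  by_cases hab : a = t - a
  · exfalso
    -- `a` is the only eigenvalue, `a * a = 1`
    have haa : a * a = 1 := by linear_combination -ha + a * hab
    set M := g.1 - a • (1 : Matrix (Fin 2) (Fin 2) k) with hM
    have hMM : M * M = 0 := by
      simp only [hM, sub_mul, mul_sub, Matrix.smul_mul, Matrix.mul_smul, one_mul, mul_one, smul_smul,
        sl_sq_eq g, haa, one_smul, ← ht]
      rw [show t • g.1 = a • g.1 + a • g.1 by rw [← add_smul]; congr 1; linear_combination -hab]
      abel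
    have hgM : g.1 = a • (1 : Matrix (Fin 2) (Fin 2) k) + M := by simp [hM]
    have hpow : ∀ m : ℕ, g.1 ^ (m + 1) = a ^ (m + 1) • 1 + ((m + 1 : ℕ) * a ^ m) • M := by
      intro m
      induction m with
      | zero => simp [← hgM]
      | succ m ih =>
        rw [pow_succ, ih, hgM]
        simp only [add_mul, mul_add, Matrix.smul_mul, Matrix.mul_smul, one_mul, mul_one, smul_smul,
          hMM, smul_zero, add_zero]
        rw [add_assoc, ← add_smul]
        congr 2 <;> push_cast <;> ring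
    obtain ⟨m, rfl⟩ : ∃ m, n = m + 1 :=
      ⟨n - 1, by rcases Nat.eq_zero_or_pos n with rfl | h; exact absurd Nat.cast_zero hk; omega⟩
    have h1 := hpow m
    rw [← Matrix.SpecialLinearGroup.coe_pow, hn, Matrix.SpecialLinearGroup.coe_one] at h1
    have h3 : ((m + 1 : ℕ) * a ^ m : k) • M * M = 0 := by rw [Matrix.smul_mul, hMM, smul_zero]
    have ha1 : a = 1 ∨ a = -1 := mul_self_eq_one_iff.1 haa
    by_cases hM0 : M = 0
    · rw [hgM, hM0, add_zero] at hg1 hg2
      rcases ha1 with rfl | rfl <;> simp at hg1 hg2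
    · have hane : a ≠ 0 := fun h0 => by simp [h0] at haa
      have h4 : ((m + 1 : ℕ) * a ^ m : k) • M = (1 - a ^ (m + 1)) • 1 := by
        rw [sub_smul, one_smul, eq_sub_iff_add_eq, add_comm, ← h1]
      rw [Matrix.smul_mul] at h3
      have h5 : ((1 - a ^ (m + 1)) • (1 : Matrix (Fin 2) (Fin 2) k)) * M = 0 := by
        rw [← h4, Matrix.smul_mul, hMM, smul_zero]
      rw [Matrix.smul_mul, one_mul, smul_eq_zero] at h5
      rw [(h5.resolve_right hM0), zero_smul, smul_eq_zero] at h4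
      exact mul_ne_zero (by exact_mod_cast hk) (pow_ne_zero _ hane) (h4.resolve_right hM0)
  · obtain ⟨v, hv, hgv⟩ := exists_eig_of_root g ha
    obtain ⟨w, hw, hgw⟩ := exists_eig_of_root g hb
    exact ⟨a, t - a, v, w, hab, hv, hw, hgv, hgw, by linear_combination -ha⟩

open Submodule in
/-- Eigenvectors of an element with two eigenvalues lie on two lines. -/
theorem eig_mem_line {g : SL₂} {a b : k} {v w u : Fin 2 → k} (hab : a ≠ b) (hv : v ≠ 0) (hw : w ≠ 0)
    (hgv : g.1 *ᵥ v = a • v) (hgw : g.1 *ᵥ w = b • w) (hu : u ≠ 0) {c : k} (hgu : g.1 *ᵥ u = c • u) :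
    span k {u} = span k {v} ∨ span k {u} = span k {w} := by
  have hli : LinearIndependent k ![v, w] := by
    rw [LinearIndependent.pair_iff]
    intro s s' h
    have h' := congrArg (fun z => g.1 *ᵥ z - b • z) h
    simp only [Matrix.mulVec_add, Matrix.mulVec_smul, hgv, hgw, Matrix.mulVec_zero, smul_zero,
      sub_zero, smul_add] at h'
    have h'' : (s * (a - b)) • v = 0 := by
      rw [← h']; module
    have hs : s = 0 := by
      rcases mul_eq_zero.1 ((smul_eq_zero.1 h'').resolve_right hv) with h0 | h0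
      · exact h0
      · exact absurd (sub_eq_zero.1 h0) hab
    subst hs
    rw [zero_smul, zero_add] at h
    exact ⟨rfl, (smul_eq_zero.1 h).resolve_right hw⟩
  have hspan : span k (Set.range ![v, w]) = ⊤ :=
    hli.span_eq_top_of_card_eq_finrank (by simp)
  have hu' : u ∈ span k (Set.range ![v, w]) := hspan ▸ mem_top
  rw [mem_span_range_iff_exists_fun] at hu'
  obtain ⟨f, hf⟩ := hu'
  simp only [Fin.sum_univ_two, Matrix.cons_val_zero, Matrix.cons_val_one] at hf
  have h1 : (f 0 * (a - c)) • v + (f 1 * (b - c)) • w = 0 := by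
    have h' := congrArg (fun z => g.1 *ᵥ z - c • z) hf
    simp only [Matrix.mulVec_add, Matrix.mulVec_smul, hgv, hgw, hgu, sub_self] at h'
    rw [← h']; module
  obtain ⟨ha0, hb0⟩ := LinearIndependent.pair_iff.1 hli _ _ h1
  rcases mul_eq_zero.1 ha0 with h0 | h0
  · right
    rw [h0, zero_smul, zero_add] at hf
    rw [← hf]
    refine Submodule.span_singleton_smul_eq (IsUnit.mk0 _ fun h => hu ?_) w
    rw [← hf, h, zero_smul]
  · rcases mul_eq_zero.1 hb0 with h2 | h2
    · left
      rw [h2, zero_smul, add_zero] at hf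
      rw [← hf]
      refine Submodule.span_singleton_smul_eq (IsUnit.mk0 _ fun h => hu ?_) v
      rw [← hf, h, zero_smul]
    · exact absurd ((sub_eq_zero.1 h0).trans (sub_eq_zero.1 h2).symm) hab

/-- The line spanned by a vector, moved by a matrix. -/
theorem line_map_span (g : SL₂) (v : Fin 2 → k) :
    (Submodule.span k {v}).map (Matrix.toLin' g.1) = Submodule.span k {g.1 *ᵥ v} := by
  rw [Submodule.map_span, Set.image_singleton, Matrix.toLin'_apply]

theorem line_map_mul (g h : SL₂) (L : Submodule k (Fin 2 → k)) :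
    L.map (Matrix.toLin' (g * h).1) = (L.map (Matrix.toLin' h.1)).map (Matrix.toLin' g.1) := by
  rw [← Submodule.map_comp, ← Matrix.toLin'_mul]
  rfl

theorem mulVec_ne_zero (g : SL₂) {v : Fin 2 → k} (hv : v ≠ 0) : g.1 *ᵥ v ≠ 0 := fun h => hv (by
  have := congrArg (fun z => (g⁻¹).1 *ᵥ z) h
  simp only [Matrix.mulVec_mulVec, Matrix.mulVec_zero] at this
  rwa [← Matrix.SpecialLinearGroup.coe_mul, inv_mul_cancel, Matrix.SpecialLinearGroup.coe_one,
    Matrix.one_mulVec] at this)

variable (K : Subgroup (Matrix.SpecialLinearGroup (Fin 2) k))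

/-- Lines fixed by a non-central element of `K`. -/
def Poles : Set (Submodule k (Fin 2 → k)) :=
  {L | ∃ g ∈ K, g ≠ 1 ∧ g ≠ -1 ∧ ∃ v, IsEig g v ∧ L = Submodule.span k {v}}

theorem poles_invariant : ∀ h : K, ∀ L ∈ Poles K, L.map (Matrix.toLin' (h : SL₂).1) ∈ Poles K := by
  rintro ⟨h, hh⟩ _ ⟨g, hg, hg1, hg2, v, ⟨hv, c, hgv⟩, rfl⟩
  refine ⟨h * g * h⁻¹, K.mul_mem (K.mul_mem hh hg) (K.inv_mem hh), ?_, ?_, h.1 *ᵥ v,
    ⟨mulVec_ne_zero h hv, c, ?_⟩, line_map_span h v⟩
  · rwa [ne_eq, conj_eq_one_iff]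
  · intro e
    apply hg2
    have e' : g = h⁻¹ * (-1) * h := by rw [← e]; group
    rw [e']
    apply Subtype.ext
    simp [← Matrix.SpecialLinearGroup.coe_mul]
  · rw [← Matrix.mulVec_smul, ← hgv, Matrix.mulVec_mulVec, Matrix.mulVec_mulVec,
      ← Matrix.SpecialLinearGroup.coe_mul, ← Matrix.SpecialLinearGroup.coe_mul, inv_mul_cancel_right]

instance : MulAction K (Poles K) where
  smul h L := ⟨L.1.map (Matrix.toLin' (h : SL₂).1), poles_invariant K h L.1 L.2⟩
  one_smul L := Subtype.ext (by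
    change L.1.map (Matrix.toLin' (1 : Matrix (Fin 2) (Fin 2) k)) = L.1
    rw [Matrix.toLin'_one, Submodule.map_id])
  mul_smul g h L := Subtype.ext (line_map_mul (g : SL₂) (h : SL₂) L.1)

theorem hsmul (h : K) (L : Poles K) : (h • L : Poles K).1 = L.1.map (Matrix.toLin' (h : SL₂).1) := rfl

theorem scalar_smul : ∀ g : K, ((g : SL₂) = 1 ∨ (g : SL₂) = -1) → ∀ L : Poles K, g • L = L := by
  intro g hg L
  refine Subtype.ext ?_
  rw [hsmul]
  rcases hg with h | h
  · rw [h]
    change L.1.map (Matrix.toLin' (1 : Matrix (Fin 2) (Fin 2) k)) = L.1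
    rw [Matrix.toLin'_one, Submodule.map_id]
  · rw [h]
    change L.1.map (Matrix.toLin' (-1 : Matrix (Fin 2) (Fin 2) k)) = L.1
    rw [map_neg, Matrix.toLin'_one, Submodule.map_neg, Submodule.map_id]

variable {K} [Finite K]

theorem exists_eigen_of_mem (hk : (Nat.card K : k) ≠ 0) {g : SL₂} (hg : g ∈ K) (h1 : g ≠ 1)
    (h1' : g ≠ -1) : ∃ (a b : k) (v w : Fin 2 → k), a ≠ b ∧ v ≠ 0 ∧ w ≠ 0 ∧
      g.1 *ᵥ v = a • v ∧ g.1 *ᵥ w = b • w ∧ a * b = 1 :=
  exists_two_eigen g (n := Nat.card K)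
    (congrArg Subtype.val (pow_card_eq_one' (x := (⟨g, hg⟩ : K)))) hk
    (fun h => h1 (Subtype.ext (by simpa using h))) (fun h => h1' (Subtype.ext (by simpa using h)))

theorem eq_one_or_neg_of_sq (hk : (Nat.card K : k) ≠ 0) :
    ∀ g ∈ K, g * g = 1 → g = 1 ∨ g = -1 := by
  intro g hg hgg
  by_contra h
  push Not at h
  obtain ⟨a, b, v, w, hab, hv, hw, hgv, hgw, hab1⟩ := exists_eigen_of_mem hk hg h.1 h.2
  have e : ∀ (c : k) (z : Fin 2 → k), z ≠ 0 → g.1 *ᵥ z = c • z → c * c = 1 := by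
    intro c z hz hgz
    have h1 := congrArg (fun M : SL₂ => M.1 *ᵥ z) hgg
    simp only [Matrix.SpecialLinearGroup.coe_mul, Matrix.SpecialLinearGroup.coe_one,
      ← Matrix.mulVec_mulVec, hgz, Matrix.mulVec_smul, smul_smul, Matrix.one_mulVec] at h1
    have h2' : (c * c - 1) • z = 0 := by rw [sub_smul, h1, one_smul, sub_self]
    exact sub_eq_zero.1 ((smul_eq_zero.1 h2').resolve_right hz)
  exact hab (mul_left_cancel₀ (fun h0 : a = 0 => by simp [h0] at hab1)
    ((e a v hv hgv).trans hab1.symm))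

theorem exists_two_fixed (hk : (Nat.card K : k) ≠ 0) : ∀ g : K, (g : SL₂) ≠ 1 → (g : SL₂) ≠ -1 →
    ∃ p q : Poles K, p ≠ q ∧ ∀ L : Poles K, g • L = L ↔ (L = p ∨ L = q) := by
  rintro ⟨g, hg⟩ h1 h1'
  obtain ⟨a, b, v, w, hab, hv, hw, hgv, hgw, hab1⟩ := exists_eigen_of_mem hk hg h1 h1'
  have ha0 : a ≠ 0 := fun h0 => by simp [h0] at hab1
  have hb0 : b ≠ 0 := fun h0 => by simp [h0] at hab1
  refine ⟨⟨_, g, hg, h1, h1', v, ⟨hv, a, hgv⟩, rfl⟩, ⟨_, g, hg, h1, h1', w, ⟨hw, b, hgw⟩, rfl⟩,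
    fun e => hab ?_, fun L => ⟨fun hL => ?_, ?_⟩⟩
  · have hvw : v ∈ Submodule.span k {w} := by
      rw [← show Submodule.span k {v} = Submodule.span k {w} from congrArg Subtype.val e]
      exact Submodule.mem_span_singleton_self v
    obtain ⟨r, hr⟩ := Submodule.mem_span_singleton.1 hvw
    have : a • v = b • v := by rw [← hgv, ← hr, Matrix.mulVec_smul, hgw, smul_comm]
    have h0 : (a - b) • v = 0 := by rw [sub_smul, this, sub_self]
    exact sub_eq_zero.1 ((smul_eq_zero.1 h0).resolve_right hv)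
  · obtain ⟨L, g', hg', hg1', hg2', u, ⟨hu, c, hgu'⟩, rfl⟩ := L
    have hmap : (Submodule.span k {u}).map (Matrix.toLin' g.1) = Submodule.span k {u} :=
      congrArg Subtype.val hL
    rw [line_map_span] at hmap
    obtain ⟨d, hd⟩ := Submodule.mem_span_singleton.1
      (hmap ▸ Submodule.mem_span_singleton_self (g.1 *ᵥ u))
    rcases eig_mem_line hab hv hw hgv hgw hu hd.symm with h | h
    · exact Or.inl (Subtype.ext h)
    · exact Or.inr (Subtype.ext h)
  · rintro (rfl | rfl)
    · refine Subtype.ext ?_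
      rw [hsmul K]
      change (Submodule.span k {v}).map (Matrix.toLin' g.1) = Submodule.span k {v}
      rw [line_map_span, hgv, Submodule.span_singleton_smul_eq (IsUnit.mk0 _ ha0)]
    · refine Subtype.ext ?_
      rw [hsmul K]
      change (Submodule.span k {w}).map (Matrix.toLin' g.1) = Submodule.span k {w}
      rw [line_map_span, hgw, Submodule.span_singleton_smul_eq (IsUnit.mk0 _ hb0)]

theorem finite_poles (hk : (Nat.card K : k) ≠ 0) : Finite (Poles K) := by
  have htwo := exists_two_fixed hk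
  let Ω := Σ g : {g : K // (g : SL₂) ≠ 1 ∧ (g : SL₂) ≠ -1}, Bool
  refine Finite.of_surjective (fun s : Ω => if s.2 then (htwo s.1.1 s.1.2.1 s.1.2.2).choose
    else (htwo s.1.1 s.1.2.1 s.1.2.2).choose_spec.choose) ?_
  rintro ⟨L, g, hg, hg1, hg2, v, ⟨hv, c, hgv⟩, rfl⟩
  set L : (Poles K) := ⟨_, g, hg, hg1, hg2, v, ⟨hv, c, hgv⟩, rfl⟩ with hL
  have hc0 : c ≠ 0 := by
    rintro rfl
    exact mulVec_ne_zero g hv (by rw [hgv, zero_smul])
  have hgL : (⟨g, hg⟩ : K) • L = L := Subtype.ext (by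
    rw [hsmul]
    change (Submodule.span k {v}).map (Matrix.toLin' g.1) = Submodule.span k {v}
    rw [line_map_span, hgv, Submodule.span_singleton_smul_eq (IsUnit.mk0 _ hc0)])
  rcases ((htwo ⟨g, hg⟩ hg1 hg2).choose_spec.choose_spec.2 L).1 hgL with h | h
  · exact ⟨⟨⟨⟨g, hg⟩, hg1, hg2⟩, true⟩, h.symm⟩
  · exact ⟨⟨⟨⟨g, hg⟩, hg1, hg2⟩, false⟩, h.symm⟩

theorem commute_of_fixed : ∀ (g h : K) (p q : Poles K), p ≠ q → g • p = p → g • q = q → h • p = p →
    h • q = q → (g : SL₂) * h = h * g := by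
  intro g h p q hpq hgp hgq hhp hhq
  obtain ⟨_, _, _, _, v, ⟨hv, -⟩, hp⟩ := p.2
  obtain ⟨_, _, _, _, w, ⟨hw, -⟩, hq⟩ := q.2
  have heig : ∀ (g : K) (v : Fin 2 → k) (L : Poles K), L.1 = Submodule.span k {v} →
      g • L = L → ∃ a : k, (g : SL₂).1 *ᵥ v = a • v := by
    intro g v L hL hfix
    have hm := congrArg Subtype.val hfix
    rw [hsmul K, hL, line_map_span] at hm
    obtain ⟨d, hd⟩ := Submodule.mem_span_singleton.1 (hm ▸ Submodule.mem_span_singleton_self _)
    exact ⟨d, hd.symm⟩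
  obtain ⟨a, hga⟩ := heig g v p hp hgp
  obtain ⟨a', hha⟩ := heig h v p hp hhp
  obtain ⟨b, hgb⟩ := heig g w q hq hgq
  obtain ⟨b', hhb⟩ := heig h w q hq hhq
  have hli : LinearIndependent k ![v, w] := by
    rw [linearIndependent_fin2]
    refine ⟨hw, fun r hr => hpq (Subtype.ext ?_)⟩
    simp only [Matrix.cons_val_zero, Matrix.cons_val_one] at hr
    rw [hp, hq, ← hr, Submodule.span_singleton_smul_eq (IsUnit.mk0 _ fun h0 => hv (by rw [← hr, h0, zero_smul]))]
  refine Subtype.ext (Matrix.toLin'.injective ?_)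
  refine LinearMap.ext_on (s := Set.range ![v, w]) (hli.span_eq_top_of_card_eq_finrank (by simp)) ?_
  rintro _ ⟨i, rfl⟩
  fin_cases i
  · change ((g : SL₂).1 * (h : SL₂).1) *ᵥ v = ((h : SL₂).1 * (g : SL₂).1) *ᵥ v
    rw [← Matrix.mulVec_mulVec, ← Matrix.mulVec_mulVec, hha, hga, Matrix.mulVec_smul,
      Matrix.mulVec_smul, hha, hga, smul_smul, smul_smul, mul_comm]
  · change ((g : SL₂).1 * (h : SL₂).1) *ᵥ w = ((h : SL₂).1 * (g : SL₂).1) *ᵥ w
    rw [← Matrix.mulVec_mulVec, ← Matrix.mulVec_mulVec, hhb, hgb, Matrix.mulVec_smul,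
      Matrix.mulVec_smul, hhb, hgb, smul_smul, smul_smul, mul_comm]

/-- The data of one orbit of lines. -/
theorem exists_orbit_data (hk : (Nat.card K : k) ≠ 0) (h2 : (2 : k) ≠ 0) (hneg : (-1 : SL₂) ∈ K)
    (o : MulAction.orbitRel.Quotient K (Poles K)) :
    ∃ e, 2 ≤ e ∧ 2 * e * Nat.card (MulAction.orbitRel.Quotient.orbit o) = Nat.card K ∧
      ∀ L ∈ MulAction.orbitRel.Quotient.orbit o, Nat.card (MulAction.stabilizer K L) = 2 * e := by
  have hne : (1 : SL₂) ≠ -1 := fun h => h2 (by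
    have := congrArg (fun M : SL₂ => M.1 0 0) h
    simp at this
    linear_combination this)
  have := finite_poles hk
  have hsq := eq_one_or_neg_of_sq hk
  induction o using Quotient.inductionOn' with
  | h L =>
  have hst : ∀ L' ∈ MulAction.orbit K L,
      Nat.card (MulAction.orbit K L) * Nat.card (MulAction.stabilizer K L') = Nat.card K := by
    intro L' hL'
    rw [← MulAction.orbit_eq_iff.2 hL', Nat.card_coe_set_eq, ← MulAction.index_stabilizer,
      Subgroup.index_mul_card]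
  have hneg' : (⟨-1, hneg⟩ : K) ∈ MulAction.stabilizer K L := scalar_smul K _ (Or.inr rfl) L
  have h2dvd : 2 ∣ Nat.card (MulAction.stabilizer K L) := by
    have hord : orderOf (⟨-1, hneg⟩ : K) = 2 := by
      refine orderOf_eq_prime (Subtype.ext ?_) fun e => hne (congrArg Subtype.val e).symm
      simp [pow_two]
    have := Subgroup.orderOf_dvd_natCard _ hneg'
    rwa [hord] at this
  obtain ⟨e, he⟩ := h2dvd
  refine ⟨e, ?_, ?_, ?_⟩
  · obtain ⟨L, g, hg, hg1, hg2, v, ⟨hv, c, hgv⟩, rfl⟩ := L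
    set L : (Poles K) := ⟨_, g, hg, hg1, hg2, v, ⟨hv, c, hgv⟩, rfl⟩
    by_contra hlt
    have he0 : 0 < e := by
      have : 0 < Nat.card (MulAction.stabilizer K L) := Nat.card_pos
      omega
    have hc0 : c ≠ 0 := by
      rintro rfl
      exact mulVec_ne_zero g hv (by rw [hgv, zero_smul])
    have hgL : (⟨g, hg⟩ : K) ∈ MulAction.stabilizer K L := Subtype.ext (by
      rw [hsmul K]
      change (Submodule.span k {v}).map (Matrix.toLin' g.1) = Submodule.span k {v}
      rw [line_map_span, hgv, Submodule.span_singleton_smul_eq (IsUnit.mk0 _ hc0)])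
    have hord := Subgroup.orderOf_dvd_natCard _ hgL
    rw [he, show e = 1 by omega, mul_one] at hord
    have hg2' := congrArg Subtype.val (orderOf_dvd_iff_pow_eq_one.1 hord)
    rcases hsq g hg (by simpa [pow_two] using hg2') with h | h
    · exact hg1 h
    · exact hg2 h
  · rw [MulAction.orbitRel.Quotient.orbit_mk, ← he, mul_comm]
    exact hst L (MulAction.mem_orbit_self L)
  · intro L' hL'
    rw [MulAction.orbitRel.Quotient.orbit_mk] at hL'
    have h1 := hst L' hL'
    have h2 := hst L (MulAction.mem_orbit_self L)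
    rw [← he]
    have hpos : 0 < Nat.card (MulAction.orbit K L) :=
      have : Nonempty (MulAction.orbit K L) := ⟨⟨L, MulAction.mem_orbit_self L⟩⟩
      Nat.card_pos
    exact Nat.eq_of_mul_eq_mul_left hpos (h1.trans h2.symm)

set_option maxHeartbeats 1000000 in
/-- Finite subgroups of `SL₂` of coprime order containing `-1` and two non-commuting elements of
order three. -/
theorem finite_sl_two (hk : (Nat.card K : k) ≠ 0) (h2 : (2 : k) ≠ 0)
    (hneg : (-1 : SL₂) ∈ K) {x y : SL₂} (hx : x ∈ K) (hy : y ∈ K) (hx3 : x ^ 3 = 1) (hy3 : y ^ 3 = 1)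
    (hxy : x * y ≠ y * x) :
    (Nat.card K = 24 ∨ Nat.card K = 48 ∨ Nat.card K = 120) ∧
      ∀ g ∈ K, ∃ e : ℕ, 1 ≤ e ∧ e ≤ 5 ∧ (g ^ e = 1 ∨ g ^ e = -1) := by
  classical
  have hne : (1 : SL₂) ≠ -1 := fun h => h2 (by
    have := congrArg (fun M : SL₂ => M.1 0 0) h
    simp at this
    linear_combination this)
  have := finite_poles hk
  have hsq := eq_one_or_neg_of_sq hk
  have htwo := exists_two_fixed hk
  let _ : Fintype K := Fintype.ofFinite K
  let _ : Fintype (Poles K) := Fintype.ofFinite _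
  let Ω := MulAction.orbitRel.Quotient K (Poles K)
  let _ : Fintype Ω := Fintype.ofFinite Ω
  have hscalar := scalar_smul K
  have hcomm := commute_of_fixed (K := K)
  -- class equation
  have hP2 : ∀ g : K, (g : SL₂) ≠ 1 → (g : SL₂) ≠ -1 → Fintype.card (MulAction.fixedBy (Poles K) g) = 2 := by
    intro g h1 h1'
    obtain ⟨p, q, hpq, h⟩ := htwo g h1 h1'
    rw [Fintype.card_of_finset' ({p, q} : Finset (Poles K)) (fun L => by simpa using (h L).symm),
      Finset.card_pair hpq]
  have hxne : x ≠ 1 ∧ x ≠ -1 := by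
    constructor
    · rintro rfl; exact hxy (by simp)
    · rintro rfl; exact hxy (by simp)
  have hyne : y ≠ 1 ∧ y ≠ -1 := by
    constructor
    · rintro rfl; exact hxy (by simp)
    · rintro rfl; exact hxy (by simp)
  set N := Nat.card K
  have hB := MulAction.sum_card_fixedBy_eq_card_orbits_mul_card_group K (Poles K)
  have hsum : ∑ g : K, Fintype.card (MulAction.fixedBy (Poles K) g) + 4 =
      2 * Fintype.card (Poles K) + 2 * N := by
    let c1 : K := 1
    let c2 : K := ⟨-1, hneg⟩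
    have hc : c1 ≠ c2 := fun e => hne (congrArg Subtype.val e)
    have hfull : ∀ g : K, ((g : SL₂) = 1 ∨ (g : SL₂) = -1) →
        Fintype.card (MulAction.fixedBy (Poles K) g) = Fintype.card (Poles K) := fun g hg =>
      Fintype.card_congr (Equiv.subtypeUnivEquiv (hscalar g hg))
    have hrest : ∀ g ∈ Finset.univ \ ({c1, c2} : Finset K),
        Fintype.card (MulAction.fixedBy (Poles K) g) = 2 := by
      intro g hg
      simp only [Finset.mem_sdiff, Finset.mem_univ, true_and, Finset.mem_insert,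
        Finset.mem_singleton, not_or] at hg
      exact hP2 g (fun e => hg.1 (Subtype.ext e)) (fun e => hg.2 (Subtype.ext e))
    have hN : N = Fintype.card K := Nat.card_eq_fintype_card
    have hle : 2 ≤ Fintype.card K := Fintype.one_lt_card_iff.2 ⟨c1, c2, hc⟩
    rw [← Finset.sum_sdiff (Finset.subset_univ ({c1, c2} : Finset K)), Finset.sum_pair hc,
      hfull c1 (Or.inl rfl), hfull c2 (Or.inr rfl), Finset.sum_congr rfl hrest,
      Finset.sum_const, Finset.card_univ_sdiff, Finset.card_pair hc, smul_eq_mul]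
    omega
  rw [hB, ← Nat.card_eq_fintype_card (α := K)] at hsum
  have horb : ∀ o : Ω, ∃ e, 2 ≤ e ∧ 2 * e * Nat.card (MulAction.orbitRel.Quotient.orbit o) = N ∧
      ∀ L ∈ MulAction.orbitRel.Quotient.orbit o, Nat.card (MulAction.stabilizer K L) = 2 * e :=
    exists_orbit_data hk h2 hneg
  choose e he2 heN hest using horb
  have hPsum : Fintype.card (Poles K) = ∑ o : Ω, Nat.card (MulAction.orbitRel.Quotient.orbit o) := by
    rw [← Nat.card_eq_fintype_card, Nat.card_congr (MulAction.selfEquivSigmaOrbits' K (Poles K)),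
      Nat.card_sigma]
  let O : Ω → ℕ := fun o => Nat.card (MulAction.orbitRel.Quotient.orbit o)
  change Fintype.card (Poles K) = ∑ o : Ω, O o at hPsum
  have hsum' : Fintype.card Ω * N + 4 = 2 * ∑ o : Ω, O o + 2 * N := by rw [← hPsum]; exact hsum
  -- the points of `x` and `y`
  obtain ⟨p₁, q₁, hpq₁, hx'⟩ := htwo ⟨x, hx⟩ hxne.1 hxne.2
  obtain ⟨p₂, q₂, hpq₂, hy'⟩ := htwo ⟨y, hy⟩ hyne.1 hyne.2
  have hnot : ∀ S : Finset (Poles K), S.card ≤ 2 → ¬ (p₁ ∈ S ∧ q₁ ∈ S ∧ p₂ ∈ S ∧ q₂ ∈ S) := by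
    rintro S hS ⟨h1, h2', h3, h4⟩
    have e1 : ({p₁, q₁} : Finset (Poles K)) = S := Finset.eq_of_subset_of_card_le
      (by simp [Finset.insert_subset_iff, h1, h2']) (by rw [Finset.card_pair hpq₁]; exact hS)
    rw [← e1] at h3 h4
    simp only [Finset.mem_insert, Finset.mem_singleton] at h3 h4
    apply hxy
    refine hcomm ⟨x, hx⟩ ⟨y, hy⟩ p₁ q₁ hpq₁ ((hx' _).2 (Or.inl rfl)) ((hx' _).2 (Or.inr rfl)) ?_ ?_
    · refine (hy' _).2 ?_
      rcases h3 with rfl | rfl
      · exact Or.inl rfl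
      · rcases h4 with rfl | rfl
        · exact Or.inr rfl
        · exact absurd rfl hpq₂
    · refine (hy' _).2 ?_
      rcases h4 with rfl | rfl
      · rcases h3 with rfl | rfl
        · exact absurd rfl hpq₂
        · exact Or.inl rfl
      · exact Or.inr rfl
  have hNpos : 0 < N := Nat.card_pos
  have hO : ∀ o, 4 * O o ≤ N ∧ 1 ≤ O o := by
    intro o
    have h1 := heN o
    have h2' := he2 o
    have : 0 < O o := by
      rcases Nat.eq_zero_or_pos (O o) with h | h
      · simp only [O] at h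
        rw [h, mul_zero] at h1
        omega
      · exact h
    exact ⟨by rw [← h1]; exact Nat.mul_le_mul_right _ (by omega), this⟩
  have hr : Fintype.card Ω = 2 ∨ Fintype.card Ω = 3 := by
    have h1 : ∑ o : Ω, 4 * O o ≤ ∑ o : Ω, N := Finset.sum_le_sum fun o _ => (hO o).1
    rw [← Finset.mul_sum, Finset.sum_const, Finset.card_univ, smul_eq_mul] at h1
    have h3 : Fintype.card Ω ≤ ∑ o : Ω, O o := by
      have := Finset.sum_le_sum (s := Finset.univ) (fun (o : Ω) _ => (hO o).2)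
      simpa using this
    rcases Nat.lt_or_ge (Fintype.card Ω) 2 with hlt | hge
    · exfalso
      have hpos : 0 < Fintype.card Ω := Fintype.card_pos_iff.2 ⟨Quotient.mk'' p₁⟩
      interval_cases hc : Fintype.card Ω <;> omega
    · rcases Nat.lt_or_ge 3 (Fintype.card Ω) with hgt | hle
      · exfalso
        have : 4 * N ≤ Fintype.card Ω * N := Nat.mul_le_mul_right N hgt
        omega
      · omega
  rcases hr with hr | hr
  · exfalso
    have hP : Fintype.card (Poles K) = 2 := by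
      rw [hr] at hsum
      omega
    exact hnot Finset.univ (by rw [Finset.card_univ, hP]) (by simp)
  obtain ⟨o₁, o₂, o₃, h12, h13, h23, huniv⟩ := Finset.card_eq_three.1 (Finset.card_univ.trans hr)
  rw [huniv, Finset.sum_insert (by simp [h12, h13]), Finset.sum_pair h23, hr] at hsum'
  have hN2 : 2 ∣ N := ⟨e o₁ * O o₁, by rw [← heN o₁]; ring⟩
  obtain ⟨M, hM⟩ := hN2
  have hA : ∀ o, e o * O o = M := fun o => by
    have := heN o
    rw [mul_assoc, hM] at this
    exact Nat.eq_of_mul_eq_mul_left (by norm_num) this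
  have hcases := three_orbits_sym (he2 o₁) (he2 o₂) (he2 o₃) (hA o₁) (hA o₂) (hA o₃) (by omega)
  have hmemorb : ∀ o : Ω, ∀ L : (Poles K), Quotient.mk'' L = o →
      L ∈ MulAction.orbitRel.Quotient.orbit o := by
    rintro o L rfl
    rw [MulAction.orbitRel.Quotient.orbit_mk]
    exact MulAction.mem_orbit_self L
  have h3e : ∀ (g : K), (g : SL₂) ^ 3 = 1 → (g : SL₂) ≠ 1 → ∀ L : (Poles K), g • L = L →
      3 ∣ 2 * e (Quotient.mk'' L) := by
    intro g hg3 hg1 L hL
    rw [← hest _ L (hmemorb _ L rfl)]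
    have hord : orderOf g = 3 := orderOf_eq_prime (Subtype.ext (by simpa using hg3))
      fun h => hg1 (congrArg Subtype.val h)
    exact hord ▸ Subgroup.orderOf_dvd_natCard _ hL
  rcases hcases with hdih | ⟨hN, h5⟩
  · exfalso
    obtain ⟨o, hoO, ho⟩ : ∃ o : Ω, O o = 2 ∧ ∀ o', o' ≠ o → e o' = 2 := by
      rcases hdih with ⟨ha, hb, hc⟩ | ⟨ha, hb, hc⟩ | ⟨ha, hb, hc⟩
      · refine ⟨o₃, hc, fun o' ho' => ?_⟩
        have := (huniv ▸ Finset.mem_univ o' : o' ∈ ({o₁, o₂, o₃} : Finset Ω))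
        simp only [Finset.mem_insert, Finset.mem_singleton] at this
        rcases this with rfl | rfl | rfl
        exacts [ha, hb, absurd rfl ho']
      · refine ⟨o₂, hc, fun o' ho' => ?_⟩
        have := (huniv ▸ Finset.mem_univ o' : o' ∈ ({o₁, o₂, o₃} : Finset Ω))
        simp only [Finset.mem_insert, Finset.mem_singleton] at this
        rcases this with rfl | rfl | rfl
        exacts [ha, absurd rfl ho', hb]
      · refine ⟨o₁, hc, fun o' ho' => ?_⟩
        have := (huniv ▸ Finset.mem_univ o' : o' ∈ ({o₁, o₂, o₃} : Finset Ω))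
        simp only [Finset.mem_insert, Finset.mem_singleton] at this
        rcases this with rfl | rfl | rfl
        exacts [absurd rfl ho', ha, hb]
    let S : Finset (Poles K) := Finset.univ.filter fun L => Quotient.mk'' L = o
    refine hnot S ?_ ?_
    · have h1 : S.card ≤ O o := by
        simp only [O]
        rw [Nat.card_coe_set_eq, Set.ncard_eq_toFinset_card']
        refine Finset.card_le_card fun L hL => ?_
        rw [Set.mem_toFinset]
        exact hmemorb o L (Finset.mem_filter.1 hL).2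
      omega
    · have key : ∀ g : K, (g : SL₂) ^ 3 = 1 → (g : SL₂) ≠ 1 → ∀ L : (Poles K), g • L = L → L ∈ S := by
        intro g hg3 hg1 L hL
        refine Finset.mem_filter.2 ⟨Finset.mem_univ L, by_contra fun hne' => ?_⟩
        have := h3e g hg3 hg1 L hL
        rw [ho _ hne'] at this
        norm_num at this
      exact ⟨key ⟨x, hx⟩ hx3 hxne.1 p₁ ((hx' _).2 (Or.inl rfl)),
        key ⟨x, hx⟩ hx3 hxne.1 q₁ ((hx' _).2 (Or.inr rfl)),
        key ⟨y, hy⟩ hy3 hyne.1 p₂ ((hy' _).2 (Or.inl rfl)),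
        key ⟨y, hy⟩ hy3 hyne.1 q₂ ((hy' _).2 (Or.inr rfl))⟩
  refine ⟨by omega, fun g hg => ?_⟩
  by_cases hg1 : g = 1
  · exact ⟨1, le_rfl, by norm_num, Or.inl (by rw [hg1, one_pow])⟩
  by_cases hg2 : g = -1
  · exact ⟨1, le_rfl, by norm_num, Or.inr (by rw [hg2, pow_one])⟩
  obtain ⟨p, q, hpq, hg'⟩ := htwo ⟨g, hg⟩ hg1 hg2
  refine ⟨e (Quotient.mk'' p), (by have := he2 (Quotient.mk'' p); omega), ?_, hsq _ (K.pow_mem hg _) ?_⟩
  · have := (huniv ▸ Finset.mem_univ _ : (Quotient.mk'' p : Ω) ∈ ({o₁, o₂, o₃} : Finset Ω))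
    simp only [Finset.mem_insert, Finset.mem_singleton] at this
    rcases this with h | h | h <;> rw [h] <;> omega
  · have hmem : (⟨g, hg⟩ : K) ∈ MulAction.stabilizer K p := (hg' p).2 (Or.inl rfl)
    have := Subgroup.orderOf_dvd_natCard _ hmem
    rw [hest _ p (hmemorb _ p rfl), orderOf_dvd_iff_pow_eq_one] at this
    rw [← pow_add, ← two_mul]
    exact congrArg Subtype.val this


end CfsgLib.Perm.Zass
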